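import Cfsg.Agent.Hayden48.Basic

/-!
# The normalizer of `J` and its action
-/

set_option autoImplicit false

namespace CfsgLib.Hayden48

open Matrix
open CfsgLib.HeisenbergSL (SL23 det2 upper negOne)

/-- The element `ε upper β` of `SL(2,3)` for `ε = ±1`. -/
def borel (ε : ZMod 3) (β : ZMod 3) : SL23 := if ε = 1 then upper β else negOne * upper β

theorem borel_conj : ∀ ε β k : ZMod 3, ε ≠ 0 → borel ε β * upper k = upper k * borel ε β := by
  decide +kernel

theorem conj_entries : ∀ ε β p q x z' k : ZMod 3, ε ≠ 0 →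
    (![p, q] + (borel ε β).1 *ᵥ ![x, 0]) =
        ![(wmap ε q (x, z', k)).1, 0] + (upper k).1 *ᵥ ![p, q] ∧
      z' - det2 ![p, q] ((borel ε β).1 *ᵥ ![x, 0]) =
        (wmap ε q (x, z', k)).2.1 - det2 ![(wmap ε q (x, z', k)).1, 0] ((upper k).1 *ᵥ ![p, q]) := by
  decide +kernel

theorem norm_entries : ∀ a b c d : ZMod 3, a * d - b * c = 1 → c = 0 →
    ∃ ε β : ZMod 3, ε ≠ 0 ∧ !![a, b; c, d] = (borel ε β).1 := by decide +kernel

theorem mulVec_low : ∀ a b c d p q x y : ZMod 3, (∃ k : ZMod 3,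
    ![p, q] + !![a, b; c, d] *ᵥ ![1, 0] = ![x, y] + (upper k).1 *ᵥ ![p, q] ∧
      !![a, b; c, d] * (1 : Matrix (Fin 2) (Fin 2) (ZMod 3)) = (upper k).1 * !![a, b; c, d]) →
    y = 0 → c = 0 := by decide +kernel

theorem wmap_fix : ∀ p : V3, wmap 1 1 p = p → p.1 = 0 ∧ p.2.2 = 0 := by decide +kernel

theorem wmap_id : ∀ ε q : ZMod 3, ε ≠ 0 → (∀ p : V3, wmap ε q p = p) → ε = 1 ∧ q = 0 := by
  decide +kernel

namespace Hyp

variable {G : Type*} [Group G] (h : Hyp G)

/-- The normalizer of `J`. -/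
def H : Subgroup G := Subgroup.normalizer (h.J : Set G)

theorem conj_mem {g x : G} (hg : g ∈ h.H) (hx : x ∈ h.J) : g * x * g⁻¹ ∈ h.J :=
  (Subgroup.mem_normalizer_iff.1 hg x).1 hx

theorem mem_H_of_conj [Finite G] {g : G} (hg : ∀ x ∈ h.J, g * x * g⁻¹ ∈ h.J) : g ∈ h.H :=
  Subgroup.mem_normalizer_fintype hg

theorem J_le_H : h.J ≤ h.H := Subgroup.le_normalizer

/-- An element of `C` whose matrix is upper triangular acts on `J` by `wmap`. -/
theorem P_conj (v : Fin 2 → ZMod 3) (z ε β : ZMod 3) (hε : ε ≠ 0) (p : V3) :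
    h.P v z (borel ε β) * h.jj p * (h.P v z (borel ε β))⁻¹ = h.jj (wmap ε (v 1) p) := by
  rw [mul_inv_eq_iff_eq_mul, jj, jj, h.mul, h.mul]
  obtain ⟨x, z', k⟩ := p
  have hv : v = ![v 0, v 1] := by ext i; fin_cases i <;> rfl
  obtain ⟨e1, e2⟩ := conj_entries ε β (v 0) (v 1) x z' k hε
  rw [← hv] at e1 e2
  have e3 : (wmap ε (v 1) (x, z', k)).2.2 = k := rfl
  rw [e3, borel_conj ε β k hε]
  congr 1
  linear_combination e2

theorem P_borel_mem [Finite G] (v : Fin 2 → ZMod 3) (z ε β : ZMod 3) (hε : ε ≠ 0) :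
    h.P v z (borel ε β) ∈ h.H := by
  refine h.mem_H_of_conj fun x hx => ?_
  obtain ⟨p, rfl⟩ := h.exists_jj hx
  rw [h.P_conj v z ε β hε]
  exact h.jj_mem _

/-- The elements of `H` centralising `a`. -/
theorem exists_borel {g : G} (hH : g ∈ h.H) (hc : g * h.a = h.a * g) :
    ∃ v z ε β, ε ≠ 0 ∧ g = h.P v z (borel ε β) := by
  obtain ⟨v, z, A, rfl⟩ := (h.mem_cent g).1 hc
  obtain ⟨⟨x, w, k⟩, e⟩ := h.exists_jj (h.conj_mem hH (h.jj_mem (1, 0, 0)))
  rw [eq_mul_inv_iff_mul_eq, jj, jj, h.mul, h.mul, upper_zero] at e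
  obtain ⟨e1, -, e3⟩ := h.inj _ _ _ _ _ _ e.symm
  have hv : v = ![v 0, v 1] := by ext i; fin_cases i <;> rfl
  have e3' := congrArg Subtype.val e3
  simp only [Matrix.SpecialLinearGroup.coe_mul, Matrix.SpecialLinearGroup.coe_one] at e3'
  rw [hv, Matrix.eta_fin_two A.1] at e1
  rw [Matrix.eta_fin_two A.1] at e3'
  have hc0 := mulVec_low _ _ _ _ _ _ x 0 ⟨k, e1, e3'⟩ rfl
  obtain ⟨ε, β, hε, hM⟩ := norm_entries _ _ _ _ (by rw [← Matrix.det_fin_two, A.2]) hc0
  exact ⟨v, z, ε, β, hε, by rw [show A = borel ε β from Subtype.ext ((Matrix.eta_fin_two A.1).trans hM)]⟩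

/-- The standard element of order three acting nontrivially on `J`. -/
def y : G := h.P ![0, 1] 0 1

/-- The standard involution. -/
def t : G := h.P 0 0 negOne

theorem borel_one : borel 1 0 = 1 := by decide +kernel

theorem borel_neg : borel (-1) 0 = negOne := by decide +kernel

theorem y_conj (p : V3) : h.y * h.jj p * h.y⁻¹ = h.jj (wmap 1 1 p) := by
  have := h.P_conj ![0, 1] 0 1 0 (by decide) p
  rwa [borel_one] at this

theorem t_conj (p : V3) : h.t * h.jj p * h.t⁻¹ = h.jj (wmap (-1) 0 p) := by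
  have := h.P_conj 0 0 (-1) 0 (by decide) p
  rwa [borel_neg] at this

theorem y_comm_a : h.y * h.a = h.a * h.y := h.P_comm_a _ _ _

theorem t_comm_a : h.t * h.a = h.a * h.t := h.P_comm_a _ _ _

theorem y_mem_H [Finite G] : h.y ∈ h.H := by
  have := h.P_borel_mem ![0, 1] 0 1 0 (by decide)
  rwa [borel_one] at this

theorem t_mem_H [Finite G] : h.t ∈ h.H := by
  have := h.P_borel_mem 0 0 (-1) 0 (by decide)
  rwa [borel_neg] at this

theorem t_sq : h.t * h.t = 1 := by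
  rw [t, h.mul, ← h.P_one, show negOne * negOne = (1 : SL23) by decide +kernel]
  simp [det2]

/-- Elements of `H` which fix `J` pointwise lie in `J`. -/
theorem mem_J_of_fix {g : G} (hg : ∀ p, g * h.jj p * g⁻¹ = h.jj p) : g ∈ h.J :=
  h.mem_J_of_comm fun x hx => by
    obtain ⟨p, rfl⟩ := h.exists_jj hx
    exact mul_inv_eq_iff_eq_mul.1 (hg p)

/-- The action of an element of `H` on the coordinates of `J`, as a linear map. -/
theorem exists_act {g : G} (hg : g ∈ h.H) : ∃ f : V3 → V3,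
    (∀ p, g * h.jj p * g⁻¹ = h.jj (f p)) ∧ (∀ p r, f (p + r) = f p + f r) ∧ Function.Injective f := by
  choose f hf using fun p => h.exists_jj (h.conj_mem hg (h.jj_mem p))
  refine ⟨f, fun p => (hf p).symm, fun p r => h.jj_inj ?_, fun p r e => h.jj_inj ?_⟩
  · rw [← h.jj_mul, hf, hf, hf, ← h.jj_mul]
    group
  · have e' := congrArg h.jj e
    rw [hf, hf] at e'
    exact mul_left_cancel (mul_right_cancel e')

end Hyp

end CfsgLib.Hayden48
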