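import Cfsg.Agent.Hayden48.HalfOne
import Cfsg.Agent.AutPSp.AutOrder
import Cfsg.Agent.S0270

/-!
# Eight conjugates with a subgroup of index two: the automorphism group of `PSp(4,3)`
-/

set_option autoImplicit false

namespace CfsgLib.Hayden48

open Matrix
open CfsgLib.HeisenbergSL (SL23 det2 upper negOne)

theorem four_eight_card : ∀ z : ZMod 3, (four z).card = 4 ∧ (eight z).card = 8 := by decide +kernel

theorem y_moves : ¬ ((1, 0, 0) : V3) = wmap 1 1 (1, 0, 0) := by decide +kernel

theorem va_eight : va ∈ eight 0 ∧ -va ∈ eight 0 := by decide +kernel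

namespace Hyp

variable {G : Type*} [Group G] (h : Hyp G)

/-- The same data inside a subgroup containing the centralizer of `a`. -/
def restrict (K : Subgroup G) (hK : ∀ v z A, h.P v z A ∈ K) : Hyp K where
  a := ⟨h.a, h.a_eq ▸ hK 0 1 1⟩
  P v z A := ⟨h.P v z A, hK v z A⟩
  inj v z A w y B e := h.inj _ _ _ _ _ _ (congrArg Subtype.val e)
  mul v z A w y B := Subtype.ext (h.mul v z A w y B)
  mem_cent g := by
    rw [Subtype.ext_iff]
    refine (h.mem_cent (g : G)).trans ?_
    simp only [Subtype.ext_iff]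
  a_eq := Subtype.ext h.a_eq
  J := h.J.subgroupOf K
  mem_J g := by
    rw [Subgroup.mem_subgroupOf, h.mem_J]
    simp only [Subtype.ext_iff]
  sig L hL hn := by
    have hJK : h.J ≤ K := fun j hj => by
      obtain ⟨x, z, k, rfl⟩ := (h.mem_J j).1 hj
      exact hK _ _ _
    have := h.sig (L.map K.subtype) (by rwa [Subgroup.card_map_of_injective K.subtype_injective])
      fun j hj => by
        refine Subgroup.mem_normalizer_iff.2 fun x => ?_
        have hL' := Subgroup.mem_normalizer_iff.1 (hn (show (⟨j, hJK hj⟩ : K) ∈ h.J.subgroupOf K from hj))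
        constructor
        · rintro ⟨y, hy, rfl⟩
          exact ⟨_, (hL' y).1 hy, rfl⟩
        · rintro ⟨y, hy, e⟩
          have hyK : x ∈ K := by
            have : (y : G) = j * x * j⁻¹ := e
            have h2 := K.mul_mem (K.mul_mem (K.inv_mem (hJK hj)) y.2) (hJK hj)
            rw [this] at h2
            simpa [mul_assoc] using h2
          refine ⟨⟨x, hyK⟩, (hL' ⟨x, hyK⟩).2 ?_, rfl⟩
          rw [show (⟨j, hJK hj⟩ : K) * ⟨x, hyK⟩ * ⟨j, hJK hj⟩⁻¹ = y from Subtype.ext e.symm]
          exact hy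
    rwa [Subgroup.map_eq_bot_iff_of_injective _ K.subtype_injective] at this

variable [Finite G]

theorem restrict_card_H (K : Subgroup G) (hK : ∀ v z A, h.P v z A ∈ K) :
    Nat.card (h.restrict K hK).H = Nat.card (h.H ⊓ K : Subgroup G) := by
  have hJK : h.J ≤ K := fun j hj => by
    obtain ⟨x, z, k, rfl⟩ := (h.mem_J j).1 hj
    exact hK _ _ _
  have e : (h.restrict K hK).H = h.H.subgroupOf K :=
    (Subgroup.subgroupOf_normalizer_eq hJK).symm
  rw [e, ← Subgroup.inf_subgroupOf_right h.H K]
  exact Nat.card_congr (Subgroup.subgroupOfEquivOfLe inf_le_right).toEquiv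

/-- A subgroup of index two contains `C`. -/
theorem P_mem_of_index_two (K : Subgroup G) (hK : K.index = 2) (v : Fin 2 → ZMod 3) (z : ZMod 3)
    (A : SL23) : h.P v z A ∈ K := by
  have hsq := Subgroup.mul_self_mem_of_index_two hK
  haveI := Subgroup.normal_of_index_eq_two hK
  have hR : ∀ w y, h.P w y 1 ∈ K := fun w y => by
    have e : h.P w y 1 = h.P (-w) (-y) 1 * h.P (-w) (-y) 1 := by
      obtain ⟨p, q, rfl⟩ : ∃ p q, w = ![p, q] := ⟨w 0, w 1, by ext i; fin_cases i <;> rfl⟩
      rw [h.mul, one_mul, Matrix.SpecialLinearGroup.coe_one, Matrix.one_mulVec]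
      congr 1
      · exact (show ∀ p q : ZMod 3, ![p, q] = -![p, q] + -![p, q] by decide +kernel) p q
      · exact (show ∀ p q y : ZMod 3, y = -y + -y - det2 (-![p, q]) (-![p, q]) by decide +kernel) p q y
    rw [e]
    exact hsq _
  have hC : ∀ A : SL23, h.P 0 0 A ∈ K := by
    intro A
    let M : Subgroup SL23 :=
      { carrier := {A | h.P 0 0 A ∈ K}
        one_mem' := hR 0 0
        mul_mem' := fun {A B} (ha : h.P 0 0 A ∈ K) (hb : h.P 0 0 B ∈ K) => by
          show h.P 0 0 (A * B) ∈ K
          have := mul_mem ha hb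
          rw [h.mul] at this
          simpa [det2] using this
        inv_mem' := fun {A} (ha : h.P 0 0 A ∈ K) => by
          show h.P 0 0 A⁻¹ ∈ K
          have e : h.P 0 0 A⁻¹ = (h.P 0 0 A)⁻¹ := by
            refine eq_inv_of_mul_eq_one_left ?_
            rw [h.mul, inv_mul_cancel, ← h.P_one]
            simp [det2]
          rw [e]
          exact inv_mem ha }
    have hM : M = ⊤ := HeisenbergSL.eq_top_of_squares M fun g => by
      show h.P 0 0 (g * g) ∈ K
      have := hsq (h.P 0 0 g)
      rw [h.mul] at this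
      simpa [det2] using this
    exact (hM ▸ Subgroup.mem_top A : A ∈ M)
  have := mul_mem (hR v z) (hC A)
  rw [h.mul, one_mul] at this
  simpa [det2] using this

/-- With a subgroup of index two the group is the automorphism group of `PSp(4,3)`. -/
theorem nonempty_aut_of_index_two (hO : ∀ p, h.O p ↔ p ∈ eight 0) {F : Type*} [Field F] [Fintype F]
    (hF : Fintype.card F = 3) (K : Subgroup G) (hK : K.index = 2) :
    Nonempty (G ≃* MulAut (Cfsg.PSp 2 F)) := by
  classical
  haveI : Fact (Nat.Prime 3) := ⟨Nat.prime_three⟩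
  haveI := Subgroup.normal_of_index_eq_two hK
  have hPK := h.P_mem_of_index_two K hK
  set k := h.restrict K hPK with hk
  have hCK : h.C ≤ K := fun g hg => by
    obtain ⟨v, z, A, rfl⟩ := h.exists_P hg
    exact hPK v z A
  have hu : ¬ h.O vu := fun e => eight_not_vu 0 ((hO _).1 e)
  have hHK : ¬ h.H ≤ K := fun hle => h.index_ne_two_of_le hu K hle hCK hK
  have hrel : (K.subgroupOf h.H).index = 2 := by
    have h1 : K.relIndex h.H ∣ 2 := hK ▸ Subgroup.relIndex_dvd_index_of_normal K h.H
    exact ((Nat.dvd_prime Nat.prime_two).1 h1).resolve_left fun e => hHK (Subgroup.relIndex_eq_one.1 e)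
  have hkH : Nat.card k.H = 648 := by
    rw [hk, h.restrict_card_H]
    have := Subgroup.card_mul_index (K.subgroupOf h.H)
    rw [hrel, show K.subgroupOf h.H = (h.H ⊓ K).subgroupOf h.H from
      Subgroup.ext fun x => by simp [Subgroup.mem_subgroupOf],
      Nat.card_congr (Subgroup.subgroupOfEquivOfLe inf_le_left).toEquiv, h.card_H,
      show h.Os = eight 0 from Finset.ext fun p => (h.mem_Os).trans (hO p), eight_card] at this
    omega
  have hk4 : k.Os.card = 4 := by
    have := k.card_H
    rw [hkH] at this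
    omega
  have hkn : ¬ k.O (-va) := by
    intro hr
    rcases k.cases_real hr with hc | ⟨z, hc⟩
    · have hsub : k.Os ⊆ ({va, -va} : Finset V3) := fun p hp => by
        rcases hc p (k.mem_Os.1 hp) with e | e <;> simp [e]
      have := (Finset.card_le_card hsub).trans (Finset.card_le_two)
      omega
    · rw [show k.Os = eight z from Finset.ext fun p => (k.mem_Os).trans (hc p),
        (four_eight_card z).2] at hk4
      omega
  obtain ⟨z, hc⟩ : ∃ z, ∀ p, k.O p ↔ p ∈ four z := by
    rcases k.cases_nonreal hkn with hc | hc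
    · exfalso
      have hsub : k.Os ⊆ ({va} : Finset V3) := fun p hp => by simp [hc p (k.mem_Os.1 hp)]
      have := (Finset.card_le_card hsub).trans (Finset.card_singleton _).le
      omega
    · exact hc
  obtain ⟨e⟩ := (k.shift (-z)).nonempty_psp_of_four hF (k.shift_four hc)
  have : CharP F 3 := by
    obtain ⟨p, hp⟩ := CharP.exists F
    obtain ⟨n, hp', hn⟩ := FiniteField.card F p
    rw [hF] at hn
    have h3 : p = 3 := by
      have hdvd : p ∣ 3 := hn ▸ dvd_pow_self p n.pos.ne'
      exact ((Nat.dvd_prime Nat.prime_three).1 hdvd).resolve_left hp'.one_lt.ne'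
    exact h3 ▸ hp
  haveI : IsSimpleGroup (Cfsg.PSp 2 F) := Cfsg.Agent.S0270.result 2 le_rfl (fun _ => by omega)
  haveI : Nontrivial K := e.toEquiv.nontrivial
  haveI hKs : IsSimpleGroup K := e.isSimpleGroup
  let f : G →* MulAut K := MulAut.conjNormal
  have hker : f.ker = ⊥ := by
    refine eq_bot_iff.2 fun g hg => Subgroup.mem_bot.2 ?_
    have hc : ∀ x ∈ K, g * x = x * g := fun x hx => by
      have e := congrArg (fun φ : MulAut K => ((φ ⟨x, hx⟩ : K) : G)) (MonoidHom.mem_ker.1 hg)
      simp only [f, MulAut.conjNormal_apply, MulAut.one_apply] at e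
      exact mul_inv_eq_iff_eq_mul.1 e
    have hJK : h.J ≤ K := h.J_le_C.trans hCK
    have hgJ : g ∈ h.J := h.mem_J_of_comm fun x hx => hc x (hJK hx)
    by_contra hne
    have hcen : (⟨g, hJK hgJ⟩ : K) ∈ Subgroup.center K :=
      Subgroup.mem_center_iff.2 fun x => Subtype.ext (hc x x.2).symm
    rcases IsSimpleGroup.eq_bot_or_eq_top_of_normal (Subgroup.center K) inferInstance with hb | ht
    · rw [hb, Subgroup.mem_bot] at hcen
      exact hne (congrArg Subtype.val hcen)
    · have hc' : ∀ x ∈ h.C, x * h.jj (1, 0, 0) = h.jj (1, 0, 0) * x := fun x hx => by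
        have hm : (⟨x, hCK hx⟩ : K) ∈ Subgroup.center K := ht ▸ Subgroup.mem_top _
        exact (congrArg Subtype.val (Subgroup.mem_center_iff.1 hm ⟨_, hJK (h.jj_mem (1, 0, 0))⟩)).symm
      have := h.y_conj (1, 0, 0)
      rw [hc' h.y (h.mem_C.2 h.y_comm_a), mul_inv_cancel_right] at this
      exact y_moves (h.jj_inj this)
  haveI : Finite (MulAut (Cfsg.PSp 2 F)) := AutPSp.finite_mulAut
  let φ : G →* MulAut (Cfsg.PSp 2 F) := (MulAut.congr e).toMonoidHom.comp f
  have hinj : Function.Injective φ :=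
    (MulAut.congr e).injective.comp ((MonoidHom.ker_eq_bot_iff f).1 hker)
  have hcard : Nat.card G = Nat.card (MulAut (Cfsg.PSp 2 F)) := by
    rw [AutPSp.card_aut_psp 3 le_rfl (fun _ => by omega), if_neg (by norm_num), one_mul, hF,
      ← Nat.card_congr e.toEquiv, ← Subgroup.card_mul_index K, hK]
    have h1 : Nat.card (F ≃+* F) = 1 := by
      refine Nat.card_eq_one_iff_unique.2 ⟨⟨fun σ τ => ?_⟩, ⟨RingEquiv.refl F⟩⟩
      have key : ∀ σ : F ≃+* F, σ = RingEquiv.refl F := fun σ => RingEquiv.ext fun x => by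
        obtain ⟨n, rfl⟩ := (ZMod.ringEquiv F hF).surjective x
        have : (σ.toRingHom.comp (ZMod.ringEquiv F hF).toRingHom) = (ZMod.ringEquiv F hF).toRingHom :=
          Subsingleton.elim _ _
        exact congrArg (fun g : ZMod 3 →+* F => g n) this
      rw [key σ, key τ]
    rw [h1, show Nat.gcd 2 (3 - 1) = 2 from rfl]
    ring
  exact ⟨MulEquiv.ofBijective φ ((Nat.bijective_iff_injective_and_card φ).2 ⟨hinj, hcard⟩)⟩

end Hyp

end CfsgLib.Hayden48
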