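import Mathlib.GroupTheory.Transfer
import Mathlib.GroupTheory.PGroup

/-!
# The transfer of an element of prime order, counted modulo a prime
-/

set_option autoImplicit false

namespace CfsgLib.Hayden48

open MulAction Subgroup

variable {G : Type*} [Group G] [Finite G] {p : ℕ} [hp : Fact p.Prime]

/-- The transfer of an element of prime order is supported on its fixed cosets. -/
theorem transfer_eq_prod_fixed {A : Type*} [CommGroup A] {C : Subgroup G} [Fintype (G ⧸ C)]
    (φ : C →* A) {x : G} (hx : x ^ p = 1) (f : G ⧸ C → A)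
    (hfix : ∀ q : G ⧸ C, x • q = q → ∀ hm : q.out⁻¹ * x * q.out ∈ C, f q = φ ⟨_, hm⟩)
    (hmove : ∀ q : G ⧸ C, x • q ≠ q → f q = 1) :
    MonoidHom.transfer φ x = ∏ q : G ⧸ C, f q := by
  classical
  haveI : Fintype (orbitRel.Quotient (zpowers x) (G ⧸ C)) := Fintype.ofFinite _
  haveI : C.FiniteIndex := inferInstance
  rw [MonoidHom.transfer_eq_prod_quotient_orbitRel_zpowers_quot]
  set term : orbitRel.Quotient (zpowers x) (G ⧸ C) → A := fun o =>
    φ ⟨o.out.out⁻¹ * x ^ Function.minimalPeriod (x • ·) o.out * o.out.out,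
      QuotientGroup.out_conj_pow_minimalPeriod_mem C x o.out⟩ with hterm
  show ∏ o, term o = _
  have hper : ∀ q : G ⧸ C, x • q ≠ q → Function.minimalPeriod (x • ·) q = p := by
    intro q hq
    refine ((Nat.dvd_prime hp.out).1 ?_).resolve_left fun e => hq ?_
    · refine Function.IsPeriodicPt.minimalPeriod_dvd ?_
      show (x • ·)^[p] q = q
      rw [smul_iterate, hx]; exact one_smul G q
    · exact Function.minimalPeriod_eq_one_iff_isFixedPt.1 e
  have hsing : ∀ q : G ⧸ C, x • q = q →
      (Quotient.mk (orbitRel (zpowers x) (G ⧸ C)) q).out = q := by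
    intro q hq
    have h : (Quotient.mk (orbitRel (zpowers x) (G ⧸ C)) q).out ∈ orbit (zpowers x) q :=
      orbitRel_apply.1 (Quotient.exact (Quotient.out_eq _))
    obtain ⟨⟨g, hg⟩, e⟩ := h
    rw [← e]
    have : g ∈ MulAction.stabilizer G q := Subgroup.zpowers_le.2 (show x ∈ _ from hq) hg
    exact this
  have hval : ∀ o, x • o.out = o.out → term o = f o.out := by
    intro o ho
    have e1 : Function.minimalPeriod (x • ·) o.out = 1 :=
      Function.minimalPeriod_eq_one_iff_isFixedPt.2 ho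
    have hm := QuotientGroup.out_conj_pow_minimalPeriod_mem C x o.out
    simp only [e1, pow_one] at hm
    rw [hfix o.out ho hm, hterm]
    simp only [e1, pow_one]
  have hone : ∀ o, x • o.out ≠ o.out → term o = 1 := by
    intro o ho
    have e1 := hper o.out ho
    rw [hterm, ← map_one φ]
    refine congrArg φ (Subtype.ext ?_)
    show o.out.out⁻¹ * x ^ Function.minimalPeriod (x • ·) o.out * o.out.out = 1
    rw [e1, hx, mul_one, inv_mul_cancel]
  rw [← Finset.prod_filter_of_ne (s := Finset.univ) (p := fun o => x • o.out = o.out)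
      fun o _ ho => by_contra fun e => ho (hone o e),
    ← Finset.prod_filter_of_ne (s := Finset.univ) (p := fun q => x • q = q)
      fun q _ hq => by_contra fun e => hq (hmove q e)]
  refine Finset.prod_nbij' (fun o => o.out)
    (fun q => Quotient.mk (orbitRel (zpowers x) (G ⧸ C)) q) ?_ ?_ ?_ ?_ ?_
  · intro o ho
    simpa using ho
  · intro q hq
    have hq' : x • q = q := by simpa using hq
    simp [hsing q hq', hq']
  · intro o _
    exact Quotient.out_eq o
  · intro q hq
    exact hsing q (by simpa using hq)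
  · intro o ho
    exact hval o (by simpa using ho)

/-- Modulo `p`, an invariant product is the product over the fixed points. -/
theorem prod_eq_prod_fixed {P α A : Type*} [Group P] [MulAction P α] [Fintype α] [CommGroup A]
    (hP : IsPGroup p P) (hA : ∀ c : A, c ^ p = 1) (f : α → A)
    (hf : ∀ (g : P) (a : α), f (g • a) = f a)
    [DecidablePred fun a : α => a ∈ fixedPoints P α] :
    ∏ a, f a = ∏ a ∈ Finset.univ.filter (fun a => a ∈ fixedPoints P α), f a := by
  classical
  have hpow : ∀ (c : A) {m n : ℕ}, m ≡ n [MOD p] → c ^ m = c ^ n := fun c m n h =>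
    pow_eq_pow_iff_modEq.2 (h.of_dvd (orderOf_dvd_of_pow_eq_one (hA c)))
  have hmaps : ∀ s : Finset α, ∀ a ∈ s, f a ∈ Finset.univ.image f := fun s a _ =>
    Finset.mem_image_of_mem f (Finset.mem_univ a)
  rw [← Finset.prod_fiberwise_of_maps_to (hmaps Finset.univ) f,
    ← Finset.prod_fiberwise_of_maps_to
      (hmaps (Finset.univ.filter fun a => a ∈ fixedPoints P α)) f]
  refine Finset.prod_congr rfl fun c _ => ?_
  have hc : ∀ s : Finset α, ∏ a ∈ s.filter (fun a => f a = c), f a =
      c ^ (s.filter fun a => f a = c).card := fun s =>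
    Finset.prod_eq_pow_card fun a ha => (Finset.mem_filter.1 ha).2
  rw [hc, hc]
  refine hpow c ?_
  let T : SubMulAction P α := ⟨{a | f a = c}, fun g a (ha : f a = c) => (hf g a).trans ha⟩
  have hmod := hP.card_modEq_card_fixedPoints (α := T) (p := p)
  have h1 : Nat.card T = (Finset.univ.filter fun a => f a = c).card :=
    (Nat.card_congr (Equiv.subtypeEquivRight (p := fun a => a ∈ T) (q := fun a => f a = c)
      fun a => Iff.rfl)).trans (by rw [Nat.card_eq_fintype_card, Fintype.card_subtype])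
  have h2 : Nat.card (fixedPoints P T) =
      ((Finset.univ.filter fun a => a ∈ fixedPoints P α).filter fun a => f a = c).card := by
    rw [Finset.filter_filter, ← Fintype.card_subtype, ← Nat.card_eq_fintype_card]
    exact Nat.card_congr
      { toFun := fun a => ⟨a.1.1, fun g => congrArg Subtype.val (a.2 g), a.1.2⟩
        invFun := fun a => ⟨⟨a.1, a.2.2⟩, fun g => Subtype.ext (a.2.1 g)⟩
        left_inv := fun a => rfl
        right_inv := fun a => rfl }
  rw [← h1, ← h2]
  exact hmod

/-- The transfer of an element `x` of order `p` of an abelian `p`-subgroup `J` which fixes a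
single coset. -/
theorem transfer_eq_of_unique_fixed {A : Type*} [CommGroup A] (hA : ∀ c : A, c ^ p = 1)
    {C : Subgroup G} [Fintype (G ⧸ C)] (φ : C →* A) {J : Subgroup G} (hJ : IsPGroup p J)
    {x : G} (hxC : x ∈ C) (hx : x ^ p = 1) (hcomm : ∀ j ∈ J, j * x = x * j) (hJC : J ≤ C)
    (huniq : ∀ g : G, (∀ j ∈ J, g⁻¹ * j * g ∈ C) → g ∈ C) :
    MonoidHom.transfer φ x = φ ⟨x, hxC⟩ := by
  classical
  let f : G ⧸ C → A := fun q =>
    if hm : q.out⁻¹ * x * q.out ∈ C then φ ⟨_, hm⟩ else 1
  have hiff : ∀ q : G ⧸ C, x • q = q ↔ q.out⁻¹ * x * q.out ∈ C := fun q => by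
    conv_lhs => rw [← q.out_eq]
    rw [MulAction.Quotient.smul_mk, eq_comm, QuotientGroup.eq, smul_eq_mul, mul_assoc]
  rw [transfer_eq_prod_fixed φ hx f (fun q _ hm => dif_pos hm)
    fun q hq => dif_neg fun hm => hq ((hiff q).2 hm)]
  have hgen : ∀ (g : G) (c : C) (hm : g⁻¹ * x * g ∈ C)
      (hm' : (g * c)⁻¹ * x * (g * c) ∈ C), φ ⟨_, hm'⟩ = φ ⟨_, hm⟩ := by
    intro g c hm hm'
    have e : (⟨_, hm'⟩ : C) = c⁻¹ * ⟨_, hm⟩ * c := Subtype.ext (by push_cast; group)
    rw [e, map_mul, map_mul, map_inv, mul_comm, mul_inv_cancel_left]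
  have hinv : ∀ (j : J) (q : G ⧸ C), f (j • q) = f q := by
    intro j q
    obtain ⟨c, hc⟩ := QuotientGroup.mk_out_eq_mul C ((j : G) * q.out)
    have hq : (j • q : G ⧸ C) = QuotientGroup.mk ((j : G) * q.out) := by
      conv_lhs => rw [← q.out_eq]
      rfl
    have hx' : ((j : G) * q.out)⁻¹ * x * ((j : G) * q.out) = q.out⁻¹ * x * q.out := by
      calc ((j : G) * q.out)⁻¹ * x * ((j : G) * q.out) = q.out⁻¹ * ((j : G)⁻¹ * (x * j)) * q.out := by group
        _ = _ := by rw [← hcomm j j.2, inv_mul_cancel_left]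
    have hout : (j • q).out⁻¹ * x * (j • q).out = (c : G)⁻¹ * (q.out⁻¹ * x * q.out) * c := by
      rw [hq, hc, ← hx']
      group
    by_cases hm : q.out⁻¹ * x * q.out ∈ C
    · have hm' : (j • q).out⁻¹ * x * (j • q).out ∈ C := by
        rw [hout]
        exact C.mul_mem (C.mul_mem (C.inv_mem c.2) hm) c.2
      simp only [f, dif_pos hm, dif_pos hm']
      rw [← hgen q.out c hm (by
        rw [show (q.out * (c : G))⁻¹ * x * (q.out * c) = (c : G)⁻¹ * (q.out⁻¹ * x * q.out) * c by group]
        exact C.mul_mem (C.mul_mem (C.inv_mem c.2) hm) c.2)]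
      refine congrArg φ (Subtype.ext ?_)
      simp only [hout]
      group
    · have hm' : (j • q).out⁻¹ * x * (j • q).out ∉ C := fun hm' => hm (by
        rw [hout] at hm'
        simpa [mul_assoc] using C.mul_mem (C.mul_mem c.2 hm') (C.inv_mem c.2))
      simp only [f, dif_neg hm, dif_neg hm']
  rw [prod_eq_prod_fixed hJ hA f hinv]
  have hfp : ∀ q : G ⧸ C, q ∈ fixedPoints J (G ⧸ C) ↔ q = QuotientGroup.mk 1 := by
    intro q
    constructor
    · intro h
      rw [← q.out_eq]
      refine QuotientGroup.eq.2 ?_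
      rw [mul_one]
      refine C.inv_mem (huniq _ fun j hj => ?_)
      have := h ⟨j, hj⟩
      conv_lhs at this => rw [← q.out_eq]
      conv_rhs at this => rw [← q.out_eq]
      exact mul_assoc q.out⁻¹ j q.out ▸ QuotientGroup.eq.1 this.symm
    · rintro rfl j
      exact QuotientGroup.eq.2 (by
        show ((j : G) * 1)⁻¹ * 1 ∈ C
        simpa using C.inv_mem (hJC j.2))
  rw [show (Finset.univ.filter fun q : G ⧸ C => q ∈ fixedPoints J (G ⧸ C)) = {QuotientGroup.mk 1} by
    ext q; simp [hfp], Finset.prod_singleton]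
  obtain ⟨c, hc⟩ := QuotientGroup.mk_out_eq_mul C (1 : G)
  have hm : (QuotientGroup.mk 1 : G ⧸ C).out⁻¹ * x * (QuotientGroup.mk 1 : G ⧸ C).out ∈ C := by
    rw [hc, one_mul]
    exact C.mul_mem (C.mul_mem (C.inv_mem c.2) hxC) c.2
  simp only [f, dif_pos hm]
  have hm1 : (1 : G)⁻¹ * x * 1 ∈ C := by simpa using hxC
  have hm2 : ((1 : G) * c)⁻¹ * x * (1 * c) ∈ C := hc ▸ hm
  rw [show (⟨_, hm⟩ : C) = ⟨_, hm2⟩ from Subtype.ext (by simp only [hc]), hgen 1 c hm1 hm2]
  exact congrArg φ (Subtype.ext (by simp))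

end CfsgLib.Hayden48
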