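import Cfsg.Agent.Hayden48.TwoSylow
import Cfsg.Agent.Hayden48.Transfer
import Cfsg.Agent.Transfer.Frobenius

/-!
# Hayden's theorem when `N(J)` normalizes `⟨a⟩`: then `⟨a⟩` is normal

The subgroup of index two is cut down by a transfer of order three to a group with quaternion
Sylow 2-subgroup, which has a normal 2-complement by Frobenius; this complement has a normal
3-complement, which is trivial by the signalizer hypothesis.
-/

set_option autoImplicit false

open scoped Pointwise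

namespace CfsgLib.Hayden48

open Matrix
open CfsgLib.HeisenbergSL (SL23 det2 upper negOne lower)

/-- The homomorphism `SL(2,3) → ℤ/3`. -/
def slChi (A : SL23) : ZMod 3 :=
  (A.1 0 0 + A.1 1 1) * (A.1 0 1 - A.1 1 0) * (A.1 0 0 * A.1 1 1 + 1)

theorem slChi_mul : ∀ A B : SL23, slChi (A * B) = slChi A + slChi B := by decide +kernel

theorem slChi_eq_zero : ∀ A : SL23, slChi A = 0 ↔ IsQ A := by decide +kernel

theorem slChi_upper : ∀ k : ZMod 3, slChi (upper k) = k := by decide +kernel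

theorem mult_cube : ∀ c : Multiplicative (ZMod 3), c ^ 3 = 1 := by decide +kernel

/-- An element of odd order whose square centralizes `q` centralizes `q`. -/
theorem comm_of_sq_comm {G : Type*} [Group G] {g q : G} (hodd : Nat.Coprime (orderOf g) 2)
    (h : g ^ 2 * q = q * g ^ 2) : g * q = q * g := by
  obtain ⟨m, hm⟩ := exists_pow_eq_self_of_coprime hodd.symm
  have := (show Commute (g ^ 2) q from h).pow_left m
  rwa [hm] at this

theorem Hyp.P_pow {G : Type*} [Group G] (h : Hyp G) (v : Fin 2 → ZMod 3) (z : ZMod 3) (A : SL23)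
    (n : ℕ) : ∃ v' z', h.P v z A ^ n = h.P v' z' (A ^ n) := by
  induction n with
  | zero => exact ⟨0, 0, by rw [pow_zero, pow_zero, h.P_one]⟩
  | succ n ih =>
    obtain ⟨v', z', e'⟩ := ih
    exact ⟨_, _, by rw [pow_succ, pow_succ, e', h.mul]⟩

theorem negOne_val : negOne.1 = -1 := by decide +kernel

theorem three_eq_zero : (3 : ZMod 3) = 0 := by decide +kernel

namespace TwoCtx

variable {G : Type*} [Group G] [Finite G] {h : Hyp G} (c : TwoCtx h)
include c

/-- Elements of a subgroup of index two avoiding `i` which lie in `N` centralize `a`. -/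
theorem comm_a_of_mem {M : Subgroup G} (hi : c.i ∉ M)
    (hC : ∀ g, g * h.a = h.a * g → g ∈ M) {g : G} (hgM : g ∈ M) (hgN : g ∈ c.N) :
    g * h.a = h.a * g := by
  rcases c.N_cases hgN with e | e
  · exact mul_inv_eq_iff_eq_mul.1 e
  · exact absurd (by simpa using M.mul_mem (M.inv_mem hgM) (hC _ (c.mul_comm_a e c.i_a))) hi

omit c in
/-- The elements of a 2-group of odd order are trivial. -/
theorem odd_order_eq_one {y : G} (h2 : Nat.Coprime (orderOf y) 2) (h4 : y ^ 4 = 1) : y = 1 := by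
  have h := Nat.dvd_gcd (dvd_refl (orderOf y)) (orderOf_dvd_of_pow_eq_one h4)
  rw [Nat.coprime_iff_gcd_eq_one.1 (show Nat.Coprime (orderOf y) 4 from
    Nat.Coprime.pow_right 2 h2), Nat.dvd_one] at h
  exact orderOf_eq_one_iff.1 h

/-- The kernel of the transfer to `ℤ/3` of a subgroup of index two. -/
theorem exists_L3 {M : Subgroup G} (hi : c.i ∉ M) (hC : ∀ g, g * h.a = h.a * g → g ∈ M) :
    ∃ L : Subgroup G, L ≤ M ∧ M ≤ Subgroup.normalizer (L : Set G) ∧
      (∀ v z A, h.P v z A ∈ L ↔ IsQ A) ∧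
      ∀ g ∈ M, ∃ k : ZMod 3, g * h.P 0 0 (upper k) ∈ L := by
  classical
  haveI : Fact (Nat.Prime 3) := ⟨Nat.prime_three⟩
  set C := (Subgroup.centralizer ({h.a} : Set G)).subgroupOf M with hCdef
  have hmemC : ∀ g : M, g ∈ C ↔ (g : G) * h.a = h.a * (g : G) := fun g => by
    rw [hCdef, Subgroup.mem_subgroupOf, Subgroup.mem_centralizer_singleton_iff]
  have hA : ∀ g : C, ∃ A, ∃ v z, h.P v z A = ((g : M) : G) := fun g => by
    obtain ⟨v, z, A, e⟩ := (h.mem_cent _).1 ((hmemC g).1 g.2)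
    exact ⟨A, v, z, e⟩
  choose Af hAf using hA
  have hAf' : ∀ (g : C) v z A, h.P v z A = ((g : M) : G) → Af g = A := fun g v z A e => by
    obtain ⟨v', z', e'⟩ := hAf g
    exact (h.inj _ _ _ _ _ _ (e'.trans e.symm)).2.2
  let φ : C →* Multiplicative (ZMod 3) :=
    MonoidHom.mk' (fun g => Multiplicative.ofAdd (slChi (Af g))) fun g k => by
      obtain ⟨v, z, e⟩ := hAf g
      obtain ⟨v', z', e'⟩ := hAf k
      rw [hAf' (g * k) _ _ _ (show h.P (v + (Af g).1.mulVec v') (z + z' - det2 v ((Af g).1.mulVec v'))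
        (Af g * Af k) = _ by rw [← h.mul, e, e']; rfl), slChi_mul]
      rfl
  have hφ : ∀ v z A (hm : h.P v z A ∈ M) (hm' : (⟨_, hm⟩ : M) ∈ C),
      φ ⟨⟨_, hm⟩, hm'⟩ = Multiplicative.ofAdd (slChi A) := fun v z A hm hm' => by
    show Multiplicative.ofAdd (slChi (Af _)) = _
    rw [hAf' _ v z A rfl]
  letI : Fintype (M ⧸ C) := Fintype.ofFinite _
  obtain ⟨V, hV⟩ : ∃ V : M →* Multiplicative (ZMod 3), V = MonoidHom.transfer φ := ⟨_, rfl⟩
  have hVφ : ∀ g, g * h.a = h.a * g → ∀ (hM : g ∈ M) (hc : (⟨g, hM⟩ : M) ∈ C),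
      V ⟨g, hM⟩ = φ ⟨⟨g, hM⟩, hc⟩ := by
    let K : Subgroup G :=
      (Subgroup.map (M.subtype.comp C.subtype) (MonoidHom.eqLocus (V.comp C.subtype) φ))
    have hcube : ∀ g, g * h.a = h.a * g → g ^ 3 = 1 → g ∈ K := by
      intro g hg h3
      have hgC : (⟨g, hC g hg⟩ : M) ∈ C := (hmemC _).2 hg
      refine ⟨⟨_, hgC⟩, ?_, rfl⟩
      show V ⟨g, hC g hg⟩ = φ ⟨⟨g, hC g hg⟩, hgC⟩
      by_cases hg1 : g = 1
      · have e1 : (⟨g, hC g hg⟩ : M) = 1 := Subtype.ext hg1
        have e2 : (⟨⟨g, hC g hg⟩, hgC⟩ : C) = 1 := Subtype.ext e1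
        exact (congrArg V e1).trans ((map_one V).trans ((congrArg φ e2).trans (map_one φ)).symm)
      have hx3 : (⟨g, hC g hg⟩ : M) ^ 3 = 1 := Subtype.ext h3
      have ho : orderOf (⟨g, hC g hg⟩ : M) = 3 :=
        orderOf_eq_prime hx3 fun e => hg1 (congrArg Subtype.val e)
      rw [hV]
      refine transfer_eq_of_unique_fixed mult_cube φ (J := Subgroup.zpowers (⟨g, hC g hg⟩ : M))
        (IsPGroup.of_card (n := 1) (by rw [Nat.card_zpowers, ho, pow_one])) hgC hx3 ?_
        (Subgroup.zpowers_le.2 hgC) ?_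
      · intro j hj
        obtain ⟨k, rfl⟩ := Subgroup.mem_zpowers_iff.1 hj
        exact ((Commute.refl _).zpow_left k).eq
      · intro y hy
        have h1 : ((y : G))⁻¹ * g * (y : G) * h.a = h.a * ((y : G)⁻¹ * g * (y : G)) :=
          (hmemC _).1 (hy _ (Subgroup.mem_zpowers _))
        have hyN : (y : G)⁻¹ ∈ c.N := c.se (c.cent_a_le_N hg) h3 hg1
          (by rw [inv_inv]; exact c.cent_a_le_N h1)
        exact (hmemC y).2 (c.comm_a_of_mem hi hC y.2 (by simpa using c.N.inv_mem hyN))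
    intro g hg hM hc
    obtain ⟨⟨⟨g', hg'M⟩, hg'C⟩, he, e⟩ := h.C_le (K := K) hcube hg
    obtain rfl : g' = g := e
    exact he
  refine ⟨(V.ker).map M.subtype, Subgroup.map_subtype_le _, fun g hg =>
    Subgroup.mem_normalizer_fintype ?_, fun v z A => ?_, fun g hg => ?_⟩
  · rintro _ ⟨y, hy, rfl⟩
    exact ⟨⟨g, hg⟩ * y * ⟨g, hg⟩⁻¹, (MonoidHom.normal_ker V).conj_mem y hy _, rfl⟩
  · have hM : h.P v z A ∈ M := hC _ (h.P_comm_a _ _ _)
    have hc : (⟨_, hM⟩ : M) ∈ C := (hmemC _).2 (h.P_comm_a _ _ _)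
    rw [← slChi_eq_zero]
    constructor
    · rintro ⟨⟨y, hyM⟩, hy, e⟩
      obtain rfl : y = h.P v z A := e
      have := MonoidHom.mem_ker.1 hy
      rw [hVφ _ (h.P_comm_a _ _ _) hM hc, hφ] at this
      exact ofAdd_eq_one.1 this
    · intro hA
      refine ⟨⟨_, hM⟩, MonoidHom.mem_ker.2 ?_, rfl⟩
      rw [hVφ _ (h.P_comm_a _ _ _) hM hc, hφ, hA, ofAdd_zero]
  · refine ⟨-Multiplicative.toAdd (V ⟨g, hg⟩), ?_⟩
    set k := -Multiplicative.toAdd (V ⟨g, hg⟩) with hk
    have hM : h.P 0 0 (upper k) ∈ M := hC _ (h.P_comm_a _ _ _)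
    refine ⟨⟨g, hg⟩ * ⟨_, hM⟩, MonoidHom.mem_ker.2 ?_, rfl⟩
    rw [map_mul, hVφ _ (h.P_comm_a _ _ _) hM ((hmemC _).2 (h.P_comm_a _ _ _)), hφ, slChi_upper, hk,
      ofAdd_neg, ofAdd_toAdd, mul_inv_cancel]

/-- The subgroup with quaternion Sylow subgroup lies in `N`. -/
theorem L_le_N {M L : Subgroup G} [M.Normal] (hi : c.i ∉ M)
    (hC : ∀ g, g * h.a = h.a * g → g ∈ M) (hLM : L ≤ M)
    (hML : M ≤ Subgroup.normalizer (L : Set G)) (hLP : ∀ v z A, h.P v z A ∈ L ↔ IsQ A) : L ≤ c.N := by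
  haveI : Fact (Nat.Prime 2) := ⟨Nat.prime_two⟩
  haveI : Fact (Nat.Prime 3) := ⟨Nat.prime_three⟩
  have hQL : h.Q ≤ L := by
    rintro _ ⟨A, hA, rfl⟩
    exact (hLP _ _ _).2 hA
  have hLN : ∀ g ∈ L, g ∈ c.N → ∃ v z A, IsQ A ∧ h.P v z A = g := fun g hg hgN => by
    obtain ⟨v, z, A, rfl⟩ := (h.mem_cent g).1 (c.comm_a_of_mem hi hC (hLM hg) hgN)
    exact ⟨v, z, A, (hLP _ _ _).1 hg, rfl⟩
  have hodd : ∀ g ∈ L, g ∈ c.N → Nat.Coprime (orderOf g) 2 → ∃ v z, h.P v z 1 = g := fun g hg hgN ho => by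
    obtain ⟨v, z, A, hA, rfl⟩ := hLN g hg hgN
    obtain ⟨v', z', e⟩ := h.P_pow v z A (orderOf (h.P v z A))
    rw [pow_orderOf_eq_one, ← h.P_one] at e
    have hAn : A ^ orderOf (h.P v z A) = 1 := ((h.inj _ _ _ _ _ _ e).2.2).symm
    have hA4 : A ^ 4 = 1 := by
      rw [show (4 : ℕ) = 2 + 2 by norm_num, pow_add, pow_two]
      exact isQ_pow_four A hA
    obtain rfl : A = 1 := odd_order_eq_one
      (Nat.Coprime.coprime_dvd_left (orderOf_dvd_of_pow_eq_one hAn) ho) hA4
    exact ⟨v, z, rfl⟩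
  -- the Sylow 2-subgroup
  obtain ⟨T, u, hQT, hTQ, hTc, hTN, -⟩ := c.exists_T
  obtain ⟨P, hP⟩ : ∃ P : Sylow 2 L, (P : Subgroup L) = h.Q.subgroupOf L := by
    have hp : IsPGroup 2 (h.Q.subgroupOf L) :=
      (IsPGroup.of_card (p := 2) (n := 3) (by rw [h.card_Q]; norm_num) : IsPGroup 2 h.Q).comap_subtype
    obtain ⟨P, hle⟩ := hp.exists_le_sylow
    refine ⟨P, (Subgroup.eq_of_le_of_card_ge hle ?_).symm⟩
    obtain ⟨U, hU⟩ := (P.isPGroup'.map L.subtype).exists_le_sylow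
    obtain ⟨g, hg⟩ := MulAction.exists_smul_eq G U T
    rw [Nat.card_congr (Subgroup.subgroupOfEquivOfLe hQL).toEquiv]
    refine Nat.card_le_card_of_injective
      (fun y => (⟨g * ((y : L) : G) * g⁻¹, ?_⟩ : h.Q)) fun y y' e => ?_
    · have hm : MulAut.conj g • ((y : L) : G) ∈ ((g • U : Sylow 2 G) : Subgroup G) :=
        Subgroup.smul_mem_pointwise_smul _ _ _ (hU ⟨y, y.2, rfl⟩)
      rw [hg] at hm
      exact hTQ _ hm (c.comm_a_of_mem hi hC ((inferInstance : M.Normal).conj_mem _ (hLM (y : L).2) g) (hTN _ hm))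
    · exact Subtype.ext (Subtype.ext (mul_left_cancel (mul_right_cancel (congrArg Subtype.val e))))
  -- Frobenius
  have hnpc : Cfsg.HasNormalPComplement 2 L := by
    refine Transfer.hasNormalPComplement_of_local P fun Q' hQ' g hg ho => ?_
    have hQ'Q : ∀ q ∈ Q', (q : G) ∈ h.Q := fun q hq =>
      Subgroup.mem_subgroupOf.1 (hP ▸ hQ' hq : q ∈ h.Q.subgroupOf L)
    have hfix : ∀ q ∈ Q', q * q = 1 → g * q = q * g := by
      intro q hq h2
      have hm := (Subgroup.mem_normalizer_iff.1 hg q).1 hq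
      rcases h.Q_invol (hQ'Q q hq) (congrArg Subtype.val h2) with e | e
      · rw [show q = 1 from Subtype.ext e, mul_one, one_mul]
      · rcases h.Q_invol (hQ'Q _ hm) (congrArg Subtype.val
          (show g * q * g⁻¹ * (g * q * g⁻¹) = 1 by rw [conj_mul, h2, mul_one, mul_inv_cancel])) with e' | e'
        · have := conj_eq_one_iff.1 (show g * q * g⁻¹ = 1 from Subtype.ext e')
          rw [this, mul_one, one_mul]
        · exact mul_inv_eq_iff_eq_mul.1 (Subtype.ext (e'.trans e.symm))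
    refine Subgroup.mem_centralizer_iff.2 fun q hq => (?_ : g * q = q * g).symm
    by_cases hfull : h.Q.subgroupOf L ≤ Q'
    · have hgN : (g : G) ∈ c.N := by
        refine c.norm_Q_le_N (Subgroup.mem_normalizer_fintype fun x hx => hQ'Q _
          ((Subgroup.mem_normalizer_iff.1 hg ⟨x, hQL hx⟩).1 (hfull (Subgroup.mem_subgroupOf.2 hx))))
      obtain ⟨v, z, e⟩ := hodd g g.2 hgN (by rwa [Subgroup.orderOf_coe])
      have ht : (g : G) * h.t * (g : G)⁻¹ ∈ h.Q := hQ'Q _
        ((Subgroup.mem_normalizer_iff.1 hg ⟨h.t, hQL h.t_mem_Q⟩).1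
          (hfull (Subgroup.mem_subgroupOf.2 h.t_mem_Q)))
      obtain ⟨B, hB, e'⟩ := ht
      rw [← e, eq_mul_inv_iff_mul_eq, Hyp.t, h.mul, h.mul] at e'
      obtain ⟨ev, -, eB⟩ := h.inj _ _ _ _ _ _ e'
      rw [mul_one, one_mul] at eB
      subst eB
      have hv : v = 0 := neg_self_v2 v (by
        rw [negOne_val] at ev
        simpa [Matrix.neg_mulVec, Matrix.one_mulVec] using ev)
      subst hv
      obtain ⟨B, -, eq'⟩ := hQ'Q q hq
      refine Subtype.ext ?_
      show (g : G) * (q : G) = (q : G) * (g : G)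
      rw [← e, ← eq', h.mul, h.mul]
      simp [det2]
    · by_cases h2 : q * q = 1
      · exact hfix q hq h2
      have hm := (Subgroup.mem_normalizer_iff.1 hg q).1 hq
      have hqz : Q' = Subgroup.zpowers q := by
        refine (Subgroup.eq_of_le_of_card_ge (Subgroup.zpowers_le.2 hq) ?_).symm
        have h4 : orderOf q = 4 := orderOf_eq_prime_pow (p := 2) (n := 1)
          (by simpa [pow_two] using h2)
          (Subtype.ext (h.Q_pow_four (hQ'Q q hq)))
        have hle : Q' ≤ h.Q.subgroupOf L := fun x hx => Subgroup.mem_subgroupOf.2 (hQ'Q x hx)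
        have hd := Subgroup.card_dvd_of_le hle
        rw [Nat.card_congr (Subgroup.subgroupOfEquivOfLe hQL).toEquiv, h.card_Q] at hd
        obtain ⟨k, hk, hk'⟩ := (Nat.dvd_prime_pow Nat.prime_two (m := 3)).1 (by simpa using hd)
        rw [Nat.card_zpowers, h4, hk']
        by_contra hlt
        obtain rfl : k = 3 := by
          by_contra hk3
          have := Nat.pow_le_pow_right (show 2 > 0 by norm_num) (show k ≤ 2 by omega)
          omega
        exact hfull (Subgroup.eq_of_le_of_card_ge hle (by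
          rw [Nat.card_congr (Subgroup.subgroupOfEquivOfLe hQL).toEquiv, h.card_Q, hk']; norm_num)).ge
      have hq4 : q ^ 4 = 1 := Subtype.ext (h.Q_pow_four (hQ'Q q hq))
      have hcase : g * q * g⁻¹ = q ∨ g * q * g⁻¹ = q⁻¹ := by
        rw [hqz] at hm
        obtain ⟨k, hk⟩ := Submonoid.mem_powers_iff _ _ |>.1 (mem_powers_iff_mem_zpowers.2 hm)
        have hkmod : q ^ k = q ^ (k % 4) := pow_eq_pow_mod k hq4
        have hne : ∀ j, g * q * g⁻¹ = q ^ j → (q ^ j) * (q ^ j) ≠ 1 := fun j hj h1 => h2 (by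
          rw [← hj, conj_mul] at h1
          exact conj_eq_one_iff.1 h1)
        rw [hkmod] at hk
        have h4 : k % 4 < 4 := Nat.mod_lt _ (by norm_num)
        interval_cases hr : k % 4
        · exact absurd (by simp) (hne 0 hk.symm)
        · exact Or.inl (by rw [← hk, pow_one])
        · exact absurd (by rw [← pow_add, hq4]) (hne 2 hk.symm)
        · refine Or.inr ?_
          rw [← hk]
          exact eq_inv_of_mul_eq_one_left (by rw [← pow_succ, hq4])
      refine comm_of_sq_comm ho (mul_inv_eq_iff_eq_mul.1 ?_)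
      rw [pow_two, show g * g * q * (g * g)⁻¹ = g * (g * q * g⁻¹) * g⁻¹ by group]
      rcases hcase with e | e <;> rw [e]
      · exact e
      · rw [← conj_inv, e, inv_inv]
  -- the normal 2-complement
  have hchar : ∀ (p : ℕ) (X : Subgroup G), (Cfsg.pResidual p X).Characteristic := fun p X =>
    Subgroup.characteristic_iff_map_eq.2 fun e => Transfer.map_pResidual_equiv e
  set W := (Cfsg.pResidual 2 L).map L.subtype with hW
  have hWc : ¬ 2 ∣ Nat.card W := by
    rw [hW, Subgroup.card_map_of_injective L.subtype_injective]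
    exact Transfer.hasNormalPComplement_iff.1 hnpc
  have hMW : M ≤ Subgroup.normalizer (W : Set G) := hML.trans (norm_map_char L _ (hchar 2 L))
  have hR : ∀ v z, h.P v z 1 ∈ W := fun v z => by
    have hL : h.P v z 1 ∈ L := (hLP _ _ _).2 (Or.inl (one_mul 1))
    refine ⟨⟨_, hL⟩, Transfer.mem_pResidual_of_coprime ?_, rfl⟩
    rw [Subgroup.orderOf_mk]
    refine Nat.Coprime.coprime_dvd_left (orderOf_dvd_of_pow_eq_one (show h.P v z 1 ^ 3 = 1 from ?_))
      (by norm_num)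
    rw [pow_succ', pow_two, h.mul, h.mul, ← h.P_one]
    simp [det2, v2_thrice v]
    ring_nf
    rw [three_eq_zero, mul_zero]
  have haW : h.a ∈ W := h.a_eq ▸ hR 0 1
  have hWN : ∀ y ∈ W, y ∈ c.N → y ^ 3 = 1 := fun y hy hyN => by
    obtain ⟨v, z, rfl⟩ := hodd y (Subgroup.map_subtype_le _ hy) hyN (by
      refine Nat.Coprime.coprime_dvd_left (W.orderOf_dvd_natCard hy) ?_
      exact Nat.Coprime.symm ((Nat.Prime.coprime_iff_not_dvd Nat.prime_two).2 hWc))
    rw [pow_succ', pow_two, h.mul, h.mul, ← h.P_one]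
    simp [det2, v2_thrice v]
    ring_nf
    rw [three_eq_zero, mul_zero]
  -- its normal 3-complement
  obtain ⟨S3, hS3⟩ := (IsPGroup.of_card (p := 3) (n := 1)
    (show Nat.card (Subgroup.zpowers (⟨h.a, haW⟩ : W)) = 3 ^ 1 by
      rw [Nat.card_zpowers, Subgroup.orderOf_mk, h.orderOf_a, pow_one])).exists_le_sylow
  have ha1 : h.a ≠ 1 := fun e => by
    have := h.orderOf_a
    rw [e, orderOf_one] at this
    norm_num at this
  have hS3N : ∀ y ∈ (S3 : Subgroup W), (y : G) ∈ c.N := fun y hy =>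
    c.threeGroup_le_N (S3.isPGroup'.map W.subtype) (x := h.a)
      ⟨⟨h.a, haW⟩, hS3 (Subgroup.mem_zpowers _), rfl⟩ (c.cent_a_le_N rfl) (h.J_exp h.a_mem) ha1
      ⟨y, hy, rfl⟩
  have hnpc3 : Cfsg.HasNormalPComplement 3 W := by
    refine Transfer.hasNormalPComplement_of_normalizers fun Q' hQ' hne => ?_
    obtain ⟨U, hU⟩ := hQ'.exists_le_sylow
    obtain ⟨w, hw⟩ := MulAction.exists_smul_eq W U S3
    obtain ⟨x, hx, hx1⟩ := (Subgroup.bot_or_exists_ne_one Q').resolve_left hne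
    have hmem : ∀ q ∈ Q', ((w * q * w⁻¹ : W) : G) ∈ c.N := fun q hq => hS3N _ (by
      have hm : MulAut.conj w • q ∈ ((w • U : Sylow 3 W) : Subgroup W) :=
        Subgroup.smul_mem_pointwise_smul _ _ _ (hU hq)
      rwa [hw] at hm)
    refine Transfer.hasNormalPComplement_of_isPGroup fun y => ⟨1, Subtype.ext ?_⟩
    have hy' := (Subgroup.mem_normalizer_iff.1 y.2 x).1 hx
    have h3 : ((w * x * w⁻¹ : W) : G) ^ 3 = 1 := hWN _ (w * x * w⁻¹).2 (hmem x hx)
    have hne1 : ((w * x * w⁻¹ : W) : G) ≠ 1 := fun e => hx1 (conj_eq_one_iff.1 (Subtype.ext e))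
    have hyN : ((w * (y : W) * w⁻¹ : W) : G) ∈ c.N := c.se (hmem x hx) h3 hne1 (by
      have := hmem _ hy'
      have e : ((w * (y : W) * w⁻¹ : W) : G) * ((w * x * w⁻¹ : W) : G) * ((w * (y : W) * w⁻¹ : W) : G)⁻¹ =
          ((w * ((y : W) * x * (y : W)⁻¹) * w⁻¹ : W) : G) := by
        push_cast
        group
      rwa [e])
    have h3y := hWN _ (w * (y : W) * w⁻¹).2 hyN
    have h3y' : (w * (y : W) * w⁻¹) ^ 3 = 1 := Subtype.ext h3y
    rw [conj_pow, conj_eq_one_iff] at h3y'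
    simpa using h3y'
  have hU1 : Cfsg.pResidual 3 W = ⊥ := by
    have hb := h.sig ((Cfsg.pResidual 3 W).map W.subtype) (by
      rw [Subgroup.card_map_of_injective W.subtype_injective]
      exact Nat.Coprime.symm ((Nat.Prime.coprime_iff_not_dvd Nat.prime_three).2
        (Transfer.hasNormalPComplement_iff.1 hnpc3)))
      ((fun j hj => norm_map_char W _ (hchar 3 W) (hMW (hC j (h.comm_a hj)))) : h.J ≤ _)
    exact (Subgroup.map_eq_bot_iff_of_injective _ W.subtype_injective).1 hb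
  have hWle : W ≤ c.N := fun y hy => by
    have htop := Transfer.sylow_sup_pResidual S3
    rw [hU1, sup_bot_eq] at htop
    exact hS3N ⟨y, hy⟩ (htop ▸ Subgroup.mem_top _)
  intro g hg
  have htop := Transfer.sylow_sup_pResidual P
  have hle : (⊤ : Subgroup L) ≤ c.N.comap L.subtype := htop ▸ sup_le
    (fun q hq => c.cent_a_le_N (h.Q_comm_a (Subgroup.mem_subgroupOf.1 (hP ▸ hq : q ∈ h.Q.subgroupOf L))))
    (fun y hy => hWle ⟨y, hy, rfl⟩)
  exact hle (Subgroup.mem_top ⟨g, hg⟩)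

/-- In this case `⟨a⟩` is normal. -/
theorem N_eq_top : c.N = ⊤ := by
  obtain ⟨M, hMn, hMi, hiM, hC⟩ := c.exists_M
  obtain ⟨L, hLM, hML, hLP, hcov⟩ := c.exists_L3 hiM hC
  have hLN := c.L_le_N hiM hC hLM hML hLP
  have hMN : M ≤ c.N := fun g hg => by
    obtain ⟨k, hk⟩ := hcov g hg
    simpa using c.N.mul_mem (hLN hk) (c.N.inv_mem (c.cent_a_le_N (h.P_comm_a 0 0 (upper k))))
  refine (Subgroup.eq_top_iff' _).2 fun g => ?_
  by_cases hg : g ∈ M
  · exact hMN hg
  · have : g * c.i ∈ M := (M.mul_mem_iff_of_index_two hMi).2 (iff_of_false hg hiM)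
    simpa using c.N.mul_mem (hMN this) (c.N.inv_mem c.i_mem_N)

end TwoCtx

/-- If `N(J)` normalizes `⟨a⟩` and `a` is conjugate to its inverse, then `⟨a⟩` is normal. -/
theorem Hyp.normalizer_eq_top_of_two {G : Type*} [Group G] [Finite G] (h : Hyp G)
    (hO : ∀ g ∈ h.H, g * h.a * g⁻¹ = h.a ∨ g * h.a * g⁻¹ = h.a⁻¹)
    (hr : ∃ g, g * h.a * g⁻¹ = h.a⁻¹) :
    Subgroup.normalizer (Subgroup.zpowers h.a : Set G) = ⊤ := by
  obtain ⟨c⟩ := h.exists_twoCtx hO hr
  exact c.N_eq_top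

end CfsgLib.Hayden48
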