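import Cfsg.Agent.Hayden48.IndexMain
import Cfsg.Agent.Hayden48.Two
import Cfsg.Agent.Hayden48.RealIndex
import Cfsg.Agent.HeisenbergSL.Extract

/-!
# Coordinates from the abstract hypotheses, and the cases
-/

set_option autoImplicit false
set_option maxRecDepth 100000

namespace CfsgLib.Hayden48

open Matrix
open CfsgLib.HeisenbergSL (SL23 det2 upper negOne)

/-- The diagonal matrix with entries `1` and `k`. -/
def dMat (k : ZMod 3) : Matrix (Fin 2) (Fin 2) (ZMod 3) := !![1, 0; 0, k]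

theorem dMat_sq : ∀ k : ZMod 3, k ≠ 0 → dMat k * dMat k = 1 := by decide +kernel

theorem dMat_det : ∀ k : ZMod 3, k ≠ 0 → (dMat k).det * (dMat k).det = 1 := by decide +kernel

/-- Conjugation by `dMat k`. -/
def dMap (k : ZMod 3) (hk : k ≠ 0) (A : SL23) : SL23 :=
  ⟨dMat k * A.1 * dMat k, by rw [Matrix.det_mul, Matrix.det_mul, A.2, mul_one, dMat_det k hk]⟩

theorem det2_dMat : ∀ k : ZMod 3, k ≠ 0 → ∀ v x : Fin 2 → ZMod 3,
    det2 (dMat k *ᵥ v) (dMat k *ᵥ x) = k * det2 v x := by decide +kernel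

theorem line_of_comm : ∀ v u : Fin 2 → ZMod 3, ∀ l k : ZMod 3, k ≠ 0 →
    v + (upper l).1 *ᵥ u = u + (upper k).1 *ᵥ v → v 1 = k * l * u 1 := by decide +kernel

theorem det_of_comm : ∀ u : Fin 2 → ZMod 3, ∀ k : ZMod 3,
    det2 ![1, 0] u = det2 u ((upper k).1 *ᵥ ![1, 0]) → u 1 = 0 := by decide +kernel

theorem cent_upper : ∀ A : SL23, ∀ k : ZMod 3, k ≠ 0 → A * upper k = upper k * A →
    A * A * A = 1 → ∃ l, A = upper l := by decide +kernel

theorem cent_sl : ∀ A : SL23, (∀ B : SL23, A * B = B * A) → A = 1 ∨ A = negOne := by decide +kernel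

theorem negOne_mulVec : ∀ w : Fin 2 → ZMod 3, negOne.1 *ᵥ w = -w := by decide +kernel

section Coord

variable {G : Type*} [Group G]

/-- Coordinates of a subgroup, as elements of the group. -/
structure Chart (C : Subgroup G) (P : (Fin 2 → ZMod 3) → ZMod 3 → SL23 → G) : Prop where
  inj : ∀ v z A w y B, P v z A = P w y B → v = w ∧ z = y ∧ A = B
  mem : ∀ g : G, g ∈ C ↔ ∃ v z A, P v z A = g
  mul : ∀ v z A w y B, P v z A * P w y B =
    P (v + A.1.mulVec w) (z + y - det2 v (A.1.mulVec w)) (A * B)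

theorem Chart.one {C : Subgroup G} {P} (hP : Chart C P) : P 0 0 1 = 1 := by
  have := hP.mul 0 0 1 0 0 1
  simp [det2] at this
  exact this

theorem Chart.scale {C : Subgroup G} {P} (hP : Chart C P) {k : ZMod 3} (hk : k ≠ 0) :
    Chart C fun v z A => P (dMat k *ᵥ v) (k * z) (dMap k hk A) where
  inj v z A w y B e := by
    obtain ⟨h1, h2, h3⟩ := hP.inj _ _ _ _ _ _ e
    refine ⟨?_, mul_left_cancel₀ hk h2, ?_⟩
    · have := congrArg (fun x => dMat k *ᵥ x) h1
      simp only [Matrix.mulVec_mulVec, dMat_sq k hk, Matrix.one_mulVec] at this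
      exact this
    · refine Subtype.ext ?_
      have h4 := congrArg (fun M : SL23 => dMat k * M.1 * dMat k) h3
      have hid : ∀ M : SL23, dMat k * (dMap k hk M).1 * dMat k = M.1 := fun M => by
        show dMat k * (dMat k * M.1 * dMat k) * dMat k = M.1
        rw [show dMat k * (dMat k * M.1 * dMat k) * dMat k = (dMat k * dMat k) * M.1 * (dMat k * dMat k) by
          simp only [mul_assoc], dMat_sq k hk, one_mul, mul_one]
      simpa [hid] using h4
  mem g := by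
    rw [hP.mem]
    constructor
    · rintro ⟨v, z, A, rfl⟩
      refine ⟨dMat k *ᵥ v, k * z, dMap k hk A, ?_⟩
      show P (dMat k *ᵥ (dMat k *ᵥ v)) (k * (k * z)) (dMap k hk (dMap k hk A)) = _
      rw [Matrix.mulVec_mulVec, dMat_sq k hk, Matrix.one_mulVec, ← mul_assoc,
        (show ∀ k : ZMod 3, k ≠ 0 → k * k = 1 by decide) k hk, one_mul]
      congr 1
      refine Subtype.ext ?_
      show dMat k * (dMat k * A.1 * dMat k) * dMat k = A.1
      rw [show dMat k * (dMat k * A.1 * dMat k) * dMat k = (dMat k * dMat k) * A.1 * (dMat k * dMat k) by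
        simp only [mul_assoc], dMat_sq k hk, one_mul, mul_one]
    · rintro ⟨v, z, A, rfl⟩
      exact ⟨_, _, _, rfl⟩
  mul v z A w y B := by
    have hA : (dMap k hk A).1 *ᵥ (dMat k *ᵥ w) = dMat k *ᵥ (A.1 *ᵥ w) := by
      show (dMat k * A.1 * dMat k) *ᵥ (dMat k *ᵥ w) = _
      rw [Matrix.mulVec_mulVec, Matrix.mulVec_mulVec, mul_assoc _ (dMat k) (dMat k), dMat_sq k hk,
        mul_one]
    show P (dMat k *ᵥ v) (k * z) (dMap k hk A) * P (dMat k *ᵥ w) (k * y) (dMap k hk B) = _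
    rw [hP.mul, hA, ← Matrix.mulVec_add, det2_dMat k hk]
    have hAB : dMap k hk A * dMap k hk B = dMap k hk (A * B) := by
      refine Subtype.ext ?_
      show (dMat k * A.1 * dMat k) * (dMat k * B.1 * dMat k) = dMat k * (A.1 * B.1) * dMat k
      rw [show (dMat k * A.1 * dMat k) * (dMat k * B.1 * dMat k) =
        dMat k * A.1 * (dMat k * dMat k) * B.1 * dMat k by simp only [mul_assoc], dMat_sq k hk, mul_one]
      simp only [mul_assoc]
    rw [hAB]
    congr 1
    ring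

theorem Chart.conj {C : Subgroup G} {P} (hP : Chart C P) {g : G} (hg : g ∈ C) :
    Chart C fun v z A => g⁻¹ * P v z A * g where
  inj v z A w y B e := hP.inj _ _ _ _ _ _ (mul_left_cancel (mul_right_cancel e))
  mem x := by
    constructor
    · intro hx
      obtain ⟨v, z, A, e⟩ := (hP.mem (g * x * g⁻¹)).1 (C.mul_mem (C.mul_mem hg hx) (C.inv_mem hg))
      exact ⟨v, z, A, by rw [e]; group⟩
    · rintro ⟨v, z, A, rfl⟩
      exact C.mul_mem (C.mul_mem (C.inv_mem hg) ((hP.mem _).2 ⟨v, z, A, rfl⟩)) hg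
  mul v z A w y B := by rw [← hP.mul]; group

/-- The element `a` in a chart of its centralizer. -/
theorem Chart.central {C : Subgroup G} {P} (hP : Chart C P) {a : G} (haC : a ∈ C) (ha : orderOf a = 3)
    (hc : ∀ g ∈ C, g * a = a * g) : ∃ k, k ≠ 0 ∧ P 0 k 1 = a := by
  obtain ⟨v, z, A, rfl⟩ := (hP.mem a).1 haC
  have hall : ∀ w y B, P w y B * P v z A = P v z A * P w y B :=
    fun w y B => hc _ ((hP.mem _).2 ⟨w, y, B, rfl⟩)
  have hv : v = 0 := by
    have e := hall 0 0 negOne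
    rw [hP.mul, hP.mul] at e
    have e1 := (hP.inj _ _ _ _ _ _ e).1
    rw [Matrix.mulVec_zero, add_zero, zero_add, negOne_mulVec] at e1
    exact neg_self_v2 v e1
  subst hv
  have hA : ∀ B : SL23, A * B = B * A := fun B => by
    have e := hall 0 0 B
    rw [hP.mul, hP.mul] at e
    exact ((hP.inj _ _ _ _ _ _ e).2.2).symm
  rcases cent_sl A hA with rfl | rfl
  · refine ⟨z, fun hz => ?_, rfl⟩
    subst hz
    rw [hP.one, orderOf_one] at ha
    norm_num at ha
  · exfalso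
    have e := hall ![1, 0] 0 1
    rw [hP.mul, hP.mul] at e
    have e1 := (hP.inj _ _ _ _ _ _ e).1
    rw [Matrix.mulVec_zero, add_zero, zero_add, negOne_mulVec] at e1
    exact absurd (congrFun e1 0) (by decide)

variable [Finite G]

/-- The hypotheses in coordinates. -/
theorem exists_hyp (a : G) (ha : orderOf a = 3) (C : Subgroup G)
    (hC : C = Subgroup.centralizer ({a} : Set G))
    (hR : Cfsg.IsExtraspecial 3 (Cfsg.pCore 3 C)) (hRcard : Nat.card (Cfsg.pCore 3 C) = 27)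
    (hRexp : ∀ r ∈ Cfsg.pCore 3 C, r ^ 3 = 1)
    (e : C ⧸ Cfsg.pCore 3 C ≃* Matrix.SpecialLinearGroup (Fin 2) (ZMod 3))
    (J : Subgroup G) (hJC : J ≤ C) (hJcomm : IsMulCommutative J) (hJexp : ∀ j ∈ J, j ^ 3 = 1)
    (hJcard : Nat.card J = 27)
    (hJsig : ∀ K : Subgroup G, (Nat.card K).Coprime 3 →
      (∀ j ∈ J, K.map (MulAut.conj j).toMonoidHom = K) → K = ⊥) :
    ∃ h : Hyp G, h.a = a := by
  classical
  haveI : Fact (Nat.Prime 2) := ⟨Nat.prime_two⟩
  have hJc : ∀ x ∈ J, ∀ y ∈ J, x * y = y * x := fun x hx y hy =>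
    congrArg Subtype.val (hJcomm.is_comm.comm ⟨x, hx⟩ ⟨y, hy⟩)
  have hsig : ∀ K : Subgroup G, (Nat.card K).Coprime 3 → J ≤ Subgroup.normalizer (K : Set G) →
      K = ⊥ := fun K hK hn => hJsig K hK fun j hj =>
    Subgroup.eq_of_le_of_card_ge (by
      rintro _ ⟨x, hx, rfl⟩
      exact (Subgroup.mem_normalizer_iff.1 (hn hj) x).1 hx)
      (by rw [Subgroup.card_map_of_injective (f := (MulAut.conj j).toMonoidHom) (MulAut.conj j).injective])
  have hO2 : Cfsg.pCore 2 C = ⊥ := by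
    have hch : (Cfsg.pCore 2 C).Characteristic :=
      Subgroup.characteristic_iff_map_eq.mpr fun φ => PLocal.map_pCore_equiv φ
    have hcop : (Nat.card (Cfsg.pCore 2 C)).Coprime 3 := by
      obtain ⟨n, hn⟩ := IsPGroup.iff_card.1 (PLocal.isPGroup_pCore 2 C)
      rw [hn]
      exact Nat.Coprime.pow_left n (by norm_num)
    have hb := hsig ((Cfsg.pCore 2 C).map C.subtype)
      (by rwa [Subgroup.card_map_of_injective C.subtype_injective])
      ((hJC.trans Subgroup.le_normalizer).trans (norm_map_char C _ hch))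
    rwa [Subgroup.map_eq_bot_iff_of_injective _ C.subtype_injective] at hb
  obtain ⟨Fr, -⟩ := HeisenbergSL.exists_frame hR hRcard hRexp e hO2
  obtain ⟨P₀, hP₀⟩ := Fr.exists_coord ⟨J.subgroupOf C,
    ⟨⟨fun x y => Subtype.ext (Subtype.ext (hJc _ x.2 _ y.2))⟩⟩,
    fun x hx => Subtype.ext (by push_cast; exact hJexp _ hx),
    by rw [Nat.card_congr (Subgroup.subgroupOfEquivOfLe hJC).toEquiv, hJcard]⟩
  have hch₀ : Chart C fun v z A => (P₀ v z A : G) :=
    { inj := fun v z A w y B e => hP₀.injective _ _ _ _ _ _ (Subtype.ext e)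
      mem := fun g => ⟨fun hg => by
          obtain ⟨v, z, A, e⟩ := hP₀.surjective ⟨g, hg⟩
          exact ⟨v, z, A, congrArg Subtype.val e⟩,
        by rintro ⟨v, z, A, rfl⟩; exact (P₀ v z A).2⟩
      mul := fun v z A w y B => congrArg Subtype.val (hP₀.mul v z A w y B) }
  have haC : a ∈ C := by rw [hC]; exact Subgroup.mem_centralizer_singleton_iff.2 rfl
  have hca : ∀ g ∈ C, g * a = a * g := fun g hg => by
    rw [hC] at hg
    exact Subgroup.mem_centralizer_singleton_iff.1 hg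
  obtain ⟨k, hk, hka⟩ := hch₀.central haC ha hca
  have hch₁ := hch₀.scale hk
  set P₁ := fun v z A => (P₀ (dMat k *ᵥ v) (k * z) (dMap k hk A) : G) with hP₁
  have ha₁ : P₁ 0 1 1 = a := by
    rw [hP₁]
    show (P₀ (dMat k *ᵥ 0) (k * 1) (dMap k hk 1) : G) = a
    rw [Matrix.mulVec_zero, mul_one, show dMap k hk 1 = 1 from Subtype.ext (by
      show dMat k * 1 * dMat k = 1
      rw [mul_one, dMat_sq k hk]), hka]
  -- an element of `J` outside `R`
  obtain ⟨v, z, A, hA1, hjJ⟩ : ∃ v z A, A ≠ 1 ∧ P₁ v z A ∈ J := by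
    by_contra hall
    push Not at hall
    have hsub : ∀ x ∈ J, ∃ p : (Fin 2 → ZMod 3) × ZMod 3, P₁ p.1 p.2 1 = x := by
      intro x hx
      obtain ⟨v, z, A, rfl⟩ := (hch₁.mem x).1 (hJC hx)
      obtain rfl : A = 1 := by_contra fun hA => hall v z A hA hx
      exact ⟨(v, z), rfl⟩
    choose f hf using hsub
    have hbij : Function.Bijective (fun x : J => f x.1 x.2) := by
      refine (Nat.bijective_iff_injective_and_card _).2 ⟨fun x y e => Subtype.ext ?_, ?_⟩
      · rw [← hf x.1 x.2, ← hf y.1 y.2]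
        exact congrArg (fun p : (Fin 2 → ZMod 3) × ZMod 3 => P₁ p.1 p.2 1) e
      · rw [hJcard, Nat.card_prod]
        simp
    obtain ⟨x, hx⟩ := hbij.2 (![1, 0], 0)
    obtain ⟨y, hy⟩ := hbij.2 (![0, 1], 0)
    have e1 : P₁ ![1, 0] 0 1 = x.1 :=
      (congrArg (fun p : (Fin 2 → ZMod 3) × ZMod 3 => P₁ p.1 p.2 1) hx).symm.trans (hf x.1 x.2)
    have e2 : P₁ ![0, 1] 0 1 = y.1 :=
      (congrArg (fun p : (Fin 2 → ZMod 3) × ZMod 3 => P₁ p.1 p.2 1) hy).symm.trans (hf y.1 y.2)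
    have hcm := hJc _ x.2 _ y.2
    rw [← e1, ← e2, hch₁.mul, hch₁.mul] at hcm
    exact absurd (hch₁.inj _ _ _ _ _ _ hcm).2.1 (by decide +kernel)
  have hA3 : A * A * A = 1 := by
    have h3 := hJexp _ hjJ
    rw [pow_succ, pow_two, hch₁.mul, hch₁.mul, ← hch₁.one] at h3
    exact (hch₁.inj _ _ _ _ _ _ h3).2.2
  obtain ⟨B, l, hBA⟩ := exists_sl_conj A hA3
  have hl : l ≠ 0 := by
    rintro rfl
    refine hA1 (mul_left_cancel (a := B) ?_)
    rw [hBA, upper_zero, one_mul, mul_one]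
  set g := P₁ 0 0 B with hg
  have hgC : g ∈ C := (hch₁.mem _).2 ⟨_, _, _, rfl⟩
  have hch₂ := hch₁.conj hgC
  set P := fun v z A => g⁻¹ * P₁ v z A * g with hP
  have haP : P 0 1 1 = a := by
    show g⁻¹ * P₁ 0 1 1 * g = a
    rw [ha₁, mul_assoc, ← hca g hgC, inv_mul_cancel_left]
  have hj : P (B.1 *ᵥ v) z (upper l) ∈ J := by
    have e1 : P₁ (B.1 *ᵥ v) z (upper l) * g = g * P₁ v z A := by
      rw [hg, hch₁.mul, hch₁.mul, hBA]
      simp [det2]
    show g⁻¹ * P₁ (B.1 *ᵥ v) z (upper l) * g ∈ J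
    rwa [mul_assoc, e1, inv_mul_cancel_left]
  set u := B.1 *ᵥ v with hu
  have hform : ∀ x ∈ J, ∃ p : V3, ∃ w1 : ZMod 3, P ![p.1, w1] p.2.1 (upper p.2.2) = x ∧
      w1 = l * p.2.2 * u 1 ∧ det2 ![p.1, w1] ((upper p.2.2).1 *ᵥ u) = det2 u ((upper l).1 *ᵥ ![p.1, w1]) := by
    intro x hx
    obtain ⟨w, y, M, rfl⟩ := (hch₂.mem x).1 (hJC hx)
    have hcm := hJc _ hx _ hj
    rw [hch₂.mul, hch₂.mul] at hcm
    obtain ⟨c1, c2, c3⟩ := hch₂.inj _ _ _ _ _ _ hcm
    have hM3 : M * M * M = 1 := by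
      have h3 := hJexp _ hx
      rw [pow_succ, pow_two, hch₂.mul, hch₂.mul, ← hch₂.one] at h3
      exact (hch₂.inj _ _ _ _ _ _ h3).2.2
    obtain ⟨m, rfl⟩ := cent_upper M l hl c3 hM3
    have hw : w = ![w 0, w 1] := by ext i; fin_cases i <;> rfl
    refine ⟨(w 0, y, m), w 1, ?_, line_of_comm w u m l hl c1, ?_⟩
    · rw [← hw]
    · rw [← hw]
      linear_combination -c2
  choose f w1 hf hw1 hdet using hform
  have hbij : Function.Bijective (fun x : J => f x.1 x.2) := by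
    refine (Nat.bijective_iff_injective_and_card _).2 ⟨fun x y e => Subtype.ext ?_, by rw [hJcard]; simp⟩
    rw [← hf x.1 x.2, ← hf y.1 y.2, hw1 x.1 x.2, hw1 y.1 y.2, show f x.1 x.2 = f y.1 y.2 from e]
  have hu1 : u 1 = 0 := by
    obtain ⟨x, hx⟩ := hbij.2 ((1, 0, 0) : V3)
    have h0 : f x.1 x.2 = ((1, 0, 0) : V3) := hx
    have h2 := hdet x.1 x.2
    have h1 := hw1 x.1 x.2
    rw [h0] at h2 h1
    rw [show (((1, 0, 0) : V3)).2.2 = 0 from rfl, mul_zero, zero_mul] at h1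
    rw [h1, show (((1, 0, 0) : V3)).2.2 = 0 from rfl, upper_zero,
      Matrix.SpecialLinearGroup.coe_one, Matrix.one_mulVec] at h2
    exact det_of_comm u l h2
  have hform' : ∀ x : J, P ![(f x.1 x.2).1, 0] (f x.1 x.2).2.1 (upper (f x.1 x.2).2.2) = x.1 := by
    intro x
    conv_rhs => rw [← hf x.1 x.2, hw1 x.1 x.2, hu1, mul_zero]
  refine ⟨{
    a := a
    P := P
    inj := hch₂.inj
    mul := hch₂.mul
    mem_cent := fun x => by
      rw [← hch₂.mem, hC, Subgroup.mem_centralizer_singleton_iff]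
    a_eq := haP
    J := J
    mem_J := fun x => ⟨fun hx => ⟨_, _, _, hform' ⟨x, hx⟩⟩, fun ⟨x₀, y₀, m₀, e₀⟩ => by
      obtain ⟨j, hj'⟩ := hbij.2 ((x₀, y₀, m₀) : V3)
      have h0 : f j.1 j.2 = ((x₀, y₀, m₀) : V3) := hj'
      have := hform' j
      rw [h0] at this
      rw [← e₀, this]
      exact j.2⟩
    sig := hsig }, rfl⟩

end Coord

theorem eight_card_two : ∀ p : V3, p.1 = 0 → p.2.2 = 0 → p ≠ 0 → p = va ∨ p = -va := by decide +kernel

namespace Hyp

variable {G : Type*} [Group G] [Finite G] (h : Hyp G)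

/-- The real case, up to the identification of the symplectic group. -/
theorem real_cases {F : Type*} [Field F] [Fintype F] (hF : Fintype.card F = 3) (hr : h.O (-va)) :
    Subgroup.normalizer (Subgroup.zpowers h.a : Set G) = ⊤ ∨
      Nonempty (G ≃* MulAut (Cfsg.PSp 2 F)) ∨
      ∃ k : Hyp G, (∀ p, k.O p ↔ p ∈ eight 0) ∧ (∀ K : Subgroup G, K.index ≠ 2) ∧
        Nonempty (k.Cv vc ⧸ k.Uv vc ≃* Equiv.Perm (Fin 6)) := by
  rcases h.cases_real hr with hO | ⟨z, hO⟩
  · left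
    refine h.normalizer_eq_top_of_two (fun g hg => ?_) ?_
    · obtain ⟨p, hp⟩ := h.exists_jj (h.conj_mem hg h.a_mem)
      rcases hO p (isConj_iff.2 ⟨g, hp.symm⟩) with rfl | rfl
      · left
        rw [← hp, va, h.jj_a]
      · right
        rw [← hp, ← h.jj_inv, va, h.jj_a]
    · obtain ⟨g, hg⟩ := isConj_iff.1 (h.O_nva_iff.1 hr)
      exact ⟨g, hg⟩
  · right
    set k := h.shift (-z) with hk
    have hkO := h.shift_eight hO
    by_cases hK : ∃ K : Subgroup G, K.index = 2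
    · obtain ⟨K, hK⟩ := hK
      exact Or.inl (k.nonempty_aut_of_index_two hkO hF K hK)
    · rcases k.cent_vc_cases hkO with hle | hs
      · exact absurd (k.exists_index_two_of_cent hkO hle) hK
      · exact Or.inr ⟨k, hkO, fun K h2 => hK ⟨K, h2⟩, hs⟩

end Hyp

end CfsgLib.Hayden48
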