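import Cfsg.Agent.HeisenbergSL.Small
import Mathlib.GroupTheory.Sylow

/-!
# Coordinates for a group with a 3-element whose centralizer is `3^{1+2}.SL(2,3)`

The hypotheses of Hayden's theorem in coordinates, and the abelian subgroup `J` of order 27.
-/

set_option autoImplicit false

namespace CfsgLib.Hayden48

open Matrix
open CfsgLib.HeisenbergSL (SL23 det2 upper negOne)

/-- The centralizer of `a` has coordinates `P`, and `J` is signalizer free. -/
structure Hyp (G : Type*) [Group G] where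
  a : G
  P : (Fin 2 → ZMod 3) → ZMod 3 → SL23 → G
  inj : ∀ v z A w y B, P v z A = P w y B → v = w ∧ z = y ∧ A = B
  mul : ∀ v z A w y B, P v z A * P w y B =
    P (v + A.1.mulVec w) (z + y - det2 v (A.1.mulVec w)) (A * B)
  mem_cent : ∀ g : G, g * a = a * g ↔ ∃ v z A, P v z A = g
  a_eq : P 0 1 1 = a
  J : Subgroup G
  mem_J : ∀ g : G, g ∈ J ↔ ∃ x z k, P ![x, 0] z (upper k) = g
  sig : ∀ K : Subgroup G, (Nat.card K).Coprime 3 → J ≤ Subgroup.normalizer (K : Set G) → K = ⊥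

/-- Coordinates of `J`. -/
abbrev V3 := ZMod 3 × ZMod 3 × ZMod 3

theorem upper_add : ∀ k l : ZMod 3, upper k * upper l = upper (k + l) := by
  intro k l
  refine Subtype.ext ?_
  show !![1, k; 0, 1] * !![1, l; 0, 1] = !![1, k + l; 0, 1]
  rw [Matrix.mul_fin_two]
  simp [add_comm]

theorem upper_zero : upper 0 = 1 := by
  refine Subtype.ext ?_
  show !![(1 : ZMod 3), 0; 0, 1] = 1
  exact (Matrix.one_fin_two).symm

theorem upper_inj {k l : ZMod 3} (h : upper k = upper l) : k = l :=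
  congrFun (congrFun (congrArg Subtype.val h) 0) 1

theorem upper_fix : ∀ x k : ZMod 3, (upper k).1 *ᵥ ![x, 0] = ![x, 0] := by decide +kernel

/-- The action of `P v z (ε upper β)` on the coordinates of `J`, with `q` the second entry of `v`. -/
def wmap (ε q : ZMod 3) (p : V3) : V3 :=
  (ε * p.1 - p.2.2 * q, p.2.1 + 2 * q * (ε * p.1) - p.2.2 * q * q, p.2.2)

theorem entries_cent : ∀ a b c d p q : ZMod 3, a * d - b * c = 1 →
    (![p, q] + !![a, b; c, d] *ᵥ ![1, 0] = ![1, 0] + ![p, q]) →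
    !![a, b; c, d] * !![1, 1; 0, 1] = !![1, 1; 0, 1] * !![a, b; c, d] →
    (- det2 ![p, q] (!![a, b; c, d] *ᵥ ![1, 0]) = - det2 ![1, 0] ![p, q]) →
      c = 0 ∧ a = 1 ∧ d = 1 ∧ q = 0 := by decide +kernel

theorem exists_upper_of_entries (A : SL23) (ha : A.1 0 0 = 1) (hc : A.1 1 0 = 0)
    (hd : A.1 1 1 = 1) : A = upper (A.1 0 1) := by
  refine Subtype.ext ?_
  show A.1 = !![1, A.1 0 1; 0, 1]
  conv_lhs => rw [Matrix.eta_fin_two A.1, ha, hc, hd]

namespace Hyp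

variable {G : Type*} [Group G] (h : Hyp G)

theorem P_one : h.P 0 0 1 = 1 := by
  have := h.mul 0 0 1 0 0 1
  simp [det2] at this
  exact this

theorem P_comm_a (v : Fin 2 → ZMod 3) (z : ZMod 3) (A : SL23) :
    h.P v z A * h.a = h.a * h.P v z A := (h.mem_cent _).2 ⟨v, z, A, rfl⟩

/-- The element of `J` with the given coordinates. -/
def jj (p : V3) : G := h.P ![p.1, 0] p.2.1 (upper p.2.2)

theorem jj_mul (p r : V3) : h.jj p * h.jj r = h.jj (p + r) := by
  rw [jj, jj, jj, h.mul, upper_fix, upper_add]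
  simp [det2]

theorem jj_zero : h.jj 0 = 1 := by
  show h.P ![0, 0] 0 (upper 0) = 1
  rw [upper_zero, show (![0, 0] : Fin 2 → ZMod 3) = 0 by ext i; fin_cases i <;> rfl]
  exact h.P_one

theorem jj_inv (p : V3) : (h.jj p)⁻¹ = h.jj (-p) := by
  refine inv_eq_of_mul_eq_one_right ?_
  rw [h.jj_mul, add_neg_cancel, h.jj_zero]

theorem jj_inj {p r : V3} (e : h.jj p = h.jj r) : p = r := by
  obtain ⟨h1, h2, h3⟩ := h.inj _ _ _ _ _ _ e
  exact Prod.ext (congrFun h1 0) (Prod.ext h2 (upper_inj h3))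

theorem jj_mem (p : V3) : h.jj p ∈ h.J := (h.mem_J _).2 ⟨p.1, p.2.1, p.2.2, rfl⟩

theorem exists_jj {g : G} (hg : g ∈ h.J) : ∃ p, h.jj p = g := by
  obtain ⟨x, z, k, e⟩ := (h.mem_J g).1 hg
  exact ⟨(x, z, k), e⟩

theorem jj_a : h.jj (0, 1, 0) = h.a := by
  show h.P ![0, 0] 1 (upper 0) = h.a
  rw [upper_zero, show (![0, 0] : Fin 2 → ZMod 3) = 0 by ext i; fin_cases i <;> rfl]
  exact h.a_eq

theorem a_mem : h.a ∈ h.J := h.jj_a ▸ h.jj_mem _

theorem J_comm {x y : G} (hx : x ∈ h.J) (hy : y ∈ h.J) : x * y = y * x := by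
  obtain ⟨p, rfl⟩ := h.exists_jj hx
  obtain ⟨r, rfl⟩ := h.exists_jj hy
  rw [h.jj_mul, h.jj_mul, add_comm]

theorem jj_pow (p : V3) (n : ℕ) : h.jj p ^ n = h.jj (n • p) := by
  induction n with
  | zero => rw [pow_zero, zero_smul, h.jj_zero]
  | succ n ih => rw [pow_succ, ih, h.jj_mul, succ_nsmul]

theorem J_exp {x : G} (hx : x ∈ h.J) : x ^ 3 = 1 := by
  obtain ⟨p, rfl⟩ := h.exists_jj hx
  rw [h.jj_pow, ← h.jj_zero]
  congr 1
  exact (show ∀ p : V3, (3 : ℕ) • p = 0 by decide +kernel) p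

theorem card_J : Nat.card h.J = 27 := by
  rw [← Nat.card_congr (Equiv.ofBijective (fun p : V3 => (⟨h.jj p, h.jj_mem p⟩ : h.J))
    ⟨fun p r e => h.jj_inj (congrArg Subtype.val e), fun g =>
      (h.exists_jj g.2).imp fun p e => Subtype.ext e⟩)]
  simp

theorem orderOf_a : orderOf h.a = 3 := by
  haveI : Fact (Nat.Prime 3) := ⟨Nat.prime_three⟩
  refine orderOf_eq_prime (h.J_exp h.a_mem) fun e => ?_
  rw [← h.jj_a, ← h.jj_zero] at e
  exact absurd (h.jj_inj e) (by decide)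

theorem comm_a {x : G} (hx : x ∈ h.J) : x * h.a = h.a * x := h.J_comm hx h.a_mem

/-- `J` is its own centralizer. -/
theorem mem_J_of_comm {g : G} (hg : ∀ x ∈ h.J, g * x = x * g) : g ∈ h.J := by
  obtain ⟨v, z, A, rfl⟩ := (h.mem_cent g).1 (hg _ h.a_mem)
  have e1 := hg _ (h.jj_mem (1, 0, 0))
  have e2 := hg _ (h.jj_mem (0, 0, 1))
  rw [jj, h.mul, h.mul] at e1 e2
  obtain ⟨a1, a2, -⟩ := h.inj _ _ _ _ _ _ e1
  obtain ⟨-, -, b3⟩ := h.inj _ _ _ _ _ _ e2
  simp only [upper_zero, Matrix.SpecialLinearGroup.coe_one, Matrix.one_mulVec, add_zero, zero_add] at a1 a2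
  have hv : v = ![v 0, v 1] := by ext i; fin_cases i <;> rfl
  have b3' := congrArg Subtype.val b3
  simp only [Matrix.SpecialLinearGroup.coe_mul] at b3'
  have hu : (upper 1).1 = !![(1 : ZMod 3), 1; 0, 1] := rfl
  rw [hu, Matrix.eta_fin_two A.1] at b3'
  rw [hv, Matrix.eta_fin_two A.1] at a1 a2
  obtain ⟨hc, ha, hd, hq⟩ := entries_cent _ _ _ _ _ _
    (by rw [← Matrix.det_fin_two, A.2]) a1 b3' (by linear_combination a2)
  refine (h.mem_J _).2 ⟨v 0, z, A.1 0 1, ?_⟩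
  rw [← exists_upper_of_entries A ha hc hd]
  congr 1
  rw [hv, hq]
  rfl

end Hyp

end CfsgLib.Hayden48
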