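import Cfsg.Agent.Hayden48.Basic

/-!
# The abelianisation of `SL(2,3)` and a change of coordinates
-/

set_option autoImplicit false

namespace CfsgLib.Hayden48

open Matrix
open CfsgLib.HeisenbergSL (SL23 det2 upper negOne)

/-- The map of `SL(2,3)` onto `ZMod 3`, on entries. -/
def chiFun (a b c d : ZMod 3) : ZMod 3 := (a + d) * (-b + (1 - b * b) * c)

theorem chiFun_mul : ∀ a b c d : ZMod 3, a * d - b * c = 1 → ∀ a' b' c' d' : ZMod 3,
    a' * d' - b' * c' = 1 →
      chiFun (a * a' + b * c') (a * b' + b * d') (c * a' + d * c') (c * b' + d * d') =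
        chiFun a b c d + chiFun a' b' c' d' := by decide +kernel

/-- The map of `SL(2,3)` onto `ZMod 3`. -/
def chi (A : SL23) : ZMod 3 := chiFun (A.1 0 0) (A.1 0 1) (A.1 1 0) (A.1 1 1)

theorem chi_mul (A B : SL23) : chi (A * B) = chi A + chi B := by
  have hA : A.1 0 0 * A.1 1 1 - A.1 0 1 * A.1 1 0 = 1 := by rw [← Matrix.det_fin_two, A.2]
  have hB : B.1 0 0 * B.1 1 1 - B.1 0 1 * B.1 1 0 = 1 := by rw [← Matrix.det_fin_two, B.2]
  rw [chi, chi, chi, ← chiFun_mul _ _ _ _ hA _ _ _ _ hB, Matrix.SpecialLinearGroup.coe_mul]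
  simp only [Matrix.mul_apply, Fin.sum_univ_two]

theorem chi_one : chi 1 = 0 := by decide +kernel

theorem chi_upper : ∀ k : ZMod 3, chi (upper k) = k := by decide +kernel

/-- Coordinates sheared by a multiple of the map onto `ZMod 3`. -/
def Hyp.shift {G : Type*} [Group G] (h : Hyp G) (c : ZMod 3) : Hyp G where
  a := h.a
  P v z A := h.P v (z + c * chi A) A
  inj v z A w y B e := by
    obtain ⟨h1, h2, h3⟩ := h.inj _ _ _ _ _ _ e
    subst h1 h3
    exact ⟨rfl, add_right_cancel h2, rfl⟩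
  mul v z A w y B := by
    rw [h.mul, chi_mul]
    congr 1
    ring
  mem_cent g := by
    rw [h.mem_cent]
    constructor
    · rintro ⟨v, z, A, rfl⟩
      exact ⟨v, z - c * chi A, A, by rw [sub_add_cancel]⟩
    · rintro ⟨v, z, A, rfl⟩
      exact ⟨_, _, _, rfl⟩
  a_eq := by rw [chi_one, mul_zero, add_zero, h.a_eq]
  J := h.J
  mem_J g := by
    rw [h.mem_J]
    constructor
    · rintro ⟨x, z, k, rfl⟩
      exact ⟨x, z - c * k, k, by rw [chi_upper, sub_add_cancel]⟩
    · rintro ⟨x, z, k, rfl⟩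
      exact ⟨_, _, _, rfl⟩
  sig := h.sig

theorem Hyp.shift_jj {G : Type*} [Group G] (h : Hyp G) (c : ZMod 3) (p : V3) :
    (h.shift c).jj p = h.jj (p.1, p.2.1 + c * p.2.2, p.2.2) := by
  show h.P ![p.1, 0] (p.2.1 + c * chi (upper p.2.2)) (upper p.2.2) = _
  rw [chi_upper]
  rfl

end CfsgLib.Hayden48
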