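import Cfsg.Agent.Hayden48.Act

/-!
# The Sylow 3-subgroup, and the control of fusion in `J` by its normalizer
-/

set_option autoImplicit false

namespace CfsgLib.Hayden48

open Matrix
open CfsgLib.HeisenbergSL (SL23 det2 upper negOne)

theorem upper_eq_borel : ∀ k : ZMod 3, upper k = borel 1 k := by decide +kernel

theorem upper_neg_inv : ∀ k : ZMod 3, upper k * upper (-k) = 1 := by decide +kernel

theorem fix_line : ∀ q : ZMod 3, q ≠ 0 → ∀ p : V3, wmap 1 q p = p → p.1 = 0 ∧ p.2.2 = 0 := by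
  decide +kernel

theorem cube_entries : ∀ p q k : ZMod 3,
    (![p, q] + (upper k).1 *ᵥ (![p, q] + (upper k).1 *ᵥ ![p, q]) = 0) →
    - det2 ![p, q] ((upper k).1 *ᵥ ![p, q]) -
      det2 ![p, q] ((upper k).1 *ᵥ (![p, q] + (upper k).1 *ᵥ ![p, q])) = 0 → k = 0 ∨ q = 0 := by
  decide +kernel

theorem exists_sl_map : ∀ p q : ZMod 3, ![p, q] ≠ 0 → ∃ a b c d : ZMod 3,
    a * d - b * c = 1 ∧ !![a, b; c, d] *ᵥ ![p, q] = ![1, 0] := by decide +kernel

namespace Hyp

variable {G : Type*} [Group G] (h : Hyp G)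

/-- The Sylow 3-subgroup. -/
def S : Subgroup G where
  carrier := {g | ∃ v z k, h.P v z (upper k) = g}
  one_mem' := ⟨0, 0, 0, by rw [upper_zero]; exact h.P_one⟩
  mul_mem' := by
    rintro _ _ ⟨v, z, k, rfl⟩ ⟨w, y, l, rfl⟩
    exact ⟨_, _, k + l, by rw [h.mul, upper_add]⟩
  inv_mem' := by
    rintro _ ⟨v, z, k, rfl⟩
    set w := -((upper (-k)).1 *ᵥ v) with hw
    refine ⟨w, -z + det2 v ((upper k).1 *ᵥ w), -k, ?_⟩
    refine eq_inv_of_mul_eq_one_right ?_
    have hv : v + (upper k).1 *ᵥ w = 0 := by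
      rw [hw, Matrix.mulVec_neg, Matrix.mulVec_mulVec,
        ← Matrix.SpecialLinearGroup.coe_mul, upper_neg_inv]
      simp
    rw [h.mul, upper_neg_inv, hv, ← h.P_one]
    congr 1
    ring

theorem mem_S {g : G} : g ∈ h.S ↔ ∃ v z k, h.P v z (upper k) = g := Iff.rfl

theorem J_le_S : h.J ≤ h.S := fun g hg => by
  obtain ⟨⟨x, z, k⟩, rfl⟩ := h.exists_jj hg
  exact ⟨_, _, _, rfl⟩

theorem S_comm_a {g : G} (hg : g ∈ h.S) : g * h.a = h.a * g := by
  obtain ⟨v, z, k, rfl⟩ := hg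
  exact h.P_comm_a _ _ _

theorem S_le_H [Finite G] : h.S ≤ h.H := by
  rintro _ ⟨v, z, k, rfl⟩
  rw [upper_eq_borel]
  exact h.P_borel_mem v z 1 k (by decide)

theorem card_S : Nat.card h.S = 81 := by
  rw [← Nat.card_congr (Equiv.ofBijective
    (fun p : (Fin 2 → ZMod 3) × ZMod 3 × ZMod 3 =>
      (⟨h.P p.1 p.2.1 (upper p.2.2), _, _, _, rfl⟩ : h.S))
    ⟨fun p r e => by
      obtain ⟨h1, h2, h3⟩ := h.inj _ _ _ _ _ _ (congrArg Subtype.val e)
      exact Prod.ext h1 (Prod.ext h2 (upper_inj h3)),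
     fun g => by
      obtain ⟨v, z, k, e⟩ := g.2
      exact ⟨(v, z, k), Subtype.ext e⟩⟩)]
  simp

theorem isPGroup_S : IsPGroup 3 h.S := IsPGroup.of_card (n := 4) (by rw [h.card_S]; norm_num)

/-- An element of `S` outside `J` fixes only `⟨a⟩` in `J`. -/
theorem fix_of_S {g : G} (hg : g ∈ h.S) (hgJ : g ∉ h.J) {p : V3}
    (hp : g * h.jj p = h.jj p * g) : p.1 = 0 ∧ p.2.2 = 0 := by
  obtain ⟨v, z, k, rfl⟩ := hg
  have hq : v 1 ≠ 0 := fun e => hgJ ((h.mem_J _).2 ⟨v 0, z, k, by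
    congr 1
    ext i
    fin_cases i
    · rfl
    · exact e.symm⟩)
  refine fix_line _ hq p (h.jj_inj ?_)
  rw [← h.P_conj v z 1 k (by decide), ← upper_eq_borel, hp, mul_inv_cancel_right]

/-- `J` is the only abelian subgroup of order 27 of `S`. -/
theorem eq_J [Finite G] {K : Subgroup G} (hK : K ≤ h.S) (hc : Nat.card K = 27)
    (hcomm : ∀ a ∈ K, ∀ b ∈ K, a * b = b * a) : K = h.J := by
  refine Subgroup.eq_of_le_of_card_ge (fun g hg => ?_) (by rw [hc, h.card_J])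
  by_contra hgJ
  have hle : h.J ⊓ K ≤ Subgroup.zpowers h.a := by
    intro x hx
    obtain ⟨p, rfl⟩ := h.exists_jj hx.1
    obtain ⟨h1, h2⟩ := h.fix_of_S (hK hg) hgJ (hcomm g hg _ hx.2)
    refine Subgroup.mem_zpowers_iff.2 ⟨(p.2.1.val : ℤ), ?_⟩
    rw [zpow_natCast, ← h.jj_a, h.jj_pow]
    congr 1
    obtain ⟨x, z, k⟩ := p
    subst h1 h2
    exact Prod.ext (by simp) (Prod.ext (by simp) (by simp))
  have h3 := Subgroup.card_le_of_le hle
  rw [Nat.card_zpowers, h.orderOf_a] at h3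
  have hrel : (h.J ⊓ K).relIndex h.S ≤ 9 := by
    refine Subgroup.relIndex_inf_le.trans ?_
    have e1 : Nat.card h.J * h.J.relIndex h.S = Nat.card h.S := by
      rw [← Subgroup.relIndex_bot_left h.J,
        Subgroup.relIndex_mul_relIndex _ _ _ bot_le h.J_le_S, Subgroup.relIndex_bot_left]
    have e2 : Nat.card K * K.relIndex h.S = Nat.card h.S := by
      rw [← Subgroup.relIndex_bot_left K,
        Subgroup.relIndex_mul_relIndex _ _ _ bot_le hK, Subgroup.relIndex_bot_left]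
    rw [h.card_J, h.card_S] at e1
    rw [hc, h.card_S] at e2
    rw [show h.J.relIndex h.S = 3 by omega, show K.relIndex h.S = 3 by omega]
  have e : Nat.card (h.J ⊓ K : Subgroup G) * (h.J ⊓ K).relIndex h.S = 81 := by
    rw [← h.card_S, ← Subgroup.relIndex_bot_left (h.J ⊓ K),
      Subgroup.relIndex_mul_relIndex _ _ _ bot_le (inf_le_left.trans h.J_le_S),
      Subgroup.relIndex_bot_left]
  nlinarith

theorem conj_J_eq [Finite G] {g : G} (hg : ∀ x ∈ h.J, g * x * g⁻¹ ∈ h.S) : g ∈ h.H := by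
  refine h.mem_H_of_conj fun x hx => ?_
  have hK : h.J.map (MulAut.conj g).toMonoidHom = h.J := by
    refine h.eq_J ?_ ?_ ?_
    · rintro _ ⟨j, hj, rfl⟩
      exact hg j hj
    · rw [Subgroup.card_map_of_injective (MulAut.conj g).injective, h.card_J]
    · rintro _ ⟨i, hi, rfl⟩ _ ⟨j, hj, rfl⟩
      rw [← map_mul, ← map_mul, h.J_comm hi hj]
  have hm : g * x * g⁻¹ ∈ h.J.map (MulAut.conj g).toMonoidHom := ⟨x, hx, rfl⟩
  rwa [hK] at hm

/-- The centre of `S` is generated by `a`. -/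
theorem centre_S [Finite G] {x : G} (hx : x ∈ h.S) (hc : ∀ s ∈ h.S, x * s = s * x) :
    x ∈ Subgroup.zpowers h.a := by
  obtain ⟨p, rfl⟩ := h.exists_jj (h.mem_J_of_comm fun j hj => hc j (h.J_le_S hj))
  have hy : h.y ∈ h.S := ⟨![0, 1], 0, 0, by rw [upper_zero]; rfl⟩
  have hyJ : h.y ∉ h.J := fun hm => by
    have := h.y_conj (1, 0, 0)
    rw [h.J_comm hm (h.jj_mem _), mul_inv_cancel_right] at this
    exact absurd (h.jj_inj this) (by decide)
  obtain ⟨h1, h2⟩ := h.fix_of_S hy hyJ (hc _ hy).symm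
  refine Subgroup.mem_zpowers_iff.2 ⟨(p.2.1.val : ℤ), ?_⟩
  rw [zpow_natCast, ← h.jj_a, h.jj_pow]
  congr 1
  obtain ⟨x, z, k⟩ := p
  subst h1 h2
  exact Prod.ext (by simp) (Prod.ext (by simp) (by simp))

/-- `S` is a Sylow 3-subgroup. -/
theorem exists_sylow [Finite G] : ∃ T : Sylow 3 G, (T : Subgroup G) = h.S := by
  haveI : Fact (Nat.Prime 3) := ⟨Nat.prime_three⟩
  obtain ⟨T, hT⟩ := h.isPGroup_S.exists_le_sylow
  refine ⟨T, ((hT.eq_or_lt).resolve_right fun hlt => ?_).symm⟩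
  obtain ⟨k, hk⟩ := IsPGroup.iff_card.1 T.isPGroup'
  have h81 : 81 < Nat.card (T : Subgroup G) := by
    by_contra hle
    exact hlt.ne (Subgroup.eq_of_le_of_card_ge hT (by rw [h.card_S]; omega))
  have hk5 : 4 + 1 ≤ k := by
    by_contra hle
    have := Nat.pow_le_pow_right (show 3 > 0 by norm_num) (show k ≤ 4 by omega)
    omega
  have hd : 3 ^ (4 + 1) ∣ Nat.card G :=
    (pow_dvd_pow 3 hk5).trans (hk ▸ Subgroup.card_subgroup_dvd_card _)
  have hN := Sylow.prime_pow_dvd_card_normalizer hd (H := h.S) (by rw [h.card_S]; norm_num)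
  obtain ⟨K, hK⟩ := Sylow.exists_subgroup_card_pow_prime 3 hN
  set K' := K.map (Subgroup.normalizer (h.S : Set G)).subtype
  have hK'c : Nat.card K' = 243 := by
    rw [Subgroup.card_map_of_injective (Subgroup.subtype_injective _), hK]
    norm_num
  have hle : K' ≤ Subgroup.centralizer ({h.a} : Set G) := by
    rintro _ ⟨g, hg, rfl⟩
    have hn : ∀ x ∈ h.S, (g : G) * x * (g : G)⁻¹ ∈ h.S := fun x hx =>
      (Subgroup.mem_normalizer_iff.1 g.2 x).1 hx
    have hca : ∀ i : ℤ, h.a ^ i * h.a = h.a * h.a ^ i := fun i =>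
      ((Commute.refl h.a).zpow_left i).eq
    obtain ⟨i, hi⟩ := Subgroup.mem_zpowers_iff.1
      (h.centre_S (hn _ (h.J_le_S h.a_mem)) fun s hs => by
        have := hn _ hs
        have h2 : (g : G)⁻¹ * s * g ∈ h.S := by
          simpa using (Subgroup.mem_normalizer_iff.1 (inv_mem g.2) s).1 hs
        calc (g : G) * h.a * (g : G)⁻¹ * s = g * (h.a * ((g : G)⁻¹ * s * g)) * (g : G)⁻¹ := by group
          _ = g * (((g : G)⁻¹ * s * g) * h.a) * (g : G)⁻¹ := by rw [h.S_comm_a h2]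
          _ = _ := by group)
    obtain ⟨n, hn'⟩ : ∃ n, g ^ (3 ^ n) = 1 := by
      refine ⟨5, ?_⟩
      have e : 3 ^ 5 = Nat.card K := by rw [hK]
      rw [e]
      exact congrArg Subtype.val (pow_card_eq_one' (x := (⟨g, hg⟩ : K)))
    rw [Subgroup.mem_centralizer_singleton_iff]
    have hcase : (g : G) * h.a * (g : G)⁻¹ = h.a ∨ (g : G) * h.a * (g : G)⁻¹ = h.a⁻¹ := by
      have h3 : h.a ^ (3 : ℤ) = 1 := by exact_mod_cast h.J_exp h.a_mem
      rw [← hi, ← zpow_mod_orderOf, h.orderOf_a]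
      have h1 : i % (3 : ℕ) = 0 ∨ i % (3 : ℕ) = 1 ∨ i % (3 : ℕ) = 2 := by omega
      rcases h1 with e | e | e
      · exfalso
        have e1 : h.a ^ i = 1 := by rw [← zpow_mod_orderOf, h.orderOf_a, e, zpow_zero]
        rw [e1] at hi
        have := conj_eq_one_iff.1 hi.symm
        have ho := h.orderOf_a
        rw [this, orderOf_one] at ho
        norm_num at ho
      · left; rw [e, zpow_one]
      · right
        rw [e]
        refine eq_inv_of_mul_eq_one_left ?_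
        rw [← _root_.zpow_add_one]
        exact h3
    rcases hcase with e | e
    · exact mul_inv_eq_iff_eq_mul.1 e
    · exfalso
      have key : ∀ m : ℕ, Odd m → (g : G) ^ m * h.a * ((g : G) ^ m)⁻¹ = h.a⁻¹ := by
        rintro m ⟨l, rfl⟩
        induction l with
        | zero => simpa using e
        | succ l ih =>
          rw [show 2 * (l + 1) + 1 = 1 + (1 + (2 * l + 1)) by ring, pow_add, pow_add, pow_one]
          calc (g : G) * (g * (g : G) ^ (2 * l + 1)) * h.a * (g * (g * (g : G) ^ (2 * l + 1)))⁻¹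
              = g * (g * ((g : G) ^ (2 * l + 1) * h.a * ((g : G) ^ (2 * l + 1))⁻¹) * (g : G)⁻¹) * (g : G)⁻¹ := by group
            _ = g * (g * h.a⁻¹ * (g : G)⁻¹) * (g : G)⁻¹ := by rw [ih]
            _ = h.a⁻¹ := by rw [← conj_inv, e, inv_inv, e]
      have hg1 : (g : G) ^ 3 ^ n = 1 := by simpa using congrArg Subtype.val hn'
      have := key (3 ^ n) (Odd.pow (by decide))
      rw [hg1, one_mul, inv_one, mul_one] at this
      have h2 : h.a ^ 2 = 1 := by rw [pow_two]; exact mul_eq_one_iff_eq_inv.2 this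
      have := orderOf_dvd_of_pow_eq_one h2
      rw [h.orderOf_a] at this
      norm_num at this
  have h648 : Nat.card (Subgroup.centralizer ({h.a} : Set G)) = 648 := by
    rw [← Nat.card_congr (Equiv.ofBijective
      (fun p : (Fin 2 → ZMod 3) × ZMod 3 × SL23 =>
        (⟨h.P p.1 p.2.1 p.2.2, Subgroup.mem_centralizer_singleton_iff.2 (h.P_comm_a _ _ _)⟩ :
          Subgroup.centralizer ({h.a} : Set G)))
      ⟨fun p r e => by
        obtain ⟨h1, h2, h3⟩ := h.inj _ _ _ _ _ _ (congrArg Subtype.val e)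
        exact Prod.ext h1 (Prod.ext h2 h3),
       fun g => by
        obtain ⟨v, z, A, e⟩ := (h.mem_cent g).1 (Subgroup.mem_centralizer_singleton_iff.1 g.2)
        exact ⟨(v, z, A), Subtype.ext e⟩⟩)]
    rw [Nat.card_prod, Nat.card_prod, HeisenbergSL.card_SL23]
    simp
  have := Subgroup.card_dvd_of_le hle
  rw [hK'c, h648] at this
  norm_num at this

/-- A 3-subgroup containing two conjugates of `J` contains only one. -/
theorem conj_eq_of_pGroup [Finite G] {Q : Subgroup G} (hQ : IsPGroup 3 Q) {c : G}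
    (h1 : h.J ≤ Q) (h2 : ∀ x ∈ h.J, c * x * c⁻¹ ∈ Q) : c ∈ h.H := by
  haveI : Fact (Nat.Prime 3) := ⟨Nat.prime_three⟩
  obtain ⟨T, hT⟩ := h.exists_sylow
  obtain ⟨U, hU⟩ := hQ.exists_le_sylow
  obtain ⟨g, hg⟩ := MulAction.exists_smul_eq G U T
  have hmem : ∀ x ∈ Q, g * x * g⁻¹ ∈ h.S := fun x hx => by
    rw [← hT, ← hg, Sylow.coe_subgroup_smul, Subgroup.mem_pointwise_smul_iff_inv_smul_mem]
    simpa [MulAut.smul_def, mul_assoc] using hU hx
  have hgH : g ∈ h.H := h.conj_J_eq fun x hx => hmem x (h1 hx)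
  have hgc : g * c ∈ h.H := h.conj_J_eq fun x hx => by
    rw [show g * c * x * (g * c)⁻¹ = g * (c * x * c⁻¹) * g⁻¹ by group]
    exact hmem _ (h2 x hx)
  simpa using h.H.mul_mem (h.H.inv_mem hgH) hgc

/-- `H` controls fusion in `J`. -/
theorem fusion [Finite G] {x g : G} (hx : x ∈ h.J) (hgx : g * x * g⁻¹ ∈ h.J) :
    ∃ n ∈ h.H, n * x * n⁻¹ = g * x * g⁻¹ := by
  haveI : Fact (Nat.Prime 3) := ⟨Nat.prime_three⟩
  set C := Subgroup.centralizer ({x} : Set G) with hC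
  have hJC : h.J ≤ C := fun j hj => Subgroup.mem_centralizer_singleton_iff.2 (h.J_comm hj hx)
  have hJ'C : h.J.map (MulAut.conj g⁻¹).toMonoidHom ≤ C := by
    rintro _ ⟨j, hj, rfl⟩
    refine Subgroup.mem_centralizer_singleton_iff.2 ?_
    simp only [MulEquiv.coe_toMonoidHom, MulAut.conj_apply, inv_inv]
    calc g⁻¹ * j * g * x = g⁻¹ * (j * (g * x * g⁻¹)) * g := by group
      _ = g⁻¹ * ((g * x * g⁻¹) * j) * g := by rw [h.J_comm hj hgx]
      _ = _ := by group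
  have hJp : IsPGroup 3 h.J := IsPGroup.of_card (n := 3) (by rw [h.card_J]; norm_num)
  obtain ⟨T₁, hT₁⟩ := (hJp.comap_subtype (K := C)).exists_le_sylow
  obtain ⟨T₂, hT₂⟩ := ((hJp.map (MulAut.conj g⁻¹).toMonoidHom).comap_subtype (K := C)).exists_le_sylow
  obtain ⟨c, hc⟩ := MulAction.exists_smul_eq C T₂ T₁
  set Q := (T₁ : Subgroup C).map C.subtype
  have hcQ : (c : G) * g⁻¹ ∈ h.H := by
    refine h.conj_eq_of_pGroup (Q := Q) (T₁.isPGroup'.map _) (fun j hj => ⟨⟨j, hJC hj⟩, hT₁ hj, rfl⟩)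
      fun j hj => ?_
    have hm : (MulAut.conj g⁻¹).toMonoidHom j ∈ C := hJ'C ⟨j, hj, rfl⟩
    refine ⟨c * ⟨_, hm⟩ * c⁻¹, ?_, ?_⟩
    · rw [← hc]
      exact Subgroup.smul_mem_pointwise_smul _ (MulAut.conj c) _ (hT₂ ⟨j, hj, rfl⟩)
    · simp [mul_assoc]
  refine ⟨(((c : G) * g⁻¹))⁻¹, h.H.inv_mem hcQ, ?_⟩
  have hcx : (c : G)⁻¹ * x * c = x := by
    rw [mul_assoc, ← Subgroup.mem_centralizer_singleton_iff.1 c.2, inv_mul_cancel_left]
  calc ((c : G) * g⁻¹)⁻¹ * x * ((c : G) * g⁻¹)⁻¹⁻¹ = g * ((c : G)⁻¹ * x * c) * g⁻¹ := by group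
    _ = _ := by rw [hcx]

/-- An element of order three of `S` lies in `R` or in `J`. -/
theorem S_cube {v : Fin 2 → ZMod 3} {z k : ZMod 3} (e : h.P v z (upper k) ^ 3 = 1) :
    k = 0 ∨ h.P v z (upper k) ∈ h.J := by
  have hv : v = ![v 0, v 1] := by ext i; fin_cases i <;> rfl
  rw [pow_succ', pow_two, h.mul, h.mul, ← h.P_one] at e
  obtain ⟨e1, e2, -⟩ := h.inj _ _ _ _ _ _ e
  rw [hv] at e1 e2
  have h3 : z + (z + z) = 0 := (show ∀ z : ZMod 3, z + (z + z) = 0 by decide) z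
  refine (cube_entries (v 0) (v 1) k e1 (by linear_combination e2 - h3)).imp_right fun hq => ?_
  refine (h.mem_J _).2 ⟨v 0, z, k, ?_⟩
  congr 1
  rw [hv, hq]
  rfl

/-- A noncentral element of `R` is conjugate to an element of `R ∩ J` outside `⟨a⟩`. -/
theorem R_conj (v : Fin 2 → ZMod 3) (z : ZMod 3) (hv0 : v ≠ 0) :
    IsConj (h.P v z 1) (h.jj (1, z, 0)) := by
  have hv : v = ![v 0, v 1] := by ext i; fin_cases i <;> rfl
  obtain ⟨a, b, c, d, hd, hm⟩ := exists_sl_map (v 0) (v 1) (hv ▸ hv0)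
  let A : SL23 := ⟨!![a, b; c, d], by rw [Matrix.det_fin_two]; simpa using hd⟩
  refine isConj_iff.2 ⟨h.P 0 0 A, ?_⟩
  rw [mul_inv_eq_iff_eq_mul, jj, h.mul, h.mul, upper_zero]
  have hA : A.1 *ᵥ v = ![1, 0] := by rw [hv]; exact hm
  simp [hA, det2, add_comm]

end Hyp

end CfsgLib.Hayden48
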