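import Cfsg.Agent.Hayden48.Weak
import Cfsg.Agent.Hayden48.Transfer
import Cfsg.Agent.PSpAmalgam84.Main
import Cfsg.Agent.SpFourThree70.Recognition
import Cfsg.Agent.Forms.PSpTransport

/-!
# The case that `a` is not conjugate to its inverse
-/

set_option autoImplicit false

namespace CfsgLib.Hayden48

open Matrix
open CfsgLib.HeisenbergSL (SL23 det2 upper negOne lower)

theorem lower_borel : ∀ ε β : ZMod 3, ε ≠ 0 →
    (lower 1 * borel ε β * lower (-1)).1 1 0 = 0 → β = 0 := by decide +kernel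

theorem borel_zero : ∀ ε : ZMod 3, ε ≠ 0 → borel ε 0 = 1 ∨ borel ε 0 = negOne := by decide +kernel

theorem borel_low : ∀ ε β : ZMod 3, (borel ε β).1 1 0 = 0 := by decide +kernel

theorem lower_inv : lower 1 * lower (-1) = 1 := by decide +kernel

theorem sl_fix_all : ∀ a b c d : ZMod 3, !![a, b; c, d] *ᵥ ![1, 0] = ![1, 0] →
    !![a, b; c, d] *ᵥ ![0, 1] = ![0, 1] → !![a, b; c, d] = 1 := by decide +kernel

theorem det2_self : ∀ p q : ZMod 3, det2 ![p, q] ![p, q] = 0 := by decide +kernel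

theorem four_mem : va ∈ four 0 ∧ (0, 0, -1) ∈ four 0 ∧ -va ∉ four 0 := by decide +kernel

theorem mult_cube : ∀ c : Multiplicative (ZMod 3), c ^ 3 = 1 := by decide +kernel

theorem ofAdd_one_ne : Multiplicative.ofAdd (1 : ZMod 3) ≠ 1 := by decide +kernel

theorem va_fix : ∀ q : ZMod 3, wmap 1 q va = va := by decide +kernel

namespace Hyp

variable {G : Type*} [Group G] (h : Hyp G)

/-- The map of `C` onto `SL(2,3)`. -/
noncomputable def pr : h.C →* SL23 :=
  MonoidHom.mk' (fun g => (h.exists_P g.2).choose_spec.choose_spec.choose) fun g k => by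
    have eg := (h.exists_P g.2).choose_spec.choose_spec.choose_spec
    have ek := (h.exists_P k.2).choose_spec.choose_spec.choose_spec
    have em := (h.exists_P (g * k).2).choose_spec.choose_spec.choose_spec
    exact (h.inj _ _ _ _ _ _ (em.trans
      ((congrArg₂ (· * ·) eg.symm ek.symm).trans (h.mul _ _ _ _ _ _)))).2.2

theorem pr_P (v : Fin 2 → ZMod 3) (z : ZMod 3) (A : SL23) :
    h.pr ⟨h.P v z A, h.P_mem_C v z A⟩ = A :=
  (h.inj _ _ _ _ _ _
    (h.exists_P (h.P_mem_C v z A)).choose_spec.choose_spec.choose_spec).2.2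

theorem pr_surj : Function.Surjective h.pr := fun A => ⟨_, h.pr_P 0 0 A⟩

/-- The subgroup `R`. -/
def R : Subgroup G where
  carrier := {g | ∃ v z, h.P v z 1 = g}
  one_mem' := ⟨0, 0, h.P_one⟩
  mul_mem' := by
    rintro _ _ ⟨v, z, rfl⟩ ⟨w, y, rfl⟩
    exact ⟨_, _, by rw [h.mul, one_mul]⟩
  inv_mem' := by
    rintro _ ⟨v, z, rfl⟩
    refine ⟨-v, -z, eq_inv_of_mul_eq_one_right ?_⟩
    rw [h.mul, ← h.P_one, Matrix.SpecialLinearGroup.coe_one, Matrix.one_mulVec, one_mul]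
    congr 1
    · abel
    · simp [det2]
      ring

theorem R_le_C : h.R ≤ h.C := by
  rintro _ ⟨v, z, rfl⟩
  exact h.P_mem_C v z 1

theorem card_R [Finite G] : Nat.card h.R = 27 := by
  rw [← Nat.card_eq_of_bijective
    (fun p : (Fin 2 → ZMod 3) × ZMod 3 => (⟨h.P p.1 p.2 1, p.1, p.2, rfl⟩ : h.R))
    ⟨fun p r e => by
      obtain ⟨h1, h2, -⟩ := h.inj _ _ _ _ _ _ (congrArg Subtype.val e)
      exact Prod.ext h1 h2,
     fun g => by
      obtain ⟨v, z, e⟩ := g.2
      exact ⟨(v, z), Subtype.ext e⟩⟩]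
  simp

theorem pr_eq_one {g : h.C} : h.pr g = 1 ↔ (g : G) ∈ h.R := by
  obtain ⟨v, z, A, e⟩ := h.exists_P g.2
  have hg : g = ⟨h.P v z A, h.P_mem_C v z A⟩ := Subtype.ext e.symm
  rw [hg, h.pr_P]
  exact ⟨fun hA => ⟨v, z, hA ▸ rfl⟩, fun ⟨w, y, ew⟩ => (h.inj _ _ _ _ _ _ ew).2.2.symm⟩

theorem mem_zpowers_a {g : G} : g ∈ Subgroup.zpowers h.a ↔ ∃ z, h.P 0 z 1 = g := by
  have hj : ∀ z : ZMod 3, h.jj (0, z, 0) = h.P 0 z 1 := fun z => by
    show h.P ![0, 0] z (upper 0) = _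
    rw [upper_zero, show (![0, 0] : Fin 2 → ZMod 3) = 0 by ext i; fin_cases i <;> rfl]
  have hp : ∀ n : ℕ, h.a ^ n = h.P 0 (n : ZMod 3) 1 := fun n => by
    rw [← h.jj_a, h.jj_pow, ← hj]
    congr 1
    simp
  constructor
  · intro hg
    haveI : Fact (Nat.Prime 3) := ⟨Nat.prime_three⟩
    obtain ⟨n, rfl⟩ : ∃ n : ℕ, h.a ^ n = g := by
      obtain ⟨i, rfl⟩ := Subgroup.mem_zpowers_iff.1 hg
      refine ⟨(i % 3).toNat, ?_⟩
      rw [← zpow_natCast, Int.toNat_of_nonneg (Int.emod_nonneg _ (by norm_num))]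
      conv_rhs => rw [← zpow_mod_orderOf, h.orderOf_a]
      rfl
    exact ⟨_, (hp n).symm⟩
  · rintro ⟨z, rfl⟩
    rw [show z = ((z.val : ℕ) : ZMod 3) by simp, ← hp]
    exact pow_mem (Subgroup.mem_zpowers _) _

theorem R_comm_zpowers {x y : G} (hx : x ∈ h.R) (hy : y ∈ h.R) :
    x * y * x⁻¹ * y⁻¹ ∈ Subgroup.zpowers h.a := by
  obtain ⟨v, z, rfl⟩ := hx
  obtain ⟨w, u, rfl⟩ := hy
  refine h.mem_zpowers_a.2 ⟨det2 w v - det2 v w, ?_⟩
  refine eq_mul_inv_iff_mul_eq.2 (eq_mul_inv_iff_mul_eq.2 ?_)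
  simp only [h.mul, Matrix.SpecialLinearGroup.coe_one, Matrix.one_mulVec, one_mul, mul_one, zero_add]
  congr 1
  · exact add_comm w v
  · simp [det2]
    ring

variable [Finite G]

theorem mem_C_of_norm_Z (hn : ¬ h.O (-va)) {g : G}
    (hg : g ∈ Subgroup.normalizer (Subgroup.zpowers h.a : Set G)) : g ∈ h.C := by
  haveI : Fact (Nat.Prime 3) := ⟨Nat.prime_three⟩
  have hm := (Subgroup.mem_normalizer_iff.1 hg h.a).1 (Subgroup.mem_zpowers _)
  rcases PSpAmalgam84.zpowers_three h.orderOf_a hm with e | e | e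
  · exfalso
    have := h.orderOf_a
    rw [conj_eq_one_iff.1 e, orderOf_one] at this
    norm_num at this
  · exact h.mem_C.2 (mul_inv_eq_iff_eq_mul.1 e)
  · exact absurd (h.O_nva_iff.2 (isConj_iff.2 ⟨g, e⟩)) hn

theorem C_le_norm_Z : h.C ≤ Subgroup.normalizer (Subgroup.zpowers h.a : Set G) := fun g hg =>
  PSpAmalgam84.mem_norm_of_conj fun x hx => by
    obtain ⟨i, rfl⟩ := Subgroup.mem_zpowers_iff.1 hx
    rw [← conj_zpow, mul_inv_eq_iff_eq_mul.2 (h.mem_C.1 hg)]
    exact Subgroup.zpow_mem _ (Subgroup.mem_zpowers _) _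

/-- No subgroup other than the trivial one is normalised by both `H` and `C`. -/
theorem core_eq_bot (hO : ∀ p, h.O p ↔ p ∈ four 0) (N : Subgroup G) (hN : N ≤ h.H ⊓ h.C)
    (hH : h.H ≤ Subgroup.normalizer (N : Set G)) (hC : h.C ≤ Subgroup.normalizer (N : Set G)) :
    N = ⊥ := by
  obtain ⟨g, hg⟩ := (h.O_iff _).1 ((hO _).2 four_mem.2.1)
  have hconj : ∀ {n k : G}, n ∈ N → k ∈ Subgroup.normalizer (N : Set G) → k * n * k⁻¹ ∈ N :=
    fun hn hk => (Subgroup.mem_normalizer_iff.1 hk _).1 hn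
  have hform : ∀ {n : G}, n ∈ N → ∃ v z ε, ε ≠ 0 ∧ n = h.P v z (borel ε 0) := by
    intro n hn
    obtain ⟨v, z, ε, β, hε, rfl⟩ := h.exists_borel (hN hn).1 (h.mem_C.1 (hN hn).2)
    have hl := hconj hn (hC (h.P_mem_C 0 0 (lower 1)))
    have hinv : (h.P 0 0 (lower 1))⁻¹ = h.P 0 0 (lower (-1)) := by
      refine inv_eq_of_mul_eq_one_right ?_
      rw [h.mul, lower_inv, ← h.P_one]
      simp [det2]
    rw [hinv, h.mul, h.mul] at hl
    obtain ⟨v', z', ε', β', -, e⟩ := h.exists_borel (hN hl).1 (h.mem_C.1 (hN hl).2)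
    obtain ⟨-, -, e3⟩ := h.inj _ _ _ _ _ _ e
    exact ⟨v, z, ε, hε, by rw [lower_borel ε β hε (by rw [e3]; exact borel_low ε' β')]⟩
  have hv1 : ∀ {v : Fin 2 → ZMod 3} {z : ZMod 3}, h.P v z 1 ∈ N → v 1 = 0 := by
    intro v z hn
    by_contra hv
    have hm := hconj hn (inv_mem (hH g.2))
    have hc : ((g : G)⁻¹ * h.P v z 1 * (g : G)⁻¹⁻¹) * h.a =
        h.a * ((g : G)⁻¹ * h.P v z 1 * (g : G)⁻¹⁻¹) := h.mem_C.1 (hN hm).2
    have hq : h.P v z 1 * h.jj (0, 0, -1) = h.jj (0, 0, -1) * h.P v z 1 := by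
      have e : h.jj (0, 0, -1) = (g : G) * h.a * (g : G)⁻¹ := by
        rw [← hg, h.jj_act, show h.jj va = h.a from h.jj_a]
      rw [e]
      calc h.P v z 1 * ((g : G) * h.a * (g : G)⁻¹)
          = (g : G) * (((g : G)⁻¹ * h.P v z 1 * (g : G)⁻¹⁻¹) * h.a) * (g : G)⁻¹ := by group
        _ = _ := by rw [hc]; group
    have e2 := mul_inv_eq_iff_eq_mul.2 hq
    have e3 := h.P_conj v z 1 0 (by decide) (0, 0, -1)
    rw [borel_one, e2] at e3
    exact absurd (fix_line _ hv _ (h.jj_inj e3).symm).2 (by decide)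
  have hpos : ∀ {n : G}, n ∈ N → ∃ z, n = h.P 0 z 1 := by
    intro n hn
    obtain ⟨v, z, ε, hε, rfl⟩ := hform hn
    rcases borel_zero ε hε with e | e <;> rw [e] at hn ⊢
    · refine ⟨z, ?_⟩
      have hl := hconj hn (hC (h.P_mem_C 0 0 (lower 1)))
      have hinv : (h.P 0 0 (lower 1))⁻¹ = h.P 0 0 (lower (-1)) := by
        refine inv_eq_of_mul_eq_one_right ?_
        rw [h.mul, lower_inv, ← h.P_one]
        simp [det2]
      rw [hinv, h.mul, h.mul, mul_one, lower_inv] at hl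
      have h2 := hv1 hl
      have h1 := hv1 hn
      have hv : v = 0 := by
        have hl' : ((lower 1).1 *ᵥ v) 1 = 0 := by simpa using h2
        have e' : ((lower 1).1 *ᵥ v) 1 = v 0 + v 1 := by
          simp [lower, Matrix.mulVec, dotProduct, Fin.sum_univ_two]
        ext i
        fin_cases i
        · simpa [h1] using e'.symm.trans hl'
        · simpa using h1
      rw [hv]
    · exfalso
      have hw : h.P ![0, 1] 0 1 ∈ h.C := h.P_mem_C _ _ _
      have hm := mul_mem (hconj hn (hC hw)) (inv_mem hn)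
      have e1 : h.P ![0, 1] 0 1 * h.P v z negOne * (h.P ![0, 1] 0 1)⁻¹ * (h.P v z negOne)⁻¹ =
          h.P ![0, 2] (- det2 ![0, 1] v + det2 ![0, 2] v - det2 v ![0, 1]) 1 := by
        refine mul_inv_eq_iff_eq_mul.2 (mul_inv_eq_iff_eq_mul.2 ?_)
        rw [h.mul, h.mul, h.mul, one_mul, mul_one]
        have hneg : ∀ u : Fin 2 → ZMod 3, negOne.1 *ᵥ u = -u := by decide +kernel
        simp only [Matrix.SpecialLinearGroup.coe_one, Matrix.one_mulVec, hneg, one_mul]
        obtain ⟨p, q, rfl⟩ : ∃ p q, v = ![p, q] := ⟨v 0, v 1, by ext i; fin_cases i <;> rfl⟩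
        congr 1
        · exact (show ∀ p q : ZMod 3, ![0, 1] + ![p, q] = ![0, 2] + ![p, q] + -![0, 1] by decide +kernel) p q
        · simp [det2]
      rw [e1] at hm
      have := hv1 hm
      exact absurd this (by decide)
  refine eq_bot_iff.2 fun n hn => Subgroup.mem_bot.2 ?_
  obtain ⟨z, rfl⟩ := hpos hn
  by_contra hne
  have hz : z ≠ 0 := fun e => hne (by rw [e, h.P_one])
  have ha : h.a ∈ N := by
    rw [← h.a_eq]
    rcases (show ∀ z : ZMod 3, z ≠ 0 → z = 1 ∨ z + z = 1 by decide) z hz with e | e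
    · exact e ▸ hn
    · have := mul_mem hn hn
      rw [h.mul, one_mul, Matrix.SpecialLinearGroup.coe_one, Matrix.one_mulVec] at this
      simpa [det2, e] using this
  have hm := hconj ha (hH g.2)
  rw [← show h.jj va = h.a from h.jj_a, ← h.jj_act, hg] at hm
  obtain ⟨y, e⟩ := hpos hm
  have := congrFun (congrFun (congrArg Subtype.val (h.inj _ _ _ _ _ _ e).2.2) 0) 1
  simp [upper] at this

/-- The amalgam. -/
noncomputable def setup (hO : ∀ p, h.O p ↔ p ∈ four 0) : PSpAmalgam84.Setup G where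
  A₁ := h.H
  A₂ := h.C
  J := h.J
  R := h.R
  Z := Subgroup.zpowers h.a
  syl₁ := by
    have hcard : Nat.card h.H = 648 := by
      rw [h.card_H, show h.Os = four 0 from Finset.ext fun p => (h.mem_Os).trans (hO p), four_card]
    have h81 : 81 ∣ Nat.card ((h.H ⊓ h.C).subgroupOf h.H) := by
      rw [← h.card_S, Nat.card_congr (Subgroup.subgroupOfEquivOfLe inf_le_left).toEquiv]
      exact Subgroup.card_dvd_of_le (le_inf h.S_le_H h.S_le_C)
    intro h3
    have := Nat.mul_dvd_mul h81 h3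
    rw [Subgroup.card_mul_index, hcard] at this
    norm_num at this
  core := h.core_eq_bot hO
  J_le := h.J_le_H
  R_le := h.R_le_C
  R_norm := fun g hg => PSpAmalgam84.mem_norm_of_conj fun x hx => by
    have e : h.pr (⟨g, hg⟩ * ⟨x, h.R_le_C hx⟩ * ⟨g, hg⟩⁻¹) = 1 := by
      rw [map_mul, map_mul, h.pr_eq_one.2 (show ((⟨x, h.R_le_C hx⟩ : h.C) : G) ∈ h.R from hx), map_inv,
        mul_one, mul_inv_cancel]
    exact h.pr_eq_one.1 e
  card_A₁ := by
    rw [h.card_H, show h.Os = four 0 from Finset.ext fun p => (h.mem_Os).trans (hO p), four_card]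
  card_A₂ := h.card_C
  p₂ := h.pr
  p₂_surj := h.pr_surj
  p₂_ker := fun _ => h.pr_eq_one
  J_comm := fun _ ha _ hb => h.J_comm ha hb
  J_exp := fun _ ha => h.J_exp ha
  card_J := h.card_J
  card_R := h.card_R
  card_Z := by rw [Nat.card_zpowers, h.orderOf_a]
  faith := fun _ _ hx => h.mem_J_of_comm hx
  Z_eq := fun g => by
    constructor
    · intro hg
      obtain ⟨z, rfl⟩ := h.mem_zpowers_a.1 hg
      refine ⟨⟨0, z, rfl⟩, ?_⟩
      rintro _ ⟨w, y, rfl⟩
      simp [h.mul, det2, add_comm]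
    · rintro ⟨⟨v, z, rfl⟩, hc⟩
      refine h.mem_zpowers_a.2 ⟨z, ?_⟩
      have hd : ∀ w, det2 v w = det2 w v := fun w => by
        have e := (h.inj _ _ _ _ _ _ ((h.mul _ _ _ _ _ _).symm.trans
          ((hc _ ⟨w, 0, rfl⟩).trans (h.mul _ _ _ _ _ _)))).2.1
        simpa using e
      have key : ∀ p q : ZMod 3, det2 ![p, q] ![1, 0] = det2 ![1, 0] ![p, q] →
          det2 ![p, q] ![0, 1] = det2 ![0, 1] ![p, q] → p = 0 ∧ q = 0 := by decide +kernel
      have hv : v = ![v 0, v 1] := by ext i; fin_cases i <;> rfl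
      obtain ⟨h0, h1⟩ := key (v 0) (v 1) (by rw [← hv]; exact hd _) (by rw [← hv]; exact hd _)
      rw [show v = 0 by ext i; fin_cases i <;> assumption]
  R_comm := fun x hx y hy => h.R_comm_zpowers hx hy
  nat := fun g hg => by
    constructor
    · exact fun hgR x hx => h.R_comm_zpowers hgR hx
    · intro hall
      obtain ⟨v, z, A, rfl⟩ := h.exists_P hg
      refine (h.pr_eq_one (g := ⟨_, hg⟩)).1 ((h.pr_P v z A).trans ?_)
      have hfix : ∀ w, A.1 *ᵥ w = w := fun w => by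
        obtain ⟨y, hy⟩ := h.mem_zpowers_a.1 (hall _ ⟨w, 0, rfl⟩)
        have e := eq_mul_inv_iff_mul_eq.1 (eq_mul_inv_iff_mul_eq.1 hy)
        rw [h.mul, h.mul, h.mul] at e
        have e1 := (h.inj _ _ _ _ _ _ e).1
        simp only [Matrix.SpecialLinearGroup.coe_one, Matrix.one_mulVec, one_mul, zero_add] at e1
        rw [add_comm w v] at e1
        exact (add_left_cancel e1).symm
      refine Subtype.ext ?_
      rw [Matrix.eta_fin_two A.1]
      exact sl_fix_all _ _ _ _ (by rw [← Matrix.eta_fin_two]; exact hfix _)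
        (by rw [← Matrix.eta_fin_two]; exact hfix _)
  N₁ := rfl
  N₂ := le_antisymm
    (fun g hg => h.mem_C_of_norm_Z (fun e => four_mem.2.2 ((hO _).1 e)) hg) h.C_le_norm_Z
  sig := h.sig

/-- The case of four conjugates. -/
theorem nonempty_psp_of_four {F : Type*} [Field F] [Fintype F] (hF : Fintype.card F = 3)
    (hO : ∀ p, h.O p ↔ p ∈ four 0) : Nonempty (G ≃* Cfsg.PSp 2 F) := by
  classical
  haveI : Fact (Nat.Prime 3) := ⟨Nat.prime_three⟩
  have : CharP F 3 := by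
    obtain ⟨p, hp⟩ := CharP.exists F
    obtain ⟨n, hp', hn⟩ := FiniteField.card F p
    rw [hF] at hn
    have h3 : p = 3 := by
      have hdvd : p ∣ 3 := hn ▸ dvd_pow_self p n.pos.ne'
      exact ((Nat.dvd_prime Nat.prime_three).1 hdvd).resolve_left hp'.one_lt.ne'
    exact h3 ▸ hp
  let c := h.setup hO
  let ε := (Shrink.mulEquiv.{0} (α := G))
  let M₀ : CfsgLib.SpFourThree70.Model (Shrink.{0} G) :=
    { Φ := fun n => ε.symm (c.model.Φ n)
      mul_eq := fun n m hn hm => by rw [← map_mul, c.model.mul_eq n m hn hm]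
      eq_iff := fun n m hn hm => by rw [EmbeddingLike.apply_eq_iff_eq, c.model.eq_iff n m hn hm]
      mem_range := fun x hx => by
        obtain ⟨n, hn, he⟩ := c.model.mem_range (ε x) (by
          have := congrArg ε hx
          simpa [map_mul] using this)
        exact ⟨n, hn, by rw [he, ε.symm_apply_apply]⟩ }
  have hu : ¬ h.O vu := fun e => four_not_vu 0 ((hO _).1 e)
  have hG' : ∀ K : Subgroup (Shrink.{0} G), K.index ≠ 2 := fun K hK => by
    have hK' : (K.map ε.toMonoidHom).index = 2 := by rw [← hK]; exact Subgroup.index_map_equiv K ε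
    obtain ⟨h1, h2⟩ := c.le_of_index_two _ hK'
    exact h.index_ne_two_of_le hu _ h1 h2 hK'
  obtain ⟨f⟩ := CfsgLib.SpFourThree70.nonempty_iso hG' M₀
  obtain ⟨φ⟩ := CfsgLib.Forms.nonempty_psp_equiv (ZMod.ringEquiv F hF).symm 2
  exact ⟨(ε.symm.trans f).trans φ.symm⟩

/-- If `a` alone is its class in `J` there is a normal subgroup of index three. -/
theorem exists_index_three (hO : ∀ p, h.O p → p = va) :
    ∃ N : Subgroup G, N.Normal ∧ N.index = 3 := by
  classical
  haveI : Fact (Nat.Prime 3) := ⟨Nat.prime_three⟩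
  let φ : h.C →* Multiplicative (ZMod 3) :=
    MonoidHom.mk' (fun g => Multiplicative.ofAdd (chi (h.pr g)))
      fun g k => by rw [map_mul, chi_mul, ofAdd_add]
  haveI : Fintype (G ⧸ h.C) := Fintype.ofFinite _
  set x := h.jj (0, 0, 1) with hx
  have hxC : x ∈ h.C := h.J_le_C (h.jj_mem _)
  have hval := transfer_eq_of_unique_fixed (p := 3) (A := Multiplicative (ZMod 3))
    mult_cube φ
    (IsPGroup.of_card (n := 3) (by rw [h.card_J]; norm_num) : IsPGroup 3 h.J) hxC
    (h.J_exp (h.jj_mem _)) (fun j hj => h.J_comm hj (h.jj_mem _)) h.J_le_C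
    (fun g hg => by
      have hga : g * h.a * g⁻¹ ∈ h.J := h.mem_J_of_comm fun j hj => by
        have := h.mem_C.1 (hg j hj)
        calc g * h.a * g⁻¹ * j = g * (h.a * (g⁻¹ * j * g)) * g⁻¹ := by group
          _ = _ := by rw [← this]; group
      obtain ⟨p, hp⟩ := h.exists_jj hga
      obtain rfl := hO p (by rw [O, hp]; exact isConj_iff.2 ⟨g, rfl⟩)
      rw [show h.jj va = h.a from h.jj_a] at hp
      exact h.mem_C.2 (mul_inv_eq_iff_eq_mul.1 hp.symm))
  refine ⟨(MonoidHom.transfer φ).ker, inferInstance, ?_⟩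
  rw [Subgroup.index_ker]
  have hne : MonoidHom.transfer φ x ≠ 1 := by
    rw [hval]
    show Multiplicative.ofAdd (chi (h.pr _)) ≠ 1
    rw [show (⟨x, hxC⟩ : h.C) = ⟨h.P ![0, 0] 0 (upper 1), h.P_mem_C _ _ _⟩ from rfl, h.pr_P,
      chi_upper]
    exact ofAdd_one_ne
  have hd := Subgroup.card_subgroup_dvd_card (MonoidHom.transfer φ).range
  rw [show Nat.card (Multiplicative (ZMod 3)) = 3 by simp] at hd
  refine ((Nat.dvd_prime Nat.prime_three).1 hd).resolve_left fun h1 => hne ?_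
  have := Subgroup.card_eq_one.1 h1
  rw [MonoidHom.range_eq_bot_iff] at this
  rw [this]
  rfl

/-- The case that `a` is not conjugate to its inverse. -/
theorem nonreal {F : Type*} [Field F] [Fintype F] (hF : Fintype.card F = 3) (hn : ¬ h.O (-va)) :
    (∃ N : Subgroup G, N.Normal ∧ N.index = 3) ∨ Nonempty (G ≃* Cfsg.PSp 2 F) := by
  rcases h.cases_nonreal hn with hO | ⟨z, hO⟩
  · exact Or.inl (h.exists_index_three hO)
  · exact Or.inr ((h.shift (-z)).nonempty_psp_of_four hF (h.shift_four hO))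

end Hyp

end CfsgLib.Hayden48
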