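import Cfsg.Agent.Hayden48.IndexSetup
import Cfsg.Agent.Transfer.Alperin
import Cfsg.Agent.Coprime.Generation

/-!
# The centralizer of the quaternion group

It has a normal 3-complement, which is `⟨t⟩` or the conjugate of `Q` under `r`; in the first case
a Sylow 2-subgroup would have order 16 and no elementary subgroup of order eight.
-/

set_option autoImplicit false
set_option maxRecDepth 100000

namespace CfsgLib.Hayden48

open Matrix
open CfsgLib.HeisenbergSL (SL23 det2 upper negOne)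

theorem cent_twist : ∀ A : SL23, upper (-1) * (A * upper (-1) * A⁻¹) ≠ 1 ∧
    upper (-1) * (A * upper (-1) * A⁻¹) ≠ negOne := by decide +kernel

theorem isQ_of_pow_eight : ∀ A : SL23, A * A * A * A * (A * A * A * A) = 1 → IsQ A := by
  decide +kernel

theorem line_cases : ∀ z k : ZMod 3, z ≠ 0 → k ≠ 0 → ∃ n : Fin 3,
    n.val • ((0, z, k) : V3) = vc ∨ n.val • ((0, z, k) : V3) = vs := by decide +kernel

theorem eight_fT : ∀ p : V3, p ∈ eight 0 → fT p = p →
    p = va ∨ p = -va ∨ p = (0, 0, 1) ∨ p = (0, 0, -1) := by decide +kernel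

theorem upper_quat : ∀ k : ZMod 3, k ≠ 0 → upper k * quatI ≠ quatI * upper k := by decide +kernel

theorem quat_generate : ∀ A : SL23, A * A = negOne → ∀ B : SL23, IsQ B →
    B ∈ [1, negOne, A, A⁻¹, upper 1 * A * upper (-1), (upper 1 * A * upper (-1))⁻¹,
      A * (upper 1 * A * upper (-1)), upper 1 * A * upper (-1) * A] := by decide +kernel

theorem four_point : ∀ p : V3, p = (1, 1, 0) → fT p ≠ p ∧ fR p ≠ p ∧ fS p ≠ p ∧ fR p ≠ fT p ∧
    fS p ≠ fT p ∧ fR p ≠ fS p ∧ fT (fR p) ≠ p ∧ fT (fS p) ≠ p ∧ fT (fR p) ≠ fS p ∧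
    fT (fS p) ≠ fR p ∧ fT (fR p) ≠ fT (fS p) ∧ fR (fS p) ≠ fT p := by decide +kernel

/-- A subgroup with an involution normalizing it. -/
def adjoinInv {G : Type*} [Group G] (K : Subgroup G) (x : G) (hx : x * x = 1)
    (hn : ∀ k ∈ K, x * k * x⁻¹ ∈ K) : Subgroup G where
  carrier := {g | g ∈ K ∨ g * x ∈ K}
  one_mem' := Or.inl K.one_mem
  mul_mem' := by
    have hxi : x⁻¹ = x := inv_eq_of_mul_eq_one_right hx
    rintro g k (hg | hg) (hk | hk)
    · exact Or.inl (K.mul_mem hg hk)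
    · exact Or.inr (by rw [mul_assoc]; exact K.mul_mem hg hk)
    · refine Or.inr ?_
      have h1 := K.mul_mem hg (hn _ hk)
      rwa [show g * x * (x * k * x⁻¹) = g * (x * x) * k * x⁻¹ by group, hx, mul_one, hxi] at h1
    · refine Or.inl ?_
      have h1 := K.mul_mem hg (hn _ hk)
      rwa [show g * x * (x * (k * x) * x⁻¹) = g * (x * x) * k by group, hx, mul_one] at h1
  inv_mem' := by
    have hxi : x⁻¹ = x := inv_eq_of_mul_eq_one_right hx
    rintro g (hg | hg)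
    · exact Or.inl (K.inv_mem hg)
    · refine Or.inr ?_
      have h1 := hn _ (K.inv_mem hg)
      rwa [show x * (g * x)⁻¹ * x⁻¹ = (x * x⁻¹) * g⁻¹ * x⁻¹ by group, mul_inv_cancel, one_mul,
        hxi] at h1

theorem isPGroup_adjoinInv {G : Type*} [Group G] {K : Subgroup G} (hK : IsPGroup 2 K) {x : G}
    (hx : x * x = 1) (hn : ∀ k ∈ K, x * k * x⁻¹ ∈ K) : IsPGroup 2 (adjoinInv K x hx hn) := by
  intro g
  have hg2 : (g : G) * g ∈ K := by
    rcases g.2 with hg | hg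
    · exact K.mul_mem hg hg
    · have h1 := K.mul_mem hg (hn _ hg)
      rwa [show (g : G) * x * (x * ((g : G) * x) * x⁻¹) = g * (x * x) * g by group, hx,
        mul_one] at h1
  obtain ⟨n, hn'⟩ := hK ⟨_, hg2⟩
  refine ⟨n + 1, Subtype.ext ?_⟩
  have h2 := congrArg Subtype.val hn'
  push_cast at h2 ⊢
  rw [pow_succ', pow_mul, pow_two]
  exact h2

namespace Hyp

variable {G : Type*} [Group G] (h : Hyp G)

/-- An element of `C(a, t)` of order prime to three lies in `Q`. -/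
theorem mem_Q_of_coprime {g : G} (ga : g * h.a = h.a * g) (gt : g * h.t = h.t * g) {m : ℕ}
    (hm : m.Coprime 3) (hg : g ^ m = 1) : g ∈ h.Q := by
  obtain ⟨z, A, rfl⟩ := h.exists_P0 ga gt
  rw [h.P0_pow, ← h.P_one] at hg
  obtain ⟨-, e1, e2⟩ := h.inj _ _ _ _ _ _ hg
  refine h.mem_Q_iff.2 ⟨rfl, ?_, ?_⟩
  · rw [nsmul_eq_mul] at e1
    exact (((ZMod.isUnit_iff_coprime m 3).2 hm).mul_right_eq_zero).1 e1
  · have h24 : A ^ 24 = 1 := by
      rw [← HeisenbergSL.card_SL23]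
      exact pow_card_eq_one'
    have hgcd : A ^ Nat.gcd m 24 = 1 := pow_gcd_eq_one.2 ⟨e2, h24⟩
    have hd : Nat.gcd m 24 ∣ 8 :=
      (Nat.Coprime.coprime_dvd_left (Nat.gcd_dvd_left m 24) hm).dvd_of_dvd_mul_right
        (Nat.gcd_dvd_right m 24 : Nat.gcd m 24 ∣ 8 * 3)
    obtain ⟨l, hl⟩ := hd
    have h8 : A ^ 8 = 1 := by rw [hl, pow_mul, hgcd, one_pow]
    refine isQ_of_pow_eight A ?_
    rw [← h8]
    simp [pow_succ, mul_assoc]

end Hyp

namespace BCtx

variable {G : Type*} [Group G] [Finite G] {h : Hyp G} (c : BCtx h)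

/-- The centralizer of `Q`. -/
abbrev D (_c : BCtx h) : Subgroup G := Subgroup.centralizer (h.Q : Set G)

theorem mem_D {g : G} : g ∈ c.D ↔ ∀ q ∈ h.Q, g * q = q * g :=
  ⟨fun hg q hq => (Subgroup.mem_centralizer_iff.1 hg q hq).symm,
    fun hg => Subgroup.mem_centralizer_iff.2 fun q hq => (hg q hq).symm⟩

theorem D_comm_t {g : G} (hg : g ∈ c.D) : g * h.t = h.t * g := c.mem_D.1 hg _ h.t_mem_Q

theorem a_mem_D : h.a ∈ c.D := c.mem_D.2 fun _ hq => (h.Q_comm_a hq).symm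

/-- Nothing centralizing `Q` inverts `a`. -/
theorem no_inv {g : G} (hg : g ∈ c.D) : g * h.a * g⁻¹ ≠ h.a⁻¹ := by
  intro e
  set g₀ := g * c.i with hg₀
  have ga : g₀ * h.a = h.a * g₀ := by
    refine mul_inv_eq_iff_eq_mul.1 ?_
    rw [hg₀, show g * c.i * h.a * (g * c.i)⁻¹ = g * (c.i * h.a * c.i⁻¹) * g⁻¹ by group, c.i_a,
      ← conj_inv, e, inv_inv]
  have gt : g₀ * h.t = h.t * g₀ := (Commute.mul_left (c.D_comm_t hg) c.i_t).eq
  obtain ⟨z, A, hA⟩ := h.exists_P0 ga gt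
  have hgA : g = h.P 0 z A * c.i := by rw [← hA, hg₀, mul_assoc, c.i_sq, mul_one]
  set w := c.u⁻¹ * (g * c.u * g⁻¹) with hw
  have hwQ : ∀ q ∈ h.Q, w * q = q * w := by
    intro q hq
    have huq : c.u * q * c.u⁻¹ ∈ h.Q := h.E_conj_Q ⟨0, 1, rfl⟩ hq
    have e1 : g * (c.u * q * c.u⁻¹) * g⁻¹ = c.u * q * c.u⁻¹ :=
      mul_inv_eq_iff_eq_mul.2 (c.mem_D.1 hg _ huq)
    have e2 : g⁻¹ * q * g = q := by
      rw [mul_assoc, ← c.mem_D.1 hg q hq, inv_mul_cancel_left]
    refine mul_inv_eq_iff_eq_mul.1 ?_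
    calc w * q * w⁻¹ = c.u⁻¹ * (g * c.u * (g⁻¹ * q * g) * c.u⁻¹ * g⁻¹) * c.u := by
          rw [hw]; group
      _ = c.u⁻¹ * (g * (c.u * q * c.u⁻¹) * g⁻¹) * c.u := by rw [e2]; group
      _ = q := by rw [e1]; group
  have hw' : w = h.P 0 0 (upper (-1) * (A * upper (-1) * A⁻¹)) := by
    have hu' : c.u⁻¹ = h.P 0 0 (upper (-1)) := by
      rw [u, h.jj_inv]
      exact h.jj_zk 0 (-1)
    rw [hw, hgA, show h.P 0 z A * c.i * c.u * (h.P 0 z A * c.i)⁻¹ =
      h.P 0 z A * (c.i * c.u * c.i⁻¹) * (h.P 0 z A)⁻¹ by group, c.i_u, hu', h.P0_inv, h.P0_mul,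
      h.P0_mul, h.P0_mul]
    simp
  have h1 := hwQ _ (h.mem_Q_of isQ_quatI)
  have h2 := hwQ _ (h.mem_Q_of isQ_quatJ)
  rw [hw', h.P0_mul, h.P0_mul] at h1 h2
  rcases cent_quat _ (h.inj _ _ _ _ _ _ h1).2.2 (h.inj _ _ _ _ _ _ h2).2.2 with e' | e'
  · exact (cent_twist A).1 e'
  · exact (cent_twist A).2 e'

theorem D_inf_C {g : G} (hg : g ∈ c.D) (ga : g * h.a = h.a * g) :
    ∃ z A, g = h.P 0 z A ∧ (A = 1 ∨ A = negOne) := by
  obtain ⟨z, A, rfl⟩ := h.exists_P0 ga (c.D_comm_t hg)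
  have e1 := c.mem_D.1 hg _ (h.mem_Q_of isQ_quatI)
  have e2 := c.mem_D.1 hg _ (h.mem_Q_of isQ_quatJ)
  rw [h.P0_mul, h.P0_mul] at e1 e2
  exact ⟨z, A, rfl, cent_quat A (h.inj _ _ _ _ _ _ e1).2.2 (h.inj _ _ _ _ _ _ e2).2.2⟩

theorem comm_a_of_norm {g : G} (hg : g ∈ c.D) (hn : g * h.a * g⁻¹ ∈ Subgroup.zpowers h.a) :
    g * h.a = h.a * g := by
  rcases PSpAmalgam84.zpowers_three h.orderOf_a hn with e | e | e
  · have := conj_eq_one_iff.1 e
    rw [this, mul_one, one_mul]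
  · exact mul_inv_eq_iff_eq_mul.1 e
  · exact absurd e (c.no_inv hg)

/-- An element of order prime to three of `D ∩ C` lies in `⟨t⟩`. -/
theorem D_coprime {g : G} (hg : g ∈ c.D) (ga : g * h.a = h.a * g) {m : ℕ} (hm : m.Coprime 3)
    (hgm : g ^ m = 1) : g = 1 ∨ g = h.t := by
  obtain ⟨z, A, rfl, hA⟩ := c.D_inf_C hg ga
  obtain ⟨-, rfl, -⟩ := h.mem_Q_iff.1 (h.mem_Q_of_coprime ga (c.D_comm_t hg) hm hgm)
  rcases hA with rfl | rfl
  · exact Or.inl h.P_one
  · exact Or.inr rfl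

/-- `D` is its 3'-core times `⟨a⟩`. -/
theorem exists_complement : ∃ W : Subgroup G, W ≤ c.D ∧ (Nat.card W).Coprime 3 ∧
    h.E ≤ Subgroup.normalizer (W : Set G) ∧ h.t ∈ W ∧ c.D ≤ W ⊔ Subgroup.zpowers h.a := by
  haveI : Fact (Nat.Prime 3) := ⟨Nat.prime_three⟩
  set X := c.D with hX
  set x : X := ⟨h.a, c.a_mem_D⟩ with hx
  have hxo : orderOf x = 3 := by rw [hx, Subgroup.orderOf_mk, h.orderOf_a]
  set A₀ := Subgroup.zpowers x with hA₀
  obtain ⟨T, hT⟩ := (IsPGroup.of_card (p := 3) (n := 1)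
    (by rw [Nat.card_zpowers, hxo, pow_one]) : IsPGroup 3 A₀).exists_le_sylow
  have hnorm : ∀ y : X, y ∈ Subgroup.normalizer (A₀ : Set X) → (y : G) * h.a = h.a * (y : G) := by
    intro y hy
    obtain ⟨j, hj⟩ := Subgroup.mem_zpowers_iff.1
      ((Subgroup.mem_normalizer_iff.1 hy x).1 (Subgroup.mem_zpowers x))
    refine c.comm_a_of_norm y.2 (Subgroup.mem_zpowers_iff.2 ⟨j, ?_⟩)
    simpa [hx] using congrArg Subtype.val hj
  have hTa : (T : Subgroup X) = A₀ := by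
    refine ((hT.eq_or_lt).resolve_right fun hlt => ?_).symm
    have h1 := Transfer.lt_inf_normalizer T.isPGroup' hlt
    obtain ⟨y, ⟨hyT, hyN⟩, hyA⟩ := SetLike.exists_of_lt h1
    obtain ⟨z, A, e, hA⟩ := c.D_inf_C y.2 (hnorm y hyN)
    obtain ⟨k, hk⟩ := T.isPGroup' ⟨y, hyT⟩
    have hk' : (y : G) ^ 3 ^ k = 1 :=
      congrArg (fun g : (T : Subgroup X) => ((g : X) : G)) hk
    have hA1 : A = 1 := by
      refine hA.resolve_right fun hneg => ?_
      rw [e, h.P0_pow, ← h.P_one] at hk'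
      have h2 := (h.inj _ _ _ _ _ _ hk').2.2
      obtain ⟨l, hl⟩ : Odd (3 ^ k) := Odd.pow (by decide)
      rw [hneg, hl, pow_succ, pow_mul, pow_two, show negOne * negOne = (1 : SL23) by decide +kernel,
        one_pow, one_mul] at h2
      exact absurd h2 (by decide +kernel)
    subst hA1
    obtain ⟨j, hj⟩ := Subgroup.mem_zpowers_iff.1 (h.P_vert z)
    exact hyA (Subgroup.mem_zpowers_iff.2 ⟨j, Subtype.ext (by simp [hx, hj, e])⟩)
  have hcen : Subgroup.normalizer (T : Set X) ≤ Subgroup.centralizer (T : Set X) := by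
    intro y hy
    have hy' : y ∈ Subgroup.normalizer (A₀ : Set X) := hTa ▸ hy
    refine Subgroup.mem_centralizer_iff.2 fun q hq => ?_
    have hq' : q ∈ A₀ := hTa ▸ hq
    obtain ⟨j, rfl⟩ := Subgroup.mem_zpowers_iff.1 hq'
    exact ((show Commute y x from Subtype.ext (hnorm y hy')).zpow_right j).eq.symm
  have hcompl := MonoidHom.ker_transferSylow_isComplement' T hcen
  have hK := MonoidHom.normal_ker (MonoidHom.transferSylow T hcen)
  generalize (MonoidHom.transferSylow T hcen).ker = K at hcompl hK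
  have hco : (Nat.card K).Coprime 3 := by
    refine Nat.Coprime.symm ((Nat.Prime.coprime_iff_not_dvd Nat.prime_three).2 ?_)
    rw [← hcompl.index_eq_card]
    exact T.not_dvd_index
  refine ⟨(Cfsg.pPrimeCore 3 X).map X.subtype, Subgroup.map_subtype_le _, ?_, ?_, ?_, ?_⟩
  · rw [Subgroup.card_map_of_injective X.subtype_injective]
    exact (SelfCentralizing.core_spec 3).2
  · refine le_trans (fun e he => ?_) (norm_map_char X _ (SelfCentralizing.core_characteristic 3))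
    refine Subgroup.mem_normalizer_fintype fun g hg => c.mem_D.2 fun q hq => ?_
    have h1 := congrArg (fun y => e * y * e⁻¹)
      (c.mem_D.1 hg _ (h.E_conj_Q (h.E.inv_mem he) hq))
    simpa [mul_assoc] using h1
  · have htX : h.t ∈ X := c.mem_D.2 fun q hq => (h.Q_comm_t hq).symm
    refine ⟨⟨h.t, htX⟩, ?_, rfl⟩
    have hnt : (Subgroup.zpowers (⟨h.t, htX⟩ : X)).Normal := ⟨fun n hn y => by
      have hc : y * ⟨h.t, htX⟩ = ⟨h.t, htX⟩ * y := Subtype.ext (c.D_comm_t y.2)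
      obtain ⟨j, rfl⟩ := Subgroup.mem_zpowers_iff.1 hn
      rw [((show Commute y ⟨h.t, htX⟩ from hc).zpow_right j).eq, mul_inv_cancel_right]
      exact Subgroup.zpow_mem _ (Subgroup.mem_zpowers _) _⟩
    refine SelfCentralizing.le_core 3 hnt ?_ (Subgroup.mem_zpowers _)
    rw [Nat.card_zpowers, Subgroup.orderOf_mk]
    exact (show (2 : ℕ).Coprime 3 by norm_num).coprime_dvd_left
      (orderOf_dvd_of_pow_eq_one (by rw [pow_two, h.t_sq]))
  · intro g hg
    have htop : K ⊔ (T : Subgroup X) = ⊤ := hcompl.sup_eq_top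
    have hle : (⊤ : Subgroup X) ≤
        ((Cfsg.pPrimeCore 3 X).map X.subtype ⊔ Subgroup.zpowers h.a).comap X.subtype := by
      rw [← htop]
      refine sup_le (fun y hy => Subgroup.mem_sup_left ⟨y, SelfCentralizing.le_core 3 hK hco hy, rfl⟩)
        fun y hy => Subgroup.mem_sup_right ?_
      rw [hTa] at hy
      obtain ⟨j, rfl⟩ := Subgroup.mem_zpowers_iff.1 hy
      exact Subgroup.mem_zpowers_iff.2 ⟨j, by simp [hx]⟩
    exact hle (Subgroup.mem_top ⟨g, hg⟩)

/-- The 3'-core lies in `⟨t⟩` or is the conjugate of `Q`. -/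
theorem core_cases : (∀ g ∈ c.D, g * h.a = h.a * g) ∨
    (c.Qu ≤ c.D ∧ c.D ≤ c.Qu ⊔ Subgroup.zpowers h.a) := by
  obtain ⟨W, hWD, hco, hEW, htW, hsup⟩ := c.exists_complement
  have hpow : ∀ g ∈ W, g ^ Nat.card W = 1 := fun g hg =>
    congrArg Subtype.val (pow_card_eq_one' (x := (⟨g, hg⟩ : W)))
  have hC : ∀ g ∈ W, g * h.a = h.a * g → g ∈ c.Qu := fun g hg ga => by
    rcases c.D_coprime (hWD hg) ga hco (hpow g hg) with e | e <;> rw [e]
    · exact c.Qu.one_mem
    · exact c.t_mem_Qu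
  haveI : IsMulCommutative h.E :=
    ⟨⟨fun x y => Subtype.ext (h.J_comm (h.E_le_J x.2) (h.E_le_J y.2))⟩⟩
  have hWQ : W ≤ c.Qu := by
    refine Coprime.le_of_forall_inf_centralizer_le (A := h.E) ?_ hEW ?_ ?_
    · intro hcyc
      obtain ⟨g, hg⟩ := hcyc.exists_generator
      have h9 : orderOf g = 9 := (orderOf_eq_card_of_forall_mem_zpowers hg).trans h.card_E
      have := orderOf_dvd_of_pow_eq_one (Subtype.ext (h.J_exp (h.E_le_J g.2)) : g ^ 3 = 1)
      rw [h9] at this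
      norm_num at this
    · rw [h.card_E]
      exact (Nat.Coprime.pow_right 2 hco).symm
    · rintro _ ⟨z, k, rfl⟩ he1 g ⟨hgW, hge⟩
      have hge' : Commute g (h.jj (0, z, k)) := Subgroup.mem_centralizer_singleton_iff.1 hge
      have hpw : ∀ n : ℕ, g * h.jj (n • ((0, z, k) : V3)) = h.jj (n • ((0, z, k) : V3)) * g :=
        fun n => by rw [← h.jj_pow]; exact (hge'.pow_right n).eq
      by_cases hk : k = 0
      · subst hk
        have hz : z ≠ 0 := fun e => he1 (by rw [e]; exact h.jj_zero)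
        have h1 := hpw z.val
        rw [show z.val • ((0, z, 0) : V3) = va from
          (show ∀ z : ZMod 3, z ≠ 0 → z.val • ((0, z, 0) : V3) = va by decide +kernel) z hz,
          show h.jj va = h.a from h.jj_a] at h1
        exact hC g hgW h1
      by_cases hz : z = 0
      · subst hz
        have h1 : Commute g c.u := by
          have h2 := hpw k.val
          rw [show k.val • ((0, 0, k) : V3) = (0, 0, 1) from
            (show ∀ k : ZMod 3, k ≠ 0 → k.val • ((0, 0, k) : V3) = (0, 0, 1) by decide +kernel) k hk]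
            at h2
          exact h2
        rw [c.mem_Qu]
        refine h.mem_Q_of_coprime ?_ ?_ hco (by rw [conj_pow, hpow g hgW, mul_one, mul_inv_cancel])
        · have h2 := ((Commute.conj_iff c.r).2 h1).eq
          rwa [c.r_u] at h2
        · have h2 := ((Commute.conj_iff c.r).2 (c.D_comm_t (hWD hgW))).eq
          rwa [c.r_t, mul_inv_cancel_right] at h2
      · have hgH : g ∈ h.H := by
          obtain ⟨n, hn | hn⟩ := line_cases z k hz hk
          · exact c.cent_le (h.mem_Cv.2 (hn ▸ hpw n.val))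
          · exact h.cent_vs_le c.hO (h.mem_Cv.2 (hn ▸ hpw n.val))
        obtain ⟨p, hp⟩ := h.exists_jj (h.conj_mem hgH h.a_mem)
        have hpO : p ∈ eight 0 := (c.hO p).1 (isConj_iff.2 ⟨g, hp.symm⟩)
        have hpt : fT p = p := by
          rw [← fT_eq]
          refine h.jj_inj ?_
          rw [← h.t_conj, hp]
          have h1 := ((Commute.conj_iff g).2 h.t_comm_a).eq
          rw [c.D_comm_t (hWD hgW), mul_inv_cancel_right] at h1
          exact mul_inv_eq_iff_eq_mul.2 h1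
        have hpQ : h.jj p ∈ c.D := hp ▸ c.D.mul_mem (c.D.mul_mem (hWD hgW) c.a_mem_D)
          (c.D.inv_mem (hWD hgW))
        have hno : ∀ l : ZMod 3, l ≠ 0 → h.jj (0, 0, l) ∉ c.D := fun l hl hm => by
          have h1 := c.mem_D.1 hm _ (h.mem_Q_of isQ_quatI)
          rw [h.jj_zk, h.P0_mul, h.P0_mul] at h1
          exact upper_quat l hl (h.inj _ _ _ _ _ _ h1).2.2
        rcases eight_fT p hpO hpt with rfl | rfl | rfl | rfl
        · rw [show h.jj va = h.a from h.jj_a] at hp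
          exact hC g hgW (mul_inv_eq_iff_eq_mul.1 hp.symm)
        · rw [← h.jj_inv, show h.jj va = h.a from h.jj_a] at hp
          exact absurd hp.symm (c.no_inv (hWD hgW))
        · exact absurd hpQ (hno 1 (by decide))
        · exact absurd hpQ (hno (-1) (by decide))
  by_cases hsmall : ∀ g ∈ W, g = 1 ∨ g = h.t
  · left
    intro g hg
    have hle : W ⊔ Subgroup.zpowers h.a ≤ Subgroup.centralizer ({h.a} : Set G) := sup_le
      (fun y hy => Subgroup.mem_centralizer_singleton_iff.2 (by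
        rcases hsmall y hy with rfl | rfl
        · rw [one_mul, mul_one]
        · exact h.t_comm_a))
      (Subgroup.zpowers_le.2 (Subgroup.mem_centralizer_singleton_iff.2 rfl))
    exact Subgroup.mem_centralizer_singleton_iff.1 (hle (hsup hg))
  right
  refine ⟨?_, hsup.trans (sup_le_sup_right hWQ _)⟩
  push Not at hsmall
  obtain ⟨w, hwW, hw1, hwt⟩ := hsmall
  refine le_trans ?_ hWD
  obtain ⟨_, ⟨A, hA, rfl⟩, hw⟩ := c.exists_Q_of_Qu (hWQ hwW)
  have hA2 : A * A = negOne := by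
    refine hA.resolve_left fun e => ?_
    rcases isQ_invol A hA e with rfl | rfl
    · exact hw1 (by rw [hw, h.P_one]; group)
    · exact hwt (by rw [hw]; exact mul_inv_eq_iff_eq_mul.2 c.r_t)
  have hmul : ∀ X Y : SL23, c.r * h.P 0 0 (X * Y) * c.r⁻¹ =
      c.r * h.P 0 0 X * c.r⁻¹ * (c.r * h.P 0 0 Y * c.r⁻¹) := fun X Y => by
    rw [conj_mul, h.P0_mul, add_zero]
  have hinv : ∀ X : SL23, c.r * h.P 0 0 X⁻¹ * c.r⁻¹ = (c.r * h.P 0 0 X * c.r⁻¹)⁻¹ := fun X => by
    rw [conj_inv, h.P0_inv, neg_zero]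
  have hrot : c.r * h.P 0 0 (upper 1 * A * upper (-1)) * c.r⁻¹ ∈ W := by
    have h1 := (Subgroup.mem_normalizer_iff.1
      (hEW (⟨1, 0, h.jj_a⟩ : h.a ∈ h.E)) w).1 hwW
    rw [hw, show h.a * (c.r * h.P 0 0 A * c.r⁻¹) * h.a⁻¹ =
      c.r * (c.r⁻¹ * h.a * c.r * h.P 0 0 A * (c.r⁻¹ * h.a * c.r)⁻¹) * c.r⁻¹ by group,
      show c.r⁻¹ * h.a * c.r = c.u by rw [← c.r_a, c.r_inv], c.u_eq, h.P0_inv, h.P0_mul,
      h.P0_mul] at h1
    simp only [add_zero, neg_zero] at h1
    rwa [show (upper 1)⁻¹ = upper (-1) by decide +kernel] at h1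
  intro g hg
  obtain ⟨_, ⟨B, hB, rfl⟩, rfl⟩ := c.exists_Q_of_Qu hg
  have hAm : c.r * h.P 0 0 A * c.r⁻¹ ∈ W := hw ▸ hwW
  have hB' := quat_generate A hA2 B hB
  simp only [List.mem_cons, List.not_mem_nil, or_false] at hB'
  rcases hB' with rfl | rfl | rfl | rfl | rfl | rfl | rfl | rfl
  · rw [h.P_one, mul_one, mul_inv_cancel]; exact W.one_mem
  · rw [show c.r * h.P 0 0 negOne * c.r⁻¹ = h.t from mul_inv_eq_iff_eq_mul.2 c.r_t]; exact htW
  · exact hAm
  · rw [hinv]; exact W.inv_mem hAm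
  · exact hrot
  · rw [hinv]; exact W.inv_mem hrot
  · rw [hmul]; exact W.mul_mem hAm hrot
  · rw [hmul]; exact W.mul_mem hrot hAm

theorem point_conj {g k : G} {f f' : V3 → V3} (hg : ∀ p, g * h.jj p * g⁻¹ = h.jj (f p))
    (hk : ∀ p, k * h.jj p * k⁻¹ = h.jj (f' p)) (hne : f (1, 1, 0) ≠ f' (1, 1, 0)) : g ≠ k :=
  fun e => hne (h.jj_inj (by rw [← hg, ← hk, e]))

theorem t_conj' (p : V3) : h.t * h.jj p * h.t⁻¹ = h.jj (fT p) := by rw [h.t_conj, fT_eq]

theorem tr_conj (p : V3) : h.t * c.r * h.jj p * (h.t * c.r)⁻¹ = h.jj (fT (fR p)) := by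
  rw [show h.t * c.r * h.jj p * (h.t * c.r)⁻¹ = h.t * (c.r * h.jj p * c.r⁻¹) * h.t⁻¹ by group,
    c.r_conj, h.t_conj, fT_eq]

theorem ts_conj (p : V3) : h.t * c.s * h.jj p * (h.t * c.s)⁻¹ = h.jj (fT (fS p)) := by
  rw [show h.t * c.s * h.jj p * (h.t * c.s)⁻¹ = h.t * (c.s * h.jj p * c.s⁻¹) * h.t⁻¹ by group,
    c.s_conj, h.t_conj, fT_eq]

theorem rs_conj (p : V3) : c.r * c.s * h.jj p * (c.r * c.s)⁻¹ = h.jj (fR (fS p)) := by
  rw [show c.r * c.s * h.jj p * (c.r * c.s)⁻¹ = c.r * (c.s * h.jj p * c.s⁻¹) * c.r⁻¹ by group,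
    c.s_conj, c.r_conj]

/-- `Q` commutes with its conjugate under `r`, which with `a` generates the centralizer of `Q`. -/
theorem D_struct : c.Qu ≤ c.D ∧ c.D ≤ c.Qu ⊔ Subgroup.zpowers h.a := by
  refine c.core_cases.resolve_left fun hDC => ?_
  haveI : Fact (Nat.Prime 2) := ⟨Nat.prime_two⟩
  have hQp : IsPGroup 2 h.Q := IsPGroup.of_card (n := 3) (by rw [h.card_Q]; norm_num)
  set S := adjoinInv h.Q c.i c.i_sq (fun q hq => c.i_norm_Q hq) with hS
  have hSp : IsPGroup 2 S := isPGroup_adjoinInv hQp _ _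
  have hiS : c.i ∈ S := Or.inr (by rw [c.i_sq]; exact h.Q.one_mem)
  obtain ⟨T, hT⟩ := hSp.exists_le_sylow
  have hTS : (T : Subgroup G) = S := by
    refine ((hT.eq_or_lt).resolve_right fun hlt => ?_).symm
    obtain ⟨n, ⟨hnT, hnS⟩, hnS'⟩ := SetLike.exists_of_lt (Transfer.lt_inf_normalizer T.isPGroup' hlt)
    refine hnS' ?_
    -- `n` normalizes `Q`
    have hsq : ∀ x ∈ S, x * x ≠ 1 → (x * x) * (x * x) = 1 → x ∈ h.Q := by
      intro x hx h2 h4
      refine hx.resolve_right fun hxi => ?_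
      have hx2 : x * x ∈ h.Q := by
        have h1 := h.Q.mul_mem hxi (c.i_norm_Q hxi)
        rwa [show x * c.i * (c.i * (x * c.i) * c.i⁻¹) = x * (c.i * c.i) * x by group, c.i_sq,
          mul_one] at h1
      refine c.sq_ne_t hxi ?_
      rw [mul_assoc x c.i c.i, c.i_sq, mul_one]
      exact (h.Q_invol hx2 h4).resolve_left h2
    obtain ⟨q₀, hq₀, hq₀t, -⟩ := c.exists_inverted
    have hconj : ∀ q ∈ h.Q, n * q * n⁻¹ ∈ S := fun q hq =>
      (Subgroup.mem_normalizer_iff.1 hnS q).1 (Or.inl hq)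
    have hne : ∀ g : G, g ≠ 1 → n * g * n⁻¹ ≠ 1 := fun g hg e => hg (conj_eq_one_iff.1 e)
    have h4 : ∀ q ∈ h.Q, q * q = h.t → n * q * n⁻¹ ∈ h.Q := fun q hq hqt => by
      refine hsq _ (hconj q hq) ?_ ?_
      · rw [conj_mul, hqt]
        exact hne _ h.t_ne_one
      · rw [conj_mul, hqt, conj_mul, h.t_sq, mul_one, mul_inv_cancel]
    have hnt : n * h.t * n⁻¹ = h.t := by
      have h1 := h4 q₀ hq₀ hq₀t
      have h2 : n * h.t * n⁻¹ ∈ h.Q := by
        rw [← hq₀t, ← conj_mul]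
        exact h.Q.mul_mem h1 h1
      exact (h.Q_invol h2 (by rw [conj_mul, h.t_sq, mul_one, mul_inv_cancel])).resolve_left
        (hne _ h.t_ne_one)
    have hnQ : ∀ q ∈ h.Q, n * q * n⁻¹ ∈ h.Q := fun q hq => by
      obtain ⟨A, hA, rfl⟩ := hq
      rcases hA with e | e
      · rcases isQ_invol A (Or.inl e) e with rfl | rfl
        · rw [h.P_one, mul_one, mul_inv_cancel]; exact h.Q.one_mem
        · rw [show h.P 0 0 negOne = h.t from rfl, hnt]; exact h.t_mem_Q
      · exact h4 _ (h.mem_Q_of (Or.inr e)) (by rw [h.P0_mul, add_zero, e]; rfl)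
    have hnQ' : n ∈ Subgroup.normalizer (h.Q : Set G) := Subgroup.mem_normalizer_fintype hnQ
    -- hence `⟨a⟩`
    have hDa : n * h.a * n⁻¹ ∈ c.D := c.mem_D.2 fun q hq => by
      have hq' : n⁻¹ * q * n ∈ h.Q := by
        simpa using (Subgroup.mem_normalizer_iff.1 (inv_mem hnQ') q).1 hq
      calc n * h.a * n⁻¹ * q = n * (h.a * (n⁻¹ * q * n)) * n⁻¹ := by group
        _ = n * ((n⁻¹ * q * n) * h.a) * n⁻¹ := by rw [h.Q_comm_a hq']
        _ = _ := by group
    obtain ⟨z, A, e, hA⟩ := c.D_inf_C hDa (hDC _ hDa)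
    have hA1 : A = 1 := by
      refine hA.resolve_right fun hneg => ?_
      subst hneg
      have h3 : h.P 0 z negOne ^ 3 = 1 := by
        rw [← e, conj_pow, h.J_exp h.a_mem, mul_one, mul_inv_cancel]
      rw [h.P0_pow, ← h.P_one] at h3
      exact absurd (h.inj _ _ _ _ _ _ h3).2.2 (by decide +kernel)
    subst hA1
    obtain ⟨k, hk⟩ := T.isPGroup' ⟨n, hnT⟩
    have hk' : n ^ 2 ^ k = 1 := congrArg Subtype.val hk
    have hcop : ∀ l, (2 ^ l).Coprime 3 := fun l => Nat.Coprime.pow_left _ (by norm_num)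
    rcases PSpAmalgam84.zpowers_three h.orderOf_a (e ▸ h.P_vert z) with e' | e' | e'
    · exact absurd e' (hne _ fun e0 => by
        have := h.orderOf_a
        rw [e0, orderOf_one] at this
        norm_num at this)
    · exact Or.inl (h.mem_Q_of_coprime (mul_inv_eq_iff_eq_mul.1 e')
        (mul_inv_eq_iff_eq_mul.1 hnt) (hcop k) hk')
    · obtain ⟨l, hl⟩ := T.isPGroup' ⟨n * c.i, mul_mem hnT (hT hiS)⟩
      refine Or.inr (h.mem_Q_of_coprime ?_ ((Commute.mul_left (mul_inv_eq_iff_eq_mul.1 hnt) c.i_t).eq)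
        (hcop l) (congrArg Subtype.val hl))
      refine mul_inv_eq_iff_eq_mul.1 ?_
      rw [show n * c.i * h.a * (n * c.i)⁻¹ = n * (c.i * h.a * c.i⁻¹) * n⁻¹ by group, c.i_a,
        ← conj_inv, e', inv_inv]
  -- an elementary subgroup of order eight
  have hK1 : ∀ k ∈ Subgroup.zpowers c.r, c.s * k * c.s⁻¹ ∈ Subgroup.zpowers c.r := by
    intro k hk
    obtain ⟨j, rfl⟩ := Subgroup.mem_zpowers_iff.1 hk
    rw [((show Commute c.s c.r from c.r_s.symm).zpow_right j).eq, mul_inv_cancel_right]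
    exact hk
  set K := adjoinInv (Subgroup.zpowers c.r) c.s c.s_sq hK1 with hKdef
  have hKt : ∀ k ∈ K, h.t * k * h.t⁻¹ ∈ K := by
    intro k hk
    have hrc : ∀ x ∈ Subgroup.zpowers c.r, h.t * x = x * h.t := fun x hx => by
      obtain ⟨j, rfl⟩ := Subgroup.mem_zpowers_iff.1 hx
      exact ((show Commute h.t c.r from c.r_t.symm).zpow_right j).eq
    have hc : h.t * k = k * h.t := by
      rcases hk with hk | hk
      · exact hrc k hk
      · have h1 : Commute h.t (k * c.s * c.s) :=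
          (show Commute h.t (k * c.s) from hrc _ hk).mul_right c.s_t.symm
        rwa [mul_assoc k, c.s_sq, mul_one] at h1
    rw [hc, mul_inv_cancel_right]
    exact hk
  set V := adjoinInv K h.t h.t_sq hKt with hV
  have hzp : IsPGroup 2 (Subgroup.zpowers c.r) := fun x => by
    refine ⟨1, Subtype.ext ?_⟩
    obtain ⟨j, hj⟩ := Subgroup.mem_zpowers_iff.1 x.2
    push_cast
    rw [← hj, pow_two, ← (Commute.refl c.r).mul_zpow, c.r_sq,
      _root_.one_zpow]
  have hVp : IsPGroup 2 V := isPGroup_adjoinInv (isPGroup_adjoinInv hzp _ _) _ _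
  obtain ⟨T', hT'⟩ := hVp.exists_le_sylow
  obtain ⟨g, hg⟩ := MulAction.exists_smul_eq G T' T
  have hm : ∀ x ∈ V, g * x * g⁻¹ ∈ S := fun x hx => by
    rw [← hTS, ← hg]
    exact Subgroup.smul_mem_pointwise_smul _ (MulAut.conj g) _ (hT' hx)
  have hrK : c.r ∈ K := Or.inl (Subgroup.mem_zpowers _)
  have hsK : c.s ∈ K := Or.inr (by rw [c.s_sq]; exact one_mem _)
  have htV : h.t ∈ V := Or.inr (by rw [h.t_sq]; exact one_mem _)
  set x₀ := g⁻¹ * h.t * g with hx₀
  have key : ∀ x y : G, x ∈ V → y ∈ V → x * x = 1 → y * y = 1 → x * y = y * x → x ≠ 1 → y ≠ 1 →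
      x ≠ y → x₀ = x ∨ x₀ = y ∨ x₀ = x * y := by
    intro x y hx hy hx2 hy2 hxy hx1 hy1 hne
    have hone : ∀ z : G, z * z = 1 → z ≠ 1 → g * z * g⁻¹ ∈ h.Q → x₀ = z := by
      intro z hz2 hz1 hzQ
      rcases h.Q_invol hzQ (by rw [conj_mul, hz2, mul_one, mul_inv_cancel]) with e | e
      · exact absurd (conj_eq_one_iff.1 e) hz1
      · rw [hx₀, ← e]; group
    rcases hm x hx with h1 | h1
    · exact Or.inl (hone x hx2 hx1 h1)
    rcases hm y hy with h2 | h2
    · exact Or.inr (Or.inl (hone y hy2 hy1 h2))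
    refine Or.inr (Or.inr (hone (x * y) ?_ ?_ ?_))
    · rw [show x * y * (x * y) = x * (y * x) * y by group, ← hxy,
        show x * (x * y) * y = (x * x) * (y * y) by group, hx2, hy2, mul_one]
    · intro e
      exact hne ((mul_eq_one_iff_eq_inv.1 e).trans (inv_eq_of_mul_eq_one_right hy2))
    · have h3 := h.Q.mul_mem h1 (c.i_norm_Q h2)
      rwa [show g * x * g⁻¹ * c.i * (c.i * (g * y * g⁻¹ * c.i) * c.i⁻¹) =
        g * x * g⁻¹ * (c.i * c.i) * (g * y * g⁻¹) by group, c.i_sq, mul_one,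
        show g * x * g⁻¹ * (g * y * g⁻¹) = g * (x * y) * g⁻¹ by group] at h3
  obtain ⟨d1, d2, d3, d4, d5, d6, d7, d8, d9, d10, d11, d12⟩ := four_point _ rfl
  have one_conj : ∀ p, (1 : G) * h.jj p * (1 : G)⁻¹ = h.jj (id p) := fun p => by simp
  have n_t : h.t ≠ 1 := h.t_ne_one
  have n_r : c.r ≠ 1 := point_conj c.r_conj one_conj d2
  have n_s : c.s ≠ 1 := point_conj c.s_conj one_conj d3
  have k1 := key h.t c.r htV (Or.inl hrK) h.t_sq c.r_sq c.r_t.symm n_t n_r
    (point_conj t_conj' c.r_conj d4.symm)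
  have k2 := key h.t c.s htV (Or.inl hsK) h.t_sq c.s_sq c.s_t.symm n_t n_s
    (point_conj t_conj' c.s_conj d5.symm)
  have k3 := key c.r c.s (Or.inl hrK) (Or.inl hsK) c.r_sq c.s_sq c.r_s n_r n_s
    (point_conj c.r_conj c.s_conj d6)
  have hx₀t : x₀ = h.t := by
    rcases k1 with e | e | e
    · exact e
    · rcases k2 with e' | e' | e'
      · exact e'
      · exact absurd (e.symm.trans e') (point_conj c.r_conj c.s_conj d6)
      · exact absurd (e'.symm.trans e) (point_conj c.ts_conj c.r_conj d10)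
    · rcases k2 with e' | e' | e'
      · exact e'
      · exact absurd (e.symm.trans e') (point_conj c.tr_conj c.s_conj d9)
      · exact absurd (e.symm.trans e') (point_conj c.tr_conj c.ts_conj d11)
  rcases k3 with e | e | e <;> rw [hx₀t] at e
  · exact point_conj c.r_conj t_conj' d4 e.symm
  · exact point_conj c.s_conj t_conj' d5 e.symm
  · exact point_conj c.rs_conj t_conj' d12 e.symm

end BCtx

end CfsgLib.Hayden48
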