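import Cfsg.Agent.Hayden48.IndexSetup
import Cfsg.Agent.S3333
import Cfsg.Agent.Transfer.Alperin

/-!
# The centralizer of the reflection

Modulo `⟨r⟩` it is as in the theorem on groups with a self-centralizing Sylow 3-subgroup of order
nine, so it normalizes `J` or has quotient the symmetric group of degree six.
-/

set_option autoImplicit false
set_option maxRecDepth 100000

namespace CfsgLib.Hayden48

open Matrix
open CfsgLib.HeisenbergSL (SL23 det2 upper negOne)

theorem goods_fR_cube : ∀ T ∈ goods, (∀ p, lmap T (fR p) = fR (lmap T p)) →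
    (∀ p, lmap T (lmap T (lmap T p)) = p) → ∀ p, lmap T p = p := by decide +kernel

theorem goods_fR_fix : ∀ T ∈ goods, (∀ p, fR p = p → lmap T p = p) →
    (∀ p, lmap T p = p) ∨ ∀ p, lmap T p = fR p := by decide +kernel

theorem fR_fix_notO : ∀ p : V3, fR p = p → p ∉ eight 0 := by decide +kernel

theorem exists_good_to_vc : ∀ p : V3, p ≠ 0 → p ∉ eight 0 →
    ∃ T ∈ goods, lmap T p = vc ∨ lmap T p = vs := by decide +kernel

theorem fR_comm_Mc : ∀ d : DihedralGroup 4, ∀ p, fR (Mc d p) = Mc d (fR p) := by decide +kernel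

theorem Mc_ne_fR : ∀ d : DihedralGroup 4, ¬ ∀ p, Mc d p = fR p := by decide +kernel

theorem goods_fR_complete : ∀ T ∈ goods, (∀ p, lmap T (fR p) = fR (lmap T p)) →
    ∃ d, (∀ p, lmap T p = Mc d p) ∨ ∀ p, lmap T p = fR (Mc d p) := by decide +kernel

theorem fR_fixed_points : ∀ p : V3, fR p = p → p = (p.1, p.2.1, p.2.1) := by decide +kernel

theorem fR_plane : ∀ z x : ZMod 3, fR (x, z, z) = (x, z, z) := by decide +kernel

theorem plane_indep : ∀ n : ZMod 3, n.val • ((1, 0, 0) : V3) ≠ (0, 1, 1) := by decide +kernel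

theorem fR_moves : ((0, 1, 0) : V3) ≠ fR (0, 1, 0) := by decide +kernel

theorem fS_fix_vc : ∀ p : V3, fS p = p → ∃ n : Fin 3, p = n.val • vc := by decide +kernel

/-- An element of odd order whose square commutes with another element commutes with it. -/
theorem commute_of_sq {G : Type*} [Group G] {y a : G} {k : ℕ} (hy : y ^ 3 ^ k = 1)
    (h2 : Commute (y * y) a) : Commute y a := by
  obtain ⟨l, hl⟩ : Odd (3 ^ k) := Odd.pow (by decide)
  have e : y = (y * y) ^ (l + 1) := by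
    rw [← pow_two, ← pow_mul, show 2 * (l + 1) = 3 ^ k + 1 by omega, pow_succ, hy, one_mul]
  rw [e]
  exact h2.pow_left _

namespace Hyp

variable {G : Type*} [Group G] [Finite G] (h : Hyp G)

/-- A 3-element of `H` acts with order dividing three. -/
theorem act_cube (hO : ∀ p, h.O p ↔ p ∈ eight 0) {g : h.H} {k : ℕ} (hg : (g : G) ^ 3 ^ k = 1)
    (p : V3) : h.act g (h.act g (h.act g p)) = p := by
  haveI : (h.J.subgroupOf h.H).Normal :=
    ⟨fun n hn x => Subgroup.mem_subgroupOf.2 (by push_cast; exact h.conj_mem x.2 (Subgroup.mem_subgroupOf.1 hn))⟩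
  have hgk : g ^ 3 ^ k = 1 := Subtype.ext (by push_cast; exact hg)
  have h1 : (g : h.H ⧸ h.J.subgroupOf h.H) ^ 3 ^ k = 1 := by
    rw [← QuotientGroup.mk_pow, hgk, QuotientGroup.mk_one]
  have hcard : Nat.card (h.H ⧸ h.J.subgroupOf h.H) = 48 := by
    have := Subgroup.card_eq_card_quotient_mul_card_subgroup (h.J.subgroupOf h.H)
    rw [h.card_H_eight hO, Nat.card_congr (Subgroup.subgroupOfEquivOfLe h.J_le_H).toEquiv,
      h.card_J] at this
    omega
  have h2 : (g : h.H ⧸ h.J.subgroupOf h.H) ^ 48 = 1 := hcard ▸ pow_card_eq_one'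
  have h3 := pow_gcd_eq_one.2 ⟨h1, h2⟩
  have hd : Nat.gcd (3 ^ k) 48 ∣ 3 :=
    ((show (3 : ℕ).Coprime 16 by norm_num).pow_left k).coprime_dvd_left
      (Nat.gcd_dvd_left _ _) |>.dvd_of_dvd_mul_right (Nat.gcd_dvd_right (3 ^ k) 48)
  obtain ⟨m, hm⟩ := hd
  have h3J : g ^ 3 ∈ h.J.subgroupOf h.H := by
    rw [← QuotientGroup.eq_one_iff, QuotientGroup.mk_pow, hm, pow_mul, h3, one_pow]
  rw [← h.act_mul, ← h.act_mul, ← pow_two, ← pow_succ]
  exact h.act_of_mem (Subgroup.mem_subgroupOf.1 h3J) p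

theorem act_conj {g : G} (hg : g ∈ h.H) {f : V3 → V3}
    (hf : ∀ p, g * h.jj p * g⁻¹ = h.jj (f p)) (p : V3) : h.act ⟨g, hg⟩ p = f p := h.act_eq (hf p)

/-- The centralizers of the elements of `J` outside the orbit normalize `J`. -/
theorem cent_le_H_of_notO (hO : ∀ p, h.O p ↔ p ∈ eight 0) (hv : h.Cv vc ≤ h.H) {p : V3}
    (hp : p ≠ 0) (hpO : p ∉ eight 0) {y : G} (hy : y * h.jj p = h.jj p * y) : y ∈ h.H := by
  obtain ⟨T, hT, hTp⟩ := exists_good_to_vc p hp hpO
  obtain ⟨g, hg⟩ := h.exists_act_good hO hT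
  have hc : (g : G) * y * (g : G)⁻¹ * h.jj (lmap T p) = h.jj (lmap T p) * ((g : G) * y * (g : G)⁻¹) := by
    rw [← hg, h.jj_act]
    exact ((Commute.conj_iff (g : G)).2 hy).eq
  have hm : (g : G) * y * (g : G)⁻¹ ∈ h.H := by
    rcases hTp with e | e <;> rw [e] at hc
    · exact hv (h.mem_Cv.2 hc)
    · exact h.cent_vs_le hO (h.mem_Cv.2 hc)
  have h2 := h.H.mul_mem (h.H.mul_mem (h.H.inv_mem g.2) hm) g.2
  simpa [mul_assoc] using h2

end Hyp

namespace BCtx

variable {G : Type*} [Group G] [Finite G] {h : Hyp G} (c : BCtx h)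

/-- The centralizer of `r` in `J`. -/
def Er : Subgroup G := h.J ⊓ Subgroup.centralizer ({c.r} : Set G)

theorem mem_Er {g : G} : g ∈ c.Er ↔ g ∈ h.J ∧ g * c.r = c.r * g := by
  rw [Er, Subgroup.mem_inf, Subgroup.mem_centralizer_singleton_iff]

theorem exists_fix {g : G} (hg : g ∈ c.Er) : ∃ p, fR p = p ∧ h.jj p = g := by
  obtain ⟨hJ, hc⟩ := c.mem_Er.1 hg
  obtain ⟨p, rfl⟩ := h.exists_jj hJ
  exact ⟨p, h.jj_inj (by rw [← c.r_conj, ← hc, mul_inv_cancel_right]), rfl⟩

theorem jj_mem_Er {p : V3} (hp : fR p = p) : h.jj p ∈ c.Er :=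
  c.mem_Er.2 ⟨h.jj_mem p, by
    have := c.r_conj p
    rw [hp] at this
    exact (mul_inv_eq_iff_eq_mul.1 this).symm⟩

theorem card_Er : Nat.card c.Er = 9 := by
  rw [← Nat.card_congr (Equiv.ofBijective
    (fun p : ZMod 3 × ZMod 3 => (⟨h.jj (p.1, p.2, p.2), c.jj_mem_Er (fR_plane p.2 p.1)⟩ : c.Er))
    ⟨fun p r e => by
      have := h.jj_inj (congrArg Subtype.val e)
      exact Prod.ext (congrArg (fun q : V3 => q.1) this) (congrArg (fun q : V3 => q.2.1) this),
     fun g => by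
      obtain ⟨p, hp, e⟩ := c.exists_fix g.2
      exact ⟨(p.1, p.2.1), Subtype.ext (by rw [← e]; exact congrArg h.jj (fR_fixed_points p hp).symm)⟩⟩)]
  simp

theorem plane_mem : h.jj (1, 0, 0) ∈ c.Er ∧ h.jj (0, 1, 1) ∈ c.Er :=
  ⟨c.jj_mem_Er (fR_plane 0 1), c.jj_mem_Er (fR_plane 1 0)⟩

/-- An element centralizing `Er` normalizes `J`. -/
theorem cent_Er_le {y : G} (hy : ∀ e ∈ c.Er, y * e = e * y) : y ∈ h.H := by
  refine h.cent_plane_le (h.jj_mem (1, 0, 0)) (h.jj_mem (0, 1, 1)) ?_ ?_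
    (hy _ c.plane_mem.1) (hy _ c.plane_mem.2)
  · intro e
    rw [← h.jj_zero] at e
    exact absurd (h.jj_inj e) (by decide)
  · intro hm
    obtain ⟨i, hi⟩ := Subgroup.mem_zpowers_iff.1 hm
    rw [← zpow_mod_orderOf, h.orderOf_mem (h.jj_mem _) (fun e => by
      rw [← h.jj_zero] at e
      exact absurd (h.jj_inj e) (by decide))] at hi
    obtain ⟨n, hn⟩ : ∃ n : ℕ, i % (3 : ℕ) = n := ⟨(i % (3 : ℕ)).toNat, (Int.toNat_of_nonneg (Int.emod_nonneg _ (by norm_num))).symm⟩
    have hn3 : n < 3 := by omega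
    rw [hn, zpow_natCast, h.jj_pow] at hi
    have := h.jj_inj hi
    rw [show n = ((n : ZMod 3)).val from (ZMod.val_cast_of_lt hn3).symm] at this
    exact plane_indep _ this

/-- The normalizer of `Er` normalizes `J`. -/
theorem norm_Er_le {y : G} (hy : ∀ e ∈ c.Er, y * e * y⁻¹ ∈ c.Er) : y ∈ h.H := by
  haveI : Fact (Nat.Prime 3) := ⟨Nat.prime_three⟩
  have hyN : y ∈ Subgroup.normalizer (c.Er : Set G) := Subgroup.mem_normalizer_fintype hy
  set J' := h.J.map (MulAut.conj y).toMonoidHom with hJ'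
  have hJ'H : J' ≤ h.H := by
    rintro _ ⟨j, hj, rfl⟩
    refine c.cent_Er_le fun e he => ?_
    have he' : y⁻¹ * e * y ∈ h.J := by
      have := (Subgroup.mem_normalizer_iff.1 (inv_mem hyN) e).1 he
      rw [inv_inv] at this
      exact this.1
    simp only [MulEquiv.coe_toMonoidHom, MulAut.conj_apply]
    calc y * j * y⁻¹ * e = y * (j * (y⁻¹ * e * y)) * y⁻¹ := by group
      _ = y * ((y⁻¹ * e * y) * j) * y⁻¹ := by rw [h.J_comm hj he']
      _ = _ := by group
  have hJp : IsPGroup 3 h.J := IsPGroup.of_card (n := 3) (by rw [h.card_J]; norm_num)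
  exact h.conj_eq_of_pGroup (Q := h.J ⊔ J')
    (hJp.to_sup_of_normal_left' (hJp.map _) hJ'H) le_sup_left
    fun x hx => Subgroup.mem_sup_right ⟨x, hx, rfl⟩

theorem comm_conj_r {y g : G} (hy : y * c.r = c.r * y) (hg : g * c.r = c.r * g) :
    y * g * y⁻¹ * c.r = c.r * (y * g * y⁻¹) :=
  (Commute.mul_left (Commute.mul_left hy hg) (show Commute y c.r from hy).inv_left).eq

/-- `Er` is a Sylow 3-subgroup of `C(r)`. -/
theorem exists_sylow_Er : ∃ P : Sylow 3 (Subgroup.centralizer ({c.r} : Set G)),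
    (P : Subgroup (Subgroup.centralizer ({c.r} : Set G))) =
      c.Er.subgroupOf (Subgroup.centralizer ({c.r} : Set G)) := by
  haveI : Fact (Nat.Prime 3) := ⟨Nat.prime_three⟩
  set X := Subgroup.centralizer ({c.r} : Set G) with hX
  have hE3 : IsPGroup 3 c.Er := IsPGroup.of_card (n := 2) (by rw [c.card_Er]; norm_num)
  obtain ⟨P, hP⟩ := (hE3.comap_subtype (K := X)).exists_le_sylow
  refine ⟨P, ((hP.eq_or_lt).resolve_right fun hlt => ?_).symm⟩
  obtain ⟨y, ⟨hyP, hyN⟩, hyE⟩ := SetLike.exists_of_lt (Transfer.lt_inf_normalizer P.isPGroup' hlt)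
  refine hyE (Subgroup.mem_subgroupOf.2 (c.mem_Er.2 ⟨?_, Subgroup.mem_centralizer_singleton_iff.1 y.2⟩))
  have hyr : (y : G) * c.r = c.r * y := Subgroup.mem_centralizer_singleton_iff.1 y.2
  have hyH : (y : G) ∈ h.H := c.norm_Er_le fun e he => by
    have heX : e ∈ X := he.2
    exact (Subgroup.mem_normalizer_iff.1 hyN ⟨e, heX⟩).1 he
  obtain ⟨k, hk⟩ := P.isPGroup' ⟨y, hyP⟩
  have hk' : (y : G) ^ 3 ^ k = 1 := congrArg (fun g : (P : Subgroup X) => ((g : X) : G)) hk
  refine h.mem_J_of_act (g := ⟨(y : G), hyH⟩) fun p => ?_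
  set f := h.act ⟨(y : G), hyH⟩ with hf
  rw [lmap_spec f (h.act_add _)]
  refine goods_fR_cube _ (h.tr_act_mem c.hO _) (fun q => ?_) (fun q => ?_) p
  · rw [← lmap_spec f (h.act_add _), ← lmap_spec f (h.act_add _)]
    refine h.act_eq ?_
    rw [← c.r_conj, ← c.r_conj, hf, h.jj_act]
    calc (y : G) * (c.r * h.jj q * c.r⁻¹) * (y : G)⁻¹
        = ((y : G) * c.r) * h.jj q * ((y : G) * c.r)⁻¹ := by group
      _ = _ := by rw [hyr]; group
  · rw [← lmap_spec f (h.act_add _), ← lmap_spec f (h.act_add _), ← lmap_spec f (h.act_add _)]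
    exact h.act_cube c.hO hk' q

theorem r_not_J {x : G} (hx : x ∈ c.Er) : ¬ (x * c.r) ^ 3 = 1 := by
  intro e
  rw [(show Commute x c.r from (c.mem_Er.1 hx).2).mul_pow, h.J_exp (c.mem_Er.1 hx).1, one_mul,
    pow_succ, pow_two, c.r_sq, one_mul] at e
  have := c.r_conj (0, 1, 0)
  rw [e, one_mul, inv_one, mul_one] at this
  exact absurd (h.jj_inj this) (by decide)

/-- The 2-part of `|C(r)|` is at most 32. -/
theorem not_sixtyfour_dvd : ¬ 64 ∣ Nat.card (Subgroup.centralizer ({c.r} : Set G)) := by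
  classical
  haveI : Fact (Nat.Prime 3) := ⟨Nat.prime_three⟩
  set X := Subgroup.centralizer ({c.r} : Set G) with hX
  have hXr : ∀ y : X, (y : G) * c.r = c.r * y := fun y => Subgroup.mem_centralizer_singleton_iff.1 y.2
  have hEX : c.Er ≤ X := inf_le_right
  set r' : X := ⟨c.r, Subgroup.mem_centralizer_singleton_iff.2 rfl⟩ with hr'
  set Z := Subgroup.zpowers r' with hZ
  haveI : Z.Normal := ⟨fun n hn y => by
    obtain ⟨i, rfl⟩ := Subgroup.mem_zpowers_iff.1 hn
    rw [((show Commute y r' from Subtype.ext (hXr y)).zpow_right i).eq, mul_inv_cancel_right]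
    exact Subgroup.zpow_mem _ (Subgroup.mem_zpowers _) _⟩
  have hZc : ∀ y ∈ Z, (y : G) = 1 ∨ (y : G) = c.r := fun y hy => by
    obtain ⟨i, rfl⟩ := Subgroup.mem_zpowers_iff.1 hy
    rcases Int.even_or_odd' i with ⟨j, rfl | rfl⟩
    · left
      push_cast
      rw [_root_.zpow_mul, zpow_two, c.r_sq, _root_.one_zpow]
    · right
      push_cast
      rw [_root_.zpow_add, _root_.zpow_mul, zpow_two, c.r_sq, _root_.one_zpow, one_mul, zpow_one]
  set q := QuotientGroup.mk' Z with hq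
  obtain ⟨P, hP⟩ := c.exists_sylow_Er
  let T : Sylow 3 (X ⧸ Z) := P.mapSurjective (QuotientGroup.mk'_surjective _)
  have hT : (T : Subgroup (X ⧸ Z)) = (c.Er.subgroupOf X).map q := by rw [← hP]; rfl
  have hmod : ∀ {y z : X}, q y = q z → (y : G) = z ∨ (y : G) = z * c.r := by
    intro y z e
    rcases hZc _ (QuotientGroup.eq.1 e.symm) with e' | e' <;> push_cast at e'
    · exact Or.inl (inv_mul_eq_one.1 e').symm
    · exact Or.inr (inv_mul_eq_iff_eq_mul.1 e')
  have hqr : q r' = 1 := (QuotientGroup.eq_one_iff _).2 (Subgroup.mem_zpowers _)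
  have hrep : ∀ y : X, q y ∈ (T : Subgroup (X ⧸ Z)) ↔ (y : G) ∈ c.Er ∨ (y : G) * c.r ∈ c.Er := by
    intro y
    rw [hT]
    constructor
    · rintro ⟨e, he, hey⟩
      rcases hmod hey.symm with e' | e' <;> rw [e']
      · exact Or.inl he
      · exact Or.inr (by rw [mul_assoc, c.r_sq, mul_one]; exact he)
    · rintro (hy | hy)
      · exact ⟨y, hy, rfl⟩
      · exact ⟨y * r', hy, by rw [map_mul, hqr, mul_one]⟩
  have hexact : ∀ {y : X} {e : G} (he : e ∈ c.Er) (e' : G), e' ∈ c.Er →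
      (y : G) * e * (y : G)⁻¹ = e' * c.r → False := by
    intro y e he e' he' hye
    refine c.r_not_J he' ?_
    rw [← hye, conj_pow, h.J_exp (c.mem_Er.1 he).1, mul_one, mul_inv_cancel]
  set NT := Subgroup.normalizer ((T : Subgroup (X ⧸ Z)) : Set (X ⧸ Z)) with hNT
  have hNiff : ∀ y : X, q y ∈ NT ↔ (y : G) ∈ h.H := fun y => by
    constructor
    · intro hy
      refine c.norm_Er_le fun e he => ?_
      have h1 := (Subgroup.mem_normalizer_iff.1 hy (q ⟨e, hEX he⟩)).1 ((hrep _).2 (Or.inl he))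
      rw [← map_inv, ← map_mul, ← map_mul, hrep] at h1
      push_cast at h1
      refine h1.resolve_right fun h2 => hexact (y := y) he _ h2 ?_
      rw [mul_assoc _ c.r c.r, c.r_sq, mul_one]
    · intro hy
      refine Subgroup.mem_normalizer_fintype fun e he => ?_
      obtain ⟨w, rfl⟩ := QuotientGroup.mk'_surjective _ e
      rw [SetLike.mem_coe] at he ⊢
      rw [← map_inv, ← map_mul, ← map_mul, hrep]
      have hkey : ∀ x ∈ c.Er, (y : G) * x * (y : G)⁻¹ ∈ c.Er := fun x hx =>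
        c.mem_Er.2 ⟨h.conj_mem hy (c.mem_Er.1 hx).1, c.comm_conj_r (hXr y) (c.mem_Er.1 hx).2⟩
      push_cast
      rcases (hrep w).1 he with hw | hw
      · exact Or.inl (hkey _ hw)
      · refine Or.inr ?_
        rw [mul_assoc _ (y : G)⁻¹ c.r, (show Commute (y : G) c.r from hXr y).inv_left.eq, ← mul_assoc,
          mul_assoc (y : G)]
        exact hkey _ hw
  have hcard : Nat.card (T : Subgroup (X ⧸ Z)) = 9 := by
    rw [← c.card_Er]
    refine (Nat.card_congr (Equiv.ofBijective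
      (fun e : c.Er => (⟨q ⟨e, hEX e.2⟩, (hrep _).2 (Or.inl e.2)⟩ : (T : Subgroup (X ⧸ Z))))
      ⟨fun e e' he => ?_, fun x => ?_⟩)).symm
    · rcases hmod (congrArg Subtype.val he) with e1 | e1
      · exact Subtype.ext e1
      · exfalso
        exact c.r_not_J e'.2 (e1 ▸ h.J_exp (c.mem_Er.1 e.2).1)
    · obtain ⟨y, hy⟩ := QuotientGroup.mk'_surjective _ (x : X ⧸ Z)
      rcases (hrep y).1 (by rw [hq, hy]; exact x.2) with hy' | hy'
      · exact ⟨⟨_, hy'⟩, Subtype.ext hy⟩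
      · refine ⟨⟨_, hy'⟩, Subtype.ext ?_⟩
        show q _ = _
        rw [← hy]
        exact (by rw [map_mul, hqr, mul_one] : q (y * r') = q y)
  have hTcomm : ∀ x ∈ (T : Subgroup (X ⧸ Z)), ∀ z ∈ (T : Subgroup (X ⧸ Z)), x * z = z * x := by
    rw [hT]
    rintro _ ⟨e, he, rfl⟩ _ ⟨e', he', rfl⟩
    rw [← map_mul, ← map_mul]
    exact congrArg q (Subtype.ext (h.J_comm (c.mem_Er.1 he).1 (c.mem_Er.1 he').1))
  have hcomm : ∀ (y : X) {e : G} (he : e ∈ c.Er), q y * q ⟨e, hEX he⟩ = q ⟨e, hEX he⟩ * q y →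
      (y : G) * e = e * y := by
    intro y e he hc
    rw [← map_mul, ← map_mul] at hc
    rcases hmod hc with e1 | e1 <;> push_cast at e1
    · exact e1
    · exfalso
      refine hexact (y := y) he e he ?_
      rw [e1, mul_assoc _ c.r, ← (show Commute (y : G) c.r from hXr y).inv_left.eq, ← mul_assoc,
        mul_inv_cancel_right]
  have hC : Subgroup.centralizer ((T : Subgroup (X ⧸ Z)) : Set (X ⧸ Z)) = T := by
    refine le_antisymm (fun x hx => ?_)
      fun x hx => Subgroup.mem_centralizer_iff.2 fun z hz => hTcomm z hz x hx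
    obtain ⟨y, rfl⟩ := QuotientGroup.mk'_surjective _ x
    have hye : ∀ e ∈ c.Er, (y : G) * e = e * y := fun e he => hcomm y he
      (Subgroup.mem_centralizer_iff.1 hx _ ((hrep _).2 (Or.inl he))).symm
    have hyH : (y : G) ∈ h.H := c.cent_Er_le hye
    set f := h.act ⟨(y : G), hyH⟩ with hf
    refine (hrep y).2 ?_
    have hfix : ∀ p, fR p = p → lmap (tr f) p = p := fun p hp => by
      rw [← lmap_spec f (h.act_add _)]
      exact h.act_eq (mul_inv_eq_iff_eq_mul.2 (hye _ (c.jj_mem_Er hp)))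
    rcases goods_fR_fix _ (h.tr_act_mem c.hO _) hfix with hid | hR
    · refine Or.inl (c.mem_Er.2 ⟨h.mem_J_of_act (g := ⟨(y : G), hyH⟩) fun p => ?_, hXr y⟩)
      exact (lmap_spec f (h.act_add _) p).trans (hid p)
    · refine Or.inr (c.mem_Er.2 ⟨h.mem_J_of_act (g := ⟨(y : G), hyH⟩ * ⟨c.r, c.r_mem⟩) fun p => ?_,
        (Commute.mul_left (hXr y) rfl).eq⟩)
      rw [h.act_mul, h.act_conj c.r_mem c.r_conj]
      show f (fR p) = p
      rw [lmap_spec f (h.act_add _), hR, fR_fR]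
  have hloc : ∀ x ∈ (T : Subgroup (X ⧸ Z)), x ≠ 1 →
      Subgroup.centralizer ({x} : Set (X ⧸ Z)) ≤ NT := by
    intro x hx hx1 z hz
    obtain ⟨y, rfl⟩ := QuotientGroup.mk'_surjective _ z
    rw [hT] at hx
    obtain ⟨⟨e, heX⟩, he, rfl⟩ := hx
    have he' : e ∈ c.Er := he
    obtain ⟨p, hp, hpe⟩ := c.exists_fix he'
    rw [hNiff]
    refine h.cent_le_H_of_notO c.hO c.cent_le (p := p) (fun h0 => hx1 ?_) (fR_fix_notO p hp)
      (hpe ▸ hcomm y he' (Subgroup.mem_centralizer_singleton_iff.1 hz))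
    have : (⟨e, heX⟩ : X) = 1 := Subtype.ext (show e = 1 by rw [← hpe, h0, h.jj_zero])
    rw [this, map_one]
  have hlift : ∀ d, ∃ g : h.H, (∀ p, h.act g p = Mc d p) ∧ (g : G) ∈ X := fun d => by
    obtain ⟨g, hg⟩ := h.exists_act_good c.hO (Mc_mem d)
    have hg' : ∀ p, h.act g p = Mc d p := fun p => (hg p).trans (Mc_lin d p).symm
    have hr2 : (⟨c.r, c.r_mem⟩ : h.H) * ⟨c.r, c.r_mem⟩ = 1 := Subtype.ext c.r_sq
    obtain ⟨j, hj, hjc⟩ := h.exists_adjust hr2 (g := g) fun v => by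
      rw [h.act_conj c.r_mem c.r_conj, h.act_conj c.r_mem c.r_conj, hg', hg', fR_comm_Mc]
    exact ⟨j * g, fun p => by rw [h.act_mul, h.act_of_mem hj, hg'],
      Subgroup.mem_centralizer_singleton_iff.2 (congrArg Subtype.val hjc).symm⟩
  choose g hg hgX using hlift
  let K := (T : Subgroup (X ⧸ Z)).subgroupOf NT
  let φ0 : DihedralGroup 4 → NT ⧸ K := fun d =>
    QuotientGroup.mk ⟨q ⟨g d, hgX d⟩, (hNiff _).2 (g d).2⟩
  have heq : ∀ (d : DihedralGroup 4) (y : X) (hy : q y ∈ NT),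
      φ0 d = (QuotientGroup.mk (⟨q y, hy⟩ : NT) : NT ⧸ K) ↔
        ((∀ p, h.act ⟨(y : G), (hNiff y).1 hy⟩ p = Mc d p) ∨
          ∀ p, h.act ⟨(y : G), (hNiff y).1 hy⟩ p = fR (Mc d p)) := by
    intro d y hy
    set y' : h.H := ⟨(y : G), (hNiff y).1 hy⟩ with hy'
    set r₀ : h.H := ⟨c.r, c.r_mem⟩ with hr₀
    have hr₀a : ∀ p, h.act r₀ p = fR p := h.act_conj c.r_mem c.r_conj
    have hgr : (g d : G) * c.r = c.r * g d := Subgroup.mem_centralizer_singleton_iff.1 (hgX d)
    rw [QuotientGroup.eq, Subgroup.mem_subgroupOf]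
    push_cast
    rw [← map_inv, ← map_mul, hrep]
    have hz : ∀ z : h.H, (z : G) * c.r = c.r * z → ((z : G) ∈ c.Er ↔ ∀ p, h.act z p = p) := fun z hz =>
      ⟨fun hm => h.act_of_mem (c.mem_Er.1 hm).1, fun hm => c.mem_Er.2 ⟨h.mem_J_of_act hm, hz⟩⟩
    have hzc : (((g d)⁻¹ * y' : h.H) : G) * c.r = c.r * (((g d)⁻¹ * y' : h.H) : G) :=
      (Commute.mul_left (show Commute (g d : G) c.r from hgr).inv_left (hXr y)).eq
    have hzc2 : (((g d)⁻¹ * y' * r₀ : h.H) : G) * c.r = c.r * (((g d)⁻¹ * y' * r₀ : h.H) : G) :=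
      (Commute.mul_left (show Commute _ _ from hzc) (Commute.refl c.r)).eq
    have k1 := hz _ hzc
    have k2 := hz _ hzc2
    push_cast at k1 k2 ⊢
    rw [k1, k2]
    have e1 : (∀ p, h.act ((g d)⁻¹ * y') p = p) ↔ ∀ p, h.act y' p = Mc d p := by
      refine forall_congr' fun p => ?_
      rw [h.act_mul, ← (h.act_inj (g d)).eq_iff, ← h.act_mul, mul_inv_cancel, h.act_one, hg]
    have e2 : (∀ p, h.act ((g d)⁻¹ * y' * r₀) p = p) ↔ ∀ p, h.act y' p = fR (Mc d p) := by
      constructor <;> intro hh p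
      · have := hh (fR p)
        rw [h.act_mul, hr₀a, fR_fR, h.act_mul, ← (h.act_inj (g d)).eq_iff, ← h.act_mul,
          mul_inv_cancel, h.act_one, hg] at this
        rw [this, fR_comm_Mc]
      · rw [h.act_mul, hr₀a, h.act_mul, hh, ← fR_comm_Mc, fR_fR, ← hg, ← h.act_mul, inv_mul_cancel,
          h.act_one]
    rw [e1, e2]
  let φ : DihedralGroup 4 →* NT ⧸ K := MonoidHom.mk' φ0 fun d e => by
    have hm : q (⟨g d, hgX d⟩ * ⟨g e, hgX e⟩) ∈ NT := (hNiff _).2 (mul_mem (g d).2 (g e).2)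
    rw [(heq (d * e) _ hm).2 (Or.inl fun p => by
      rw [show (⟨((⟨g d, hgX d⟩ * ⟨g e, hgX e⟩ : X) : G), _⟩ : h.H) = g d * g e from
        Subtype.ext rfl, h.act_mul, hg, hg, vhyp_c.mul])]
    show _ = QuotientGroup.mk (_ : NT) * QuotientGroup.mk (_ : NT)
    rw [← QuotientGroup.mk_mul]
    congr 1
  have hφ : Function.Bijective φ := by
    constructor
    · rw [injective_iff_map_eq_one]
      intro d hd
      have h1 : q (1 : X) ∈ NT := by rw [map_one]; exact one_mem _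
      have := (heq d 1 h1).1 (by
        show φ d = _
        rw [hd, eq_comm, QuotientGroup.eq_one_iff, Subgroup.mem_subgroupOf]
        show q 1 ∈ (T : Subgroup (X ⧸ Z))
        rw [map_one]
        exact one_mem _)
      rcases this with hh | hh
      · exact vhyp_c.inj d fun p => ((hh p).symm.trans (h.act_of_mem h.J.one_mem p))
      · refine absurd (fun p => ?_) (Mc_ne_fR d)
        have := (hh p).symm.trans (h.act_of_mem h.J.one_mem p)
        rw [← fR_fR (Mc d p), this]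
    · intro x
      obtain ⟨⟨e, he⟩, rfl⟩ := QuotientGroup.mk_surjective x
      obtain ⟨y, rfl⟩ := QuotientGroup.mk'_surjective _ e
      have hyH := (hNiff y).1 he
      set f := h.act ⟨(y : G), hyH⟩ with hf
      obtain ⟨d, hd⟩ := goods_fR_complete _ (h.tr_act_mem c.hO ⟨_, hyH⟩) fun p => by
        rw [← lmap_spec f (h.act_add _), ← lmap_spec f (h.act_add _)]
        refine h.act_eq ?_
        rw [← c.r_conj, ← c.r_conj, hf, h.jj_act]
        calc (y : G) * (c.r * h.jj p * c.r⁻¹) * (y : G)⁻¹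
            = ((y : G) * c.r) * h.jj p * ((y : G) * c.r)⁻¹ := by group
          _ = _ := by rw [hXr y]; group
      refine ⟨d, (heq d y he).2 (hd.imp (fun hh p => ?_) fun hh p => ?_)⟩ <;>
        exact (lmap_spec f (h.act_add _) p).trans (hh p)
  intro h64
  have hcardX : Nat.card X = Nat.card (X ⧸ Z) * 2 := by
    rw [Subgroup.card_eq_card_quotient_mul_card_subgroup Z, hZ, Nat.card_zpowers]
    congr 1
    refine orderOf_eq_prime (Subtype.ext (by push_cast; rw [pow_two]; exact c.r_sq)) fun e => ?_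
    have h1 := c.r_conj (0, 1, 0)
    rw [show c.r = 1 from congrArg Subtype.val e, one_mul, inv_one, mul_one] at h1
    exact fR_moves (h.jj_inj h1)
  rcases Cfsg.Agent.S3333.result T (T : Subgroup (X ⧸ Z)) rfl hcard hC
      (MulEquiv.ofBijective φ hφ).symm hloc with hn | hs
  · have hle : X ≤ h.H := fun y hy => (hNiff ⟨y, hy⟩).1 (by
      rw [hNT, Subgroup.normalizer_eq_top_iff.2 hn]
      exact Subgroup.mem_top _)
    have := h64.trans (Subgroup.card_dvd_of_le hle)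
    rw [h.card_H_eight c.hO] at this
    norm_num at this
  · obtain ⟨e⟩ := hs
    rw [hcardX, Nat.card_congr e.toEquiv, Nat.card_perm, Nat.card_fin] at h64
    revert h64
    decide

/-- `r` is not conjugate to `t`. -/
theorem r_not_t {g : G} (e : g * c.r * g⁻¹ = h.t) : False := by
  haveI : Fact (Nat.Prime 3) := ⟨Nat.prime_three⟩
  set X := Subgroup.centralizer ({c.r} : Set G) with hX
  set b := g⁻¹ * h.a * g with hb
  have hbX : b ∈ X := Subgroup.mem_centralizer_singleton_iff.2 (by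
    have h1 : Commute (g⁻¹ * h.a * g⁻¹⁻¹) (g⁻¹ * (g * c.r * g⁻¹) * g⁻¹⁻¹) :=
      (Commute.conj_iff g⁻¹).2 (by rw [e]; exact h.t_comm_a.symm)
    rw [inv_inv, show g⁻¹ * (g * c.r * g⁻¹) * g = c.r by group] at h1
    exact h1)
  obtain ⟨P, hP⟩ := c.exists_sylow_Er
  obtain ⟨U, hU⟩ := (IsPGroup.of_card (p := 3) (n := 1)
    (show Nat.card (Subgroup.zpowers (⟨b, hbX⟩ : X)) = 3 ^ 1 by
      rw [Nat.card_zpowers, Subgroup.orderOf_mk, pow_one, ← h.orderOf_a, hb]
      simpa using MulEquiv.orderOf_eq (MulAut.conj g⁻¹) h.a)).exists_le_sylow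
  obtain ⟨x, hx⟩ := MulAction.exists_smul_eq X U P
  have hm : (MulAut.conj x) (⟨b, hbX⟩ : X) ∈ (x • U : Sylow 3 X).toSubgroup :=
    Subgroup.smul_mem_pointwise_smul _ _ _ (hU (Subgroup.mem_zpowers _))
  rw [hx, hP, Subgroup.mem_subgroupOf] at hm
  obtain ⟨p, hp, hpe⟩ := c.exists_fix hm
  refine fR_fix_notO p hp ((c.hO p).1 (isConj_iff.2 ⟨(x : G) * g⁻¹, ?_⟩))
  rw [hpe]
  show _ = (x : G) * b * (x : G)⁻¹
  rw [hb]
  group

/-- `r` is not conjugate to `s`. -/
theorem r_not_s {g : G} (e : g * c.r * g⁻¹ = c.s) : False := by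
  haveI : Fact (Nat.Prime 3) := ⟨Nat.prime_three⟩
  set X := Subgroup.centralizer ({c.s} : Set G) with hX
  have hvX : h.jj vc ∈ X := Subgroup.mem_centralizer_singleton_iff.2 (by
    have h1 := c.s_conj vc
    rw [show fS vc = vc by decide +kernel] at h1
    exact (mul_inv_eq_iff_eq_mul.1 h1).symm)
  set v : X := ⟨h.jj vc, hvX⟩ with hv
  have hv3 : orderOf v = 3 := by
    rw [hv, Subgroup.orderOf_mk]
    refine h.orderOf_mem (h.jj_mem vc) fun e => ?_
    rw [← h.jj_zero] at e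
    exact absurd (h.jj_inj e) (by decide +kernel)
  obtain ⟨P, hP⟩ := (IsPGroup.of_card (p := 3) (n := 1)
    (show Nat.card (Subgroup.zpowers v) = 3 ^ 1 by
      rw [Nat.card_zpowers, hv3, pow_one])).exists_le_sylow
  have h9 : Subgroup.zpowers v ≠ (P : Subgroup X) := by
    intro heq
    set Y := c.Er.map (MulAut.conj g).toMonoidHom with hY
    have hYX : Y ≤ X := by
      rintro _ ⟨x, hx, rfl⟩
      refine Subgroup.mem_centralizer_singleton_iff.2 ?_
      simp only [MulEquiv.coe_toMonoidHom, MulAut.conj_apply, ← e]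
      exact ((Commute.conj_iff g).2 (c.mem_Er.1 hx).2).eq
    have hd : Nat.card Y ∣ Nat.card X := Subgroup.card_dvd_of_le hYX
    rw [hY, Subgroup.card_map_of_injective (MulAut.conj g).injective, c.card_Er] at hd
    have h2 := P.pow_dvd_card_of_pow_dvd_card (n := 2) (show 3 ^ 2 ∣ Nat.card X from hd)
    rw [← heq, Nat.card_zpowers, hv3] at h2
    norm_num at h2
  obtain ⟨y, ⟨hyP, hyN⟩, hy⟩ :=
    SetLike.exists_of_lt (Transfer.lt_inf_normalizer P.isPGroup' (lt_of_le_of_ne hP h9))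
  refine hy ?_
  obtain ⟨k, hk⟩ := P.isPGroup' ⟨y, hyP⟩
  have hk' : (y : G) ^ 3 ^ k = 1 := congrArg (fun g : (P : Subgroup X) => ((g : X) : G)) hk
  have hyv : Commute (y : G) (h.jj vc) := by
    refine commute_of_sq hk' ?_
    obtain ⟨i, hi⟩ := Subgroup.mem_zpowers_iff.1
      ((Subgroup.mem_normalizer_iff.1 hyN v).1 (Subgroup.mem_zpowers v))
    have hi' : (y : G) * h.jj vc * (y : G)⁻¹ = h.jj vc ^ i := by
      simpa [hv] using (congrArg Subtype.val hi).symm
    have hsq : (y : G) * y * h.jj vc * ((y : G) * y)⁻¹ = h.jj vc ^ (i * i) := by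
      rw [show (y : G) * y * h.jj vc * ((y : G) * y)⁻¹ =
        (y : G) * ((y : G) * h.jj vc * (y : G)⁻¹) * (y : G)⁻¹ by group, hi', ← conj_zpow, hi',
        ← _root_.zpow_mul]
    have ho : orderOf (h.jj vc) = 3 := by rw [← hv3, hv, Subgroup.orderOf_mk]
    have hi3 : i % 3 ≠ 0 := fun h0 => by
      have h1 : h.jj vc ^ i = 1 := orderOf_dvd_iff_zpow_eq_one.1 (by rw [ho]; exact Int.dvd_of_emod_eq_zero h0)
      rw [h1, conj_eq_one_iff] at hi'
      rw [hi', orderOf_one] at ho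
      norm_num at ho
    have hii : h.jj vc ^ (i * i) = h.jj vc := by
      conv_rhs => rw [← zpow_one (h.jj vc)]
      rw [zpow_eq_zpow_iff_modEq, ho]
      show i * i % 3 = 1 % 3
      rw [Int.mul_emod]
      rcases (show i % 3 = 1 ∨ i % 3 = 2 by omega) with h1 | h1 <;> rw [h1] <;> norm_num
    exact mul_inv_eq_iff_eq_mul.1 (hsq.trans hii)
  have hyH : (y : G) ∈ h.H := c.cent_le (h.mem_Cv.2 hyv.eq)
  have hyJ : (y : G) ∈ h.J := by
    refine h.mem_J_of_act (g := ⟨(y : G), hyH⟩) fun p => ?_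
    set f := h.act ⟨(y : G), hyH⟩ with hf
    rw [lmap_spec f (h.act_add _)]
    refine vhyp_c.cube _ (h.tr_act_mem c.hO _) ?_ (fun q => ?_) p
    · rw [← lmap_spec f (h.act_add _)]
      exact h.act_eq (mul_inv_eq_iff_eq_mul.2 hyv.eq)
    · rw [← lmap_spec f (h.act_add _), ← lmap_spec f (h.act_add _), ← lmap_spec f (h.act_add _)]
      exact h.act_cube c.hO hk' q
  obtain ⟨p, hp⟩ := h.exists_jj hyJ
  have hps : fS p = p := h.jj_inj (by
    rw [← c.s_conj, hp, ← Subgroup.mem_centralizer_singleton_iff.1 y.2, mul_inv_cancel_right])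
  obtain ⟨n, rfl⟩ := fS_fix_vc p hps
  refine Subgroup.mem_zpowers_iff.2 ⟨(n.val : ℤ), Subtype.ext ?_⟩
  rw [zpow_natCast]
  push_cast
  rw [← hp, hv, h.jj_pow]

end BCtx

end CfsgLib.Hayden48
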