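import Cfsg.Agent.Hayden48.IndexSylow
import Cfsg.Agent.Hayden48.IndexRefl
import Cfsg.Agent.Small.ThompsonTransfer

/-!
# A subgroup of index two

By Thompson's transfer lemma, as the reflection has no conjugate in `W⟨s⟩`.
-/

set_option autoImplicit false
set_option maxRecDepth 100000

namespace CfsgLib.Hayden48

open Matrix
open CfsgLib.HeisenbergSL (SL23 det2 upper negOne)

/-- Representatives of the quaternion group modulo its centre. -/
def qrep : Fin 4 → SL23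
  | 0 => 1
  | 1 => quatI
  | 2 => quatJ
  | 3 => quatI * quatJ

theorem qrep_isQ : ∀ j, IsQ (qrep j) := by decide +kernel

theorem qrep_cover : ∀ A : SL23, IsQ A → ∃ j, A = qrep j ∨ A = qrep j * negOne := by decide +kernel

theorem qrep_inj : ∀ j k, ((qrep j)⁻¹ * qrep k = 1 ∨ (qrep j)⁻¹ * qrep k = negOne) → j = k := by
  decide +kernel

theorem quat_transitive : ∀ A : SL23, A * A = negOne → ∀ B : SL23, B * B = negOne →
    ∃ k : ZMod 3, B = upper k * A * upper (-k) ∨ B = upper k * A * upper (-k) * negOne := by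
  decide +kernel

theorem quat_flip : ∀ A : SL23, A * A = negOne →
    ∃ P : SL23, IsQ P ∧ P * A * P⁻¹ = A * negOne := by decide +kernel

theorem exists_good_fTS : ∃ T ∈ goods, ∀ p, lmap T (fT (fS p)) = fT (lmap T p) := by decide +kernel

theorem fT_moves : ((1, 0, 0) : V3) ≠ fT (1, 0, 0) := by decide +kernel

namespace BCtx

variable {G : Type*} [Group G] [Finite G] {h : Hyp G} (c : BCtx h)

include c in
theorem card_adjoinInv {K : Subgroup G} {x : G} (hx : x * x = 1) (hn : ∀ k ∈ K, x * k * x⁻¹ ∈ K)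
    (hxK : x ∉ K) : Nat.card (adjoinInv K x hx hn) = Nat.card K * 2 := by
  have hle : K ≤ adjoinInv K x hx hn := fun g hg => Or.inl hg
  have hrel : K.relIndex (adjoinInv K x hx hn) = 2 := by
    rw [Subgroup.relIndex_eq_two_iff]
    refine ⟨x, Or.inr (by rw [hx]; exact one_mem _), fun b hb => ?_⟩
    by_cases hbK : b ∈ K
    · refine Or.inr ⟨hbK, fun hm => hxK ?_⟩
      have := mul_mem (inv_mem hbK) hm
      rwa [inv_mul_cancel_left] at this
    · exact Or.inl ⟨hb.resolve_left hbK, hbK⟩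
  rw [← hrel, ← Subgroup.relIndex_bot_left (adjoinInv K x hx hn), ← Subgroup.relIndex_bot_left K,
    Subgroup.relIndex_mul_relIndex _ _ _ bot_le hle]

theorem s_not_W : c.s ∉ c.W := by
  obtain ⟨q, hq, hq2, -⟩ := c.exists_inverted
  intro hs
  obtain ⟨p, hp, x, hx, e⟩ := hs
  have h1 : c.s * q * c.s⁻¹ ∈ h.Q := by
    rw [e, show p * x * q * (p * x)⁻¹ = p * (x * q * x⁻¹) * p⁻¹ by group, c.Qu_comm_Q hx hq,
      mul_inv_cancel_right]
    exact mul_mem (mul_mem hp hq) (inv_mem hp)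
  rcases c.inter h1 (c.s_Q hq) with e1 | e1
  · rw [conj_eq_one_iff.1 e1, one_mul] at hq2
    exact h.t_ne_one hq2.symm
  · have e2 : q = h.t := by
      rw [show q = c.s⁻¹ * (c.s * q * c.s⁻¹) * c.s by group, e1, mul_assoc, ← c.s_t,
        inv_mul_cancel_left]
    rw [e2, h.t_sq] at hq2
    exact h.t_ne_one hq2.symm

theorem card_W : Nat.card c.W = 32 := by
  have hbij : Function.Bijective (fun p : {A : SL23 // IsQ A} × Fin 4 =>
      (⟨h.P 0 0 p.1.1 * (c.r * h.P 0 0 (qrep p.2) * c.r⁻¹),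
        mul_mem (c.Q_le_W (h.mem_Q_of p.1.2))
          (c.Qu_le_W (c.r_mem_Qu (h.mem_Q_of (qrep_isQ p.2))))⟩ : c.W)) := by
    refine ⟨fun p p' e => ?_, fun w => ?_⟩
    · have e' := congrArg Subtype.val e
      simp only at e'
      have h1 : (h.P 0 0 p'.1.1)⁻¹ * h.P 0 0 p.1.1 =
          c.r * h.P 0 0 (qrep p'.2 * (qrep p.2)⁻¹) * c.r⁻¹ := by
        rw [show h.P 0 0 (qrep p'.2 * (qrep p.2)⁻¹) = h.P 0 0 (qrep p'.2) * (h.P 0 0 (qrep p.2))⁻¹ by
          rw [h.P0_inv, h.P0_mul]; simp]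
        calc (h.P 0 0 p'.1.1)⁻¹ * h.P 0 0 p.1.1
            = (h.P 0 0 p'.1.1)⁻¹ * (h.P 0 0 p.1.1 * (c.r * h.P 0 0 (qrep p.2) * c.r⁻¹)) *
              (c.r * h.P 0 0 (qrep p.2) * c.r⁻¹)⁻¹ := by group
          _ = _ := by rw [e']; group
      have hQ : (h.P 0 0 p'.1.1)⁻¹ * h.P 0 0 p.1.1 ∈ h.Q :=
        mul_mem (inv_mem (h.mem_Q_of p'.1.2)) (h.mem_Q_of p.1.2)
      have hz := c.inter hQ (h1 ▸ c.r_mem_Qu (h.mem_Q_of (isQ_mul _ _ (qrep_isQ _)
        (isQ_inv _ (qrep_isQ _)))))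
      have hj : p.2 = p'.2 := by
        have hc : ∀ z : G, z = 1 ∨ z = h.t → c.r⁻¹ * z * c.r = z := by
          rintro z (rfl | rfl)
          · rw [mul_one, inv_mul_cancel]
          · rw [mul_assoc, ← c.r_t, inv_mul_cancel_left]
        have h2 : h.P 0 0 (qrep p'.2 * (qrep p.2)⁻¹) = (h.P 0 0 p'.1.1)⁻¹ * h.P 0 0 p.1.1 := by
          rw [← hc _ hz]
          conv_rhs => rw [h1]
          group
        refine qrep_inj _ _ ?_
        have hX : qrep p'.2 * (qrep p.2)⁻¹ = 1 ∨ qrep p'.2 * (qrep p.2)⁻¹ = negOne := by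
          rcases hz with e1 | e1 <;> rw [e1] at h2
          · exact Or.inl (h.inj _ _ _ _ _ _ (h2.trans h.P_one.symm)).2.2
          · exact Or.inr (h.inj _ _ _ _ _ _ h2).2.2
        exact (show ∀ j k, (qrep k * (qrep j)⁻¹ = 1 ∨ qrep k * (qrep j)⁻¹ = negOne) →
          ((qrep j)⁻¹ * qrep k = 1 ∨ (qrep j)⁻¹ * qrep k = negOne) by decide +kernel) _ _ hX
      rw [hj] at e'
      exact Prod.ext (Subtype.ext (h.inj _ _ _ _ _ _ (mul_right_cancel e')).2.2) hj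
    · obtain ⟨_, ⟨A, hA, rfl⟩, x, hx, e⟩ := w.2
      obtain ⟨_, ⟨B, hB, rfl⟩, rfl⟩ := c.exists_Q_of_Qu hx
      obtain ⟨j, hj | hj⟩ := qrep_cover B hB
      · exact ⟨(⟨A, hA⟩, j), Subtype.ext (by rw [e, hj])⟩
      · refine ⟨(⟨A * negOne, isQ_mul _ _ hA (Or.inl (by decide +kernel))⟩, j), Subtype.ext ?_⟩
        show h.P 0 0 (A * negOne) * _ = _
        rw [e, hj, show h.P 0 0 (qrep j * negOne) = h.P 0 0 negOne * h.P 0 0 (qrep j) by
            rw [h.P0_mul, add_zero, negOne_conj], show h.P 0 0 negOne = h.t from rfl,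
          show h.P 0 0 (A * negOne) = h.P 0 0 A * h.t by rw [Hyp.t, h.P0_mul, add_zero]]
        calc h.P 0 0 A * h.t * (c.r * h.P 0 0 (qrep j) * c.r⁻¹)
            = h.P 0 0 A * ((h.t * c.r) * h.P 0 0 (qrep j) * c.r⁻¹) := by group
          _ = _ := by rw [← c.r_t]; group
  rw [← Nat.card_eq_of_bijective _ hbij, Nat.card_prod, Nat.card_eq_fintype_card, card_isQ,
    Nat.card_fin]

theorem card_T : Nat.card c.T = 128 := by
  have hM : Nat.card c.M = 64 := by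
    rw [show c.M = adjoinInv c.W c.s c.s_sq (fun _ hw => c.s_W hw) from rfl,
      c.card_adjoinInv _ _ c.s_not_W, c.card_W]
  rw [show c.T = adjoinInv c.M c.r c.r_sq (fun _ hm => c.r_M hm) from rfl,
    c.card_adjoinInv _ _ c.r_not_M, hM]

/-- An element of order four of `Q` inverted by `i`. -/
noncomputable def q₀ : G := c.exists_inverted.choose

theorem q₀_spec : c.q₀ ∈ h.Q ∧ c.q₀ * c.q₀ = h.t ∧ c.i * c.q₀ * c.i⁻¹ = c.q₀⁻¹ :=
  c.exists_inverted.choose_spec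

/-- An involution of `W`. -/
noncomputable def w₀ : G := c.q₀ * (c.r * c.q₀ * c.r⁻¹)

theorem w₀_mem : c.w₀ ∈ c.W :=
  mul_mem (c.Q_le_W c.q₀_spec.1) (c.Qu_le_W (c.r_mem_Qu c.q₀_spec.1))

theorem conj_r_w₀ : c.r * c.w₀ * c.r⁻¹ = c.w₀ := by
  rw [w₀, ← conj_mul, c.r_conj_r, c.Qu_comm_Q (c.r_mem_Qu c.q₀_spec.1) c.q₀_spec.1]

theorem conj_i_w₀ : c.i * c.w₀ * c.i⁻¹ = c.w₀ := by
  obtain ⟨hq, hq2, hqi⟩ := c.q₀_spec
  have e1 : c.i * (c.r * c.q₀ * c.r⁻¹) * c.i⁻¹ = c.r * c.q₀⁻¹ * c.r⁻¹ := by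
    rw [show c.i * (c.r * c.q₀ * c.r⁻¹) * c.i⁻¹ = (c.i * c.r) * c.q₀ * (c.i * c.r)⁻¹ by group,
      ← c.r_i, show c.r * c.i * c.q₀ * (c.r * c.i)⁻¹ = c.r * (c.i * c.q₀ * c.i⁻¹) * c.r⁻¹ by group,
      hqi]
  have e2 : c.q₀⁻¹ = c.q₀ * h.t := by
    refine inv_eq_of_mul_eq_one_right ?_
    rw [← mul_assoc, hq2, h.t_sq]
  rw [w₀, ← conj_mul, hqi, e1, e2,
    show c.r * (c.q₀ * h.t) * c.r⁻¹ = c.r * c.q₀ * c.r⁻¹ * (c.r * h.t * c.r⁻¹) by rw [conj_mul],
    show c.r * h.t * c.r⁻¹ = h.t from mul_inv_eq_iff_eq_mul.2 c.r_t]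
  calc c.q₀ * h.t * (c.r * c.q₀ * c.r⁻¹ * h.t)
      = c.q₀ * (h.t * (c.r * c.q₀ * c.r⁻¹)) * h.t := by group
    _ = c.q₀ * (c.r * c.q₀ * c.r⁻¹) * (h.t * h.t) := by
        rw [← c.Qu_comm_t (c.r_mem_Qu hq)]; group
    _ = _ := by rw [h.t_sq, mul_one]

/-- The conjugates of `w₀` under `T`. -/
theorem conj_T_w₀ {g : G} (hg : g ∈ c.T) : g * c.w₀ * g⁻¹ = c.w₀ ∨ g * c.w₀ * g⁻¹ = c.w₀ * h.t := by
  have hW : ∀ w ∈ c.W, w * c.w₀ * w⁻¹ = c.w₀ ∨ w * c.w₀ * w⁻¹ = c.w₀ * h.t := by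
    intro w hw
    rcases c.W_commutator hw c.w₀_mem with e | e <;> rw [commutatorElement_def, mul_inv_eq_iff_eq_mul] at e
    · exact Or.inl (by rw [e, one_mul])
    · exact Or.inr (by rw [e, c.W_comm_t c.w₀_mem])
  have hk : ∀ k : G, k * k = 1 → k * c.w₀ * k⁻¹ = c.w₀ → g * k ∈ c.W →
      g * c.w₀ * g⁻¹ = c.w₀ ∨ g * c.w₀ * g⁻¹ = c.w₀ * h.t := by
    intro k hk2 hkw hgk
    have e : g * k * c.w₀ * (g * k)⁻¹ = g * c.w₀ * g⁻¹ := by
      rw [show g * k * c.w₀ * (g * k)⁻¹ = g * (k * c.w₀ * k⁻¹) * g⁻¹ by group, hkw]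
    rw [← e]
    exact hW _ hgk
  rcases c.T_cases hg with h0 | h0 | h0 | h0
  · exact hW g h0
  · refine hk c.s c.s_sq ?_ h0
    rw [c.s_eq, show c.r * c.i * c.w₀ * (c.r * c.i)⁻¹ = c.r * (c.i * c.w₀ * c.i⁻¹) * c.r⁻¹ by group,
      c.conj_i_w₀, c.conj_r_w₀]
  · exact hk c.r c.r_sq c.conj_r_w₀ h0
  · exact hk c.i c.i_sq c.conj_i_w₀ h0

theorem sixtyfour_dvd_cent_w₀ : 64 ∣ Nat.card (Subgroup.centralizer ({c.w₀} : Set G)) := by
  set L := c.T ⊓ Subgroup.centralizer ({c.w₀} : Set G) with hL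
  have hmem : ∀ g, g ∈ L ↔ g ∈ c.T ∧ g * c.w₀ * g⁻¹ = c.w₀ := fun g => by
    rw [hL, Subgroup.mem_inf, Subgroup.mem_centralizer_singleton_iff, mul_inv_eq_iff_eq_mul]
  have hd : Nat.card L ∣ Nat.card (Subgroup.centralizer ({c.w₀} : Set G)) :=
    Subgroup.card_dvd_of_le inf_le_right
  have hmul : Nat.card L * L.relIndex c.T = 128 := by
    rw [← Subgroup.relIndex_bot_left L,
      Subgroup.relIndex_mul_relIndex _ _ _ bot_le (inf_le_left : L ≤ c.T),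
      Subgroup.relIndex_bot_left, c.card_T]
  refine Dvd.dvd.trans ?_ hd
  by_cases hall : ∀ g ∈ c.T, g * c.w₀ * g⁻¹ = c.w₀
  · rw [Subgroup.relIndex_eq_one.2 (fun g hg => (hmem g).2 ⟨hg, hall g hg⟩), mul_one] at hmul
    rw [hmul]
    norm_num
  push Not at hall
  obtain ⟨a, haT, ha⟩ := hall
  have ha' : a * c.w₀ * a⁻¹ = c.w₀ * h.t := (c.conj_T_w₀ haT).resolve_left ha
  have h2 : L.relIndex c.T = 2 := by
    rw [Subgroup.relIndex_eq_two_iff]
    refine ⟨a, haT, fun b hb => ?_⟩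
    rcases c.conj_T_w₀ hb with e | e
    · refine Or.inr ⟨(hmem b).2 ⟨hb, e⟩, fun hm => ?_⟩
      have h1 := ((hmem _).1 hm).2
      rw [show b * a * c.w₀ * (b * a)⁻¹ = b * (a * c.w₀ * a⁻¹) * b⁻¹ by group, ha', ← conj_mul, e,
        mul_eq_left, conj_eq_one_iff] at h1
      exact h.t_ne_one h1
    · refine Or.inl ⟨(hmem _).2 ⟨mul_mem hb haT, ?_⟩, fun hm => ?_⟩
      · have hbt : b * h.t * b⁻¹ = h.t := by
          have hk : ∀ k : G, k * h.t = h.t * k → k * k = 1 → b * k ∈ c.W → b * h.t * b⁻¹ = h.t :=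
            fun k hk hk2 hbk => by
              refine mul_inv_eq_iff_eq_mul.2 ?_
              have h3 := (Commute.mul_left (show Commute (b * k) h.t from c.W_comm_t hbk)
                (show Commute k h.t from hk)).eq
              rwa [mul_assoc b, hk2, mul_one] at h3
          rcases c.T_cases hb with h0 | h0 | h0 | h0
          · exact mul_inv_eq_iff_eq_mul.2 (c.W_comm_t h0)
          · exact hk _ c.s_t c.s_sq h0
          · exact hk _ c.r_t c.r_sq h0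
          · exact hk _ c.i_t c.i_sq h0
        rw [show b * a * c.w₀ * (b * a)⁻¹ = b * (a * c.w₀ * a⁻¹) * b⁻¹ by group, ha', ← conj_mul,
          e, hbt, mul_assoc, h.t_sq, mul_one]
      · have h1 := ((hmem _).1 hm).2
        rw [e, mul_eq_left] at h1
        exact h.t_ne_one h1
  rw [h2] at hmul
  exact ⟨1, by omega⟩

theorem Qu_form {x : G} (hx : x ∈ c.Qu) : ∃ B : SL23, IsQ B ∧ x = c.r * h.P 0 0 B * c.r⁻¹ := by
  obtain ⟨_, ⟨B, hB, rfl⟩, rfl⟩ := c.exists_Q_of_Qu hx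
  exact ⟨B, hB, rfl⟩

theorem isConj_w₀_t : IsConj c.w₀ (c.w₀ * h.t) := by
  obtain ⟨A, hA, e⟩ := c.q₀_spec.1
  have hA2 : A * A = negOne := by
    have h1 := c.q₀_spec.2.1
    rw [← e, h.P0_mul, Hyp.t] at h1
    exact (h.inj _ _ _ _ _ _ h1).2.2
  obtain ⟨P, hP, hPA⟩ := quat_flip A hA2
  refine isConj_iff.2 ⟨h.P 0 0 P, ?_⟩
  have hp : h.P 0 0 P * c.q₀ * (h.P 0 0 P)⁻¹ = c.q₀ * h.t := by
    rw [← e, Hyp.t, h.P0_inv, h.P0_mul, h.P0_mul, h.P0_mul, hPA]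
    simp
  rw [w₀, ← conj_mul, hp,
    ← c.Qu_comm_Q (c.r_mem_Qu c.q₀_spec.1) (h.mem_Q_of hP), mul_inv_cancel_right, mul_assoc,
    ← c.Qu_comm_t (c.r_mem_Qu c.q₀_spec.1), mul_assoc]
  simp only [mul_assoc]

/-- The noncentral involutions of `W` are conjugate to `w₀`. -/
theorem isConj_w₀ {A B : SL23} (hA : A * A = negOne) (hB : B * B = negOne) :
    IsConj c.w₀ (h.P 0 0 A * (c.r * h.P 0 0 B * c.r⁻¹)) := by
  obtain ⟨A₀, hA₀, e⟩ := c.q₀_spec.1
  have hA₀2 : A₀ * A₀ = negOne := by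
    have h1 := c.q₀_spec.2.1
    rw [← e, h.P0_mul, Hyp.t] at h1
    exact (h.inj _ _ _ _ _ _ h1).2.2
  obtain ⟨k, hk⟩ := quat_transitive A₀ hA₀2 A hA
  obtain ⟨l, hl⟩ := quat_transitive A₀ hA₀2 B hB
  set x := h.jj (0, l, k) with hx
  have hupp : ∀ m : ZMod 3, (upper m)⁻¹ = upper (-m) := by decide +kernel
  have hconj : ∀ (z m : ZMod 3) (X : SL23),
      h.jj (0, z, m) * h.P 0 0 X * (h.jj (0, z, m))⁻¹ = h.P 0 0 (upper m * X * upper (-m)) :=
    fun z m X => by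
      rw [h.jj_zk, h.P0_inv, h.P0_mul, h.P0_mul, hupp]
      simp
  have hq1 : x * c.q₀ * x⁻¹ = h.P 0 0 (upper k * A₀ * upper (-k)) := by rw [hx, ← e, hconj]
  have hq2 : x * (c.r * c.q₀ * c.r⁻¹) * x⁻¹ =
      c.r * h.P 0 0 (upper l * A₀ * upper (-l)) * c.r⁻¹ := by
    have hrx : c.r⁻¹ * x * c.r = h.jj (0, k, l) := by
      rw [c.r_inv]
      conv_lhs => arg 2; rw [← c.r_inv]
      exact c.r_conj _
    rw [← hconj k l, ← hrx, e]
    group
  have h1 : IsConj c.w₀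
      (h.P 0 0 (upper k * A₀ * upper (-k)) * (c.r * h.P 0 0 (upper l * A₀ * upper (-l)) * c.r⁻¹)) :=
    isConj_iff.2 ⟨x, by rw [w₀, ← conj_mul, hq1, hq2]⟩
  have hxt : x * h.t * x⁻¹ = h.t :=
    mul_inv_eq_iff_eq_mul.2 (by rw [hx, h.jj_zk]; exact (h.t_comm_P0 _ _).symm)
  have h2 : IsConj c.w₀
      (h.P 0 0 (upper k * A₀ * upper (-k)) * (c.r * h.P 0 0 (upper l * A₀ * upper (-l)) * c.r⁻¹) *
        h.t) :=
    c.isConj_w₀_t.trans (isConj_iff.2 ⟨x, by rw [w₀, ← conj_mul, ← conj_mul, hq1, hq2, hxt]⟩)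
  have hneg : ∀ X : SL23, h.P 0 0 (X * negOne) = h.P 0 0 X * h.t := fun X => by
    rw [Hyp.t, h.P0_mul, add_zero]
  have hrt : ∀ X : SL23, IsQ X → c.r * h.P 0 0 (X * negOne) * c.r⁻¹ =
      c.r * h.P 0 0 X * c.r⁻¹ * h.t := fun X _ => by
    rw [hneg, show c.r * (h.P 0 0 X * h.t) * c.r⁻¹ = c.r * h.P 0 0 X * c.r⁻¹ * (c.r * h.t * c.r⁻¹) by
      rw [conj_mul], show c.r * h.t * c.r⁻¹ = h.t from mul_inv_eq_iff_eq_mul.2 c.r_t]
  have hswap : ∀ u v : G, v * h.t = h.t * v → u * h.t * v = u * v * h.t := fun u v hv => by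
    rw [mul_assoc u, ← hv, mul_assoc]
  have hQl : IsQ (upper l * A₀ * upper (-l)) := Or.inr (by
    rw [show upper l * A₀ * upper (-l) * (upper l * A₀ * upper (-l)) =
      upper l * A₀ * (upper (-l) * upper l) * A₀ * upper (-l) by group, ← hupp, inv_mul_cancel,
      mul_one, mul_assoc _ A₀ A₀, hA₀2, hupp, ← negOne_conj, mul_assoc, upper_neg_inv, mul_one])
  have hut := c.Qu_comm_t (c.r_mem_Qu (h.mem_Q_of hQl))
  rcases hk with rfl | rfl <;> rcases hl with rfl | rfl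
  · exact h1
  · rw [hrt _ hQl, ← mul_assoc]; exact h2
  · rw [hneg, hswap _ _ hut]; exact h2
  · rw [hneg, hrt _ hQl, ← mul_assoc, hswap _ _ hut, mul_assoc _ h.t, h.t_sq, mul_one]; exact h1

/-- `t s` is conjugate to `t`. -/
theorem isConj_ts : IsConj h.t (h.t * c.s) := by
  obtain ⟨T, hT, hTf⟩ := exists_good_fTS
  obtain ⟨g, hg⟩ := h.exists_act_good c.hO hT
  set y := (g : G) * (h.t * c.s) * (g : G)⁻¹ with hy
  have hyH : y ∈ h.H :=
    h.H.mul_mem (h.H.mul_mem g.2 (h.H.mul_mem h.t_mem_H c.s_mem)) (h.H.inv_mem g.2)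
  have hya : ∀ p, h.act ⟨y, hyH⟩ p = fT p := by
    intro p
    have e : (⟨y, hyH⟩ : h.H) = g * ⟨_, h.H.mul_mem h.t_mem_H c.s_mem⟩ * g⁻¹ := Subtype.ext rfl
    rw [e, h.act_mul, h.act_mul, h.act_conj _ c.ts_conj, hg, hTf, ← hg, ← h.act_mul, mul_inv_cancel,
      h.act_one]
  set j := y * h.t with hj
  have hjJ : j ∈ h.J := h.mem_J_of_act (g := ⟨y, hyH⟩ * ⟨h.t, h.t_mem_H⟩) fun p => by
    rw [h.act_mul, h.act_conj h.t_mem_H t_conj', hya]
    exact (show ∀ p, fT (fT p) = p by decide +kernel) p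
  have hy2 : y * y = 1 := by
    rw [hy, conj_mul, show h.t * c.s * (h.t * c.s) = h.t * (c.s * h.t) * c.s by group, c.s_t,
      show h.t * (h.t * c.s) * c.s = (h.t * h.t) * (c.s * c.s) by group, h.t_sq, c.s_sq, one_mul,
      mul_one, mul_inv_cancel]
  have hjt : h.t * j * h.t = j⁻¹ := by
    rw [hj, _root_.mul_inv_rev, h.t_inv, inv_eq_of_mul_eq_one_right hy2,
      mul_assoc, mul_assoc y, h.t_sq, mul_one]
  have hj3 : j * j * j = 1 := by rw [← h.J_exp hjJ, pow_succ, pow_two]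
  have h1 : IsConj h.t y := by
    refine isConj_iff.2 ⟨j * j, ?_⟩
    have hjt' : h.t * j⁻¹ = j * h.t := by
      rw [← hjt, ← mul_assoc, ← mul_assoc, h.t_sq, one_mul]
    calc j * j * h.t * (j * j)⁻¹ = j * j * (h.t * j⁻¹) * j⁻¹ := by group
      _ = j * j * (j * h.t) * j⁻¹ := by rw [hjt']
      _ = j * j * j * (h.t * j⁻¹) := by group
      _ = y := by rw [hjt', hj3, one_mul, hj, mul_assoc, h.t_sq, mul_one]
  exact h1.trans (isConj_iff.2 ⟨(g : G)⁻¹, by rw [hy]; group⟩)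

/-- The involutions of `M` are conjugate to `t`, `s` or `w₀`. -/
theorem invol_M {x : G} (hx : x ∈ c.M) (hx2 : x * x = 1) (hx1 : x ≠ 1) :
    IsConj h.t x ∨ IsConj c.s x ∨ IsConj c.w₀ x := by
  rcases c.mem_M.1 hx with hw | hw
  · obtain ⟨_, ⟨A, hA, rfl⟩, y, hy, rfl⟩ := hw
    obtain ⟨B, hB, rfl⟩ := c.Qu_form hy
    have e0 : h.P 0 0 (A * A) * (c.r * h.P 0 0 (B * B) * c.r⁻¹) = 1 := by
      rw [← hx2, show h.P 0 0 A * (c.r * h.P 0 0 B * c.r⁻¹) * (h.P 0 0 A * (c.r * h.P 0 0 B * c.r⁻¹)) =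
        h.P 0 0 A * ((c.r * h.P 0 0 B * c.r⁻¹) * h.P 0 0 A) * (c.r * h.P 0 0 B * c.r⁻¹) by group,
        c.Qu_comm_Q hy (h.mem_Q_of hA)]
      rw [← add_zero (0 : ZMod 3), ← h.P0_mul, ← h.P0_mul, ← conj_mul, add_zero]
      group
    have hr1 : c.r * h.P 0 0 1 * c.r⁻¹ = 1 := by rw [h.P_one, mul_one, mul_inv_cancel]
    have hrn : c.r * h.P 0 0 negOne * c.r⁻¹ = h.t := mul_inv_eq_iff_eq_mul.2 c.r_t
    rcases hA with eA | eA <;> rcases hB with eB | eB <;> rw [eA, eB] at e0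
    · left
      rcases isQ_invol A (Or.inl eA) eA with rfl | rfl <;>
        rcases isQ_invol B (Or.inl eB) eB with rfl | rfl
      · exact absurd (by rw [hr1, h.P_one, one_mul]) hx1
      · rw [hrn, h.P_one, one_mul]
      · rw [hr1, mul_one]; exact IsConj.refl _
      · exact absurd (by rw [hrn]; exact h.t_sq) hx1
    · rw [h.P_one, one_mul, hrn] at e0
      exact absurd e0 h.t_ne_one
    · rw [hr1, mul_one] at e0
      exact absurd e0 h.t_ne_one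
    · exact Or.inr (Or.inr (c.isConj_w₀ eA eB))
  · obtain ⟨q, hq, y, hy, e⟩ := hw
    obtain rfl : x = q * y * c.s := by rw [← e, mul_assoc, c.s_sq, mul_one]
    set q' := c.s * q * c.s⁻¹ with hq'
    set y' := c.s * y * c.s⁻¹ with hy'
    have hq'u : q' ∈ c.Qu := c.s_Q hq
    have hy'Q : y' ∈ h.Q := by
      obtain ⟨_, ⟨B, hB, rfl⟩, rfl⟩ := c.exists_Q_of_Qu hy
      rw [hy', c.s_eq, show c.r * c.i * (c.r * h.P 0 0 B * c.r⁻¹) * (c.r * c.i)⁻¹ =
        c.r * (c.i * (c.r * h.P 0 0 B * c.r⁻¹) * c.i⁻¹) * c.r⁻¹ by group]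
      exact c.mem_Qu.1 (c.i_Qu (c.r_mem_Qu (h.mem_Q_of hB)))
    have e1 : (q * y') * (y * q') = 1 := by
      have : q * y * (q' * y') = 1 := by
        rw [← hx2, hq', hy', conj_mul, c.s_inv]
        simp only [mul_assoc]
      rw [← this, c.Qu_comm_Q hq'u hy'Q,
        show q * y * (y' * q') = q * (y * y') * q' by group, c.Qu_comm_Q hy hy'Q]
      group
    have hz := c.inter (mul_mem hq hy'Q) (by
      rw [eq_inv_of_mul_eq_one_left e1]
      exact inv_mem (mul_mem hy hq'u))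
    have hmain : ∀ z : G, c.s * z = z * c.s → q * z = z * q → q * y' = z →
        IsConj (z * c.s) (q * y * c.s) := by
      intro z hsz hqz e2
      refine isConj_iff.2 ⟨q, ?_⟩
      have hy0 : y = c.s⁻¹ * (q⁻¹ * z) * c.s := by
        rw [← e2, inv_mul_cancel_left, hy']; group
      rw [hy0, c.s_inv]
      calc q * (z * c.s) * q⁻¹ = q * z * c.s * q⁻¹ := by group
        _ = q * (c.s * z) * q⁻¹ := by rw [hsz]; group
        _ = q * c.s * (z * q⁻¹) := by group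
        _ = q * c.s * (q⁻¹ * z) := by rw [(show Commute q z from hqz).inv_left.eq]
        _ = q * (c.s * (q⁻¹ * z) * c.s) * c.s⁻¹ := by group
        _ = _ := by rw [c.s_inv]
    rcases hz with e2 | e2
    · exact Or.inr (Or.inl (by
        have := hmain 1 (by rw [one_mul, mul_one]) (by rw [one_mul, mul_one]) e2
        rwa [one_mul] at this))
    · exact Or.inl (c.isConj_ts.trans (hmain h.t c.s_t (h.Q_comm_t hq) e2))

include c in
/-- There is a subgroup of index two. -/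
theorem exists_index_two : ∃ K : Subgroup G, K.index = 2 := by
  by_contra hno
  push Not at hno
  obtain ⟨S, hS⟩ := c.exists_sylow_T
  have hr : orderOf c.r = 2 := orderOf_eq_prime (by rw [pow_two]; exact c.r_sq)
    (fun e => c.r_not_M (by rw [e]; exact one_mem _))
  obtain ⟨g, hg⟩ := Small.thompson_transfer_sylow hno S c.M (hS ▸ c.M_le_T) (hS ▸ c.relIndex_M) hr
  set x := g⁻¹ * c.r * g with hx
  have hx2 : x * x = 1 := by
    rw [hx, show g⁻¹ * c.r * g * (g⁻¹ * c.r * g) = g⁻¹ * (c.r * c.r) * g by group, c.r_sq, mul_one,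
      inv_mul_cancel]
  have hx1 : x ≠ 1 := fun e => by
    have h1 : c.r = 1 := by rw [show c.r = g * x * g⁻¹ by rw [hx]; group, e]; group
    exact c.r_not_M (h1 ▸ one_mem _)
  have hcx : IsConj c.r x := isConj_iff.2 ⟨g⁻¹, by rw [hx]; group⟩
  rcases c.invol_M hg hx2 hx1 with hc | hc | hc
  · obtain ⟨k, hk⟩ := isConj_iff.1 (hcx.trans hc.symm)
    exact c.r_not_t hk
  · obtain ⟨k, hk⟩ := isConj_iff.1 (hcx.trans hc.symm)
    exact c.r_not_s hk
  · obtain ⟨k, hk⟩ := isConj_iff.1 (hc.trans hcx.symm)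
    refine c.not_sixtyfour_dvd (c.sixtyfour_dvd_cent_w₀.trans ?_)
    have hle : (Subgroup.centralizer ({c.w₀} : Set G)).map (MulAut.conj k).toMonoidHom ≤
        Subgroup.centralizer ({c.r} : Set G) := by
      rintro _ ⟨y, hy, rfl⟩
      refine Subgroup.mem_centralizer_singleton_iff.2 ?_
      simp only [MulEquiv.coe_toMonoidHom, MulAut.conj_apply, ← hk]
      exact ((Commute.conj_iff k).2 (Subgroup.mem_centralizer_singleton_iff.1 hy)).eq
    have hinj : Function.Injective (MulAut.conj k).toMonoidHom := (MulAut.conj k).injective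
    rw [← Subgroup.card_map_of_injective hinj]
    exact Subgroup.card_dvd_of_le hle

end BCtx

namespace Hyp

/-- When the centralizer of `vc` normalizes `J` there is a subgroup of index two. -/
theorem exists_index_two_of_cent {G : Type*} [Group G] [Finite G] (h : Hyp G)
    (hO : ∀ p, h.O p ↔ p ∈ eight 0) (hv : h.Cv vc ≤ h.H) : ∃ K : Subgroup G, K.index = 2 := by
  obtain ⟨c⟩ := h.exists_bctx hO hv
  exact c.exists_index_two

end Hyp

end CfsgLib.Hayden48
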