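import Cfsg.Agent.Hayden48.TwoCent
import Cfsg.Agent.Coprime.Generation

/-!
# The 2-local structure of `N(⟨a⟩)` in the case `|Z| = 2`
-/

set_option autoImplicit false

namespace CfsgLib.Hayden48

open Matrix
open CfsgLib.HeisenbergSL (SL23 det2 upper negOne lower)

/-- The quaternion subgroup of `SL(2,3)`. -/
def IsQ (A : SL23) : Prop := A * A = 1 ∨ A * A = negOne

instance (A : SL23) : Decidable (IsQ A) := by unfold IsQ; infer_instance

theorem isQ_mul : ∀ A B : SL23, IsQ A → IsQ B → IsQ (A * B) := by decide +kernel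

theorem isQ_inv : ∀ A : SL23, IsQ A → IsQ A⁻¹ := by decide +kernel

theorem isQ_pow_four : ∀ A : SL23, IsQ A → A * A * (A * A) = 1 := by decide +kernel

theorem isQ_invol : ∀ A : SL23, IsQ A → A * A = 1 → A = 1 ∨ A = negOne := by decide +kernel

theorem isQ_of_two_power : ∀ A : SL23, A * A * (A * A) = 1 → IsQ A := by decide +kernel

theorem card_isQ : Fintype.card {A : SL23 // IsQ A} = 8 := by decide +kernel

theorem negOne_conj : ∀ A : SL23, negOne * A = A * negOne := by decide +kernel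

theorem exists_sl_conj : ∀ A : SL23, A * A * A = 1 →
    ∃ B : SL23, ∃ k : ZMod 3, B * A = upper k * B := by decide +kernel

theorem cube_of_odd : ∀ A : SL23, A * A * A = 1 → IsQ A → A = 1 := by decide +kernel

theorem sl_pow_nine : ∀ A : SL23, A * A * A * (A * A * A) * (A * A * A) = 1 → A * A * A = 1 := by
  decide +kernel

/-- Generators of the quaternion subgroup. -/
def quatI : SL23 := ⟨!![0, -1; 1, 0], by decide⟩

/-- Generators of the quaternion subgroup. -/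
def quatJ : SL23 := ⟨!![1, 1; 1, -1], by decide⟩

theorem isQ_quatI : IsQ quatI := by decide +kernel

theorem isQ_quatJ : IsQ quatJ := by decide +kernel

theorem cent_quat : ∀ A : SL23, A * quatI = quatI * A → A * quatJ = quatJ * A →
    A = 1 ∨ A = negOne := by decide +kernel

theorem no_comm_Q : ∀ a b c d : ZMod 3, a * d - b * c = -1 →
    !![a, b; c, d] * !![0, -1; 1, 0] = !![0, -1; 1, 0] * !![a, b; c, d] →
    !![a, b; c, d] * !![1, 1; 1, -1] = !![1, 1; 1, -1] * !![a, b; c, d] → False := by decide +kernel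

theorem no_four : ∀ a b c d : ZMod 3, a * d - b * c = -1 →
    !![a, b; c, d] * !![a, b; c, d] = (-1 : Matrix (Fin 2) (Fin 2) (ZMod 3)) → False := by
  decide +kernel

theorem fix_point : ∀ a b c d : ZMod 3, (a * d - b * c = -1 ∧
    a * a + b * c = 1 ∧ (a + d) * b = 0 ∧ (a + d) * c = 0 ∧ d * d + b * c = 1) →
      ∃ x y : ZMod 3, (x ≠ 0 ∨ y ≠ 0) ∧ a * x + b * y = x ∧ c * x + d * y = y := by decide +kernel

theorem fix_card : ∀ a b c d : ZMod 3, a * d - b * c = -1 →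
    Fintype.card {w : Fin 2 → ZMod 3 // !![a, b; c, d] *ᵥ w = w} ≤ 3 := by decide +kernel

theorem no_unipotent : ∀ a b c d p q r s : ZMod 3, p * s - q * r = 1 →
    !![p, q; r, s] * !![p, q; r, s] * !![p, q; r, s] = (1 : Matrix (Fin 2) (Fin 2) (ZMod 3)) →
    !![a, b; c, d] * !![p, q; r, s] = !![p, q; r, s] * !![a, b; c, d] →
    a * d - b * c = -1 → !![p, q; r, s] = (1 : Matrix (Fin 2) (Fin 2) (ZMod 3)) := by decide +kernel

theorem v2_decomp : ∀ u : Fin 2 → ZMod 3, u = u 0 • ![1, 0] + u 1 • ![0, 1] := by decide +kernel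

theorem isQ_conj_upper : ∀ B : SL23, IsQ B → ∀ k : ZMod 3, IsQ (upper (-k) * B * upper k) := by
  decide +kernel

theorem det2_neg_self : ∀ u : Fin 2 → ZMod 3, - det2 u (-u) = 0 := by decide +kernel

theorem neg_self_v2 : ∀ u : Fin 2 → ZMod 3, -u = u → u = 0 := by decide +kernel

namespace Hyp

variable {G : Type*} [Group G] (h : Hyp G)

/-- The subgroup `Q₈` of `C(a)`. -/
def Q : Subgroup G where
  carrier := {g | ∃ A, IsQ A ∧ h.P 0 0 A = g}
  one_mem' := ⟨1, Or.inl (one_mul 1), h.P_one⟩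
  mul_mem' := by
    rintro _ _ ⟨A, hA, rfl⟩ ⟨B, hB, rfl⟩
    exact ⟨A * B, isQ_mul A B hA hB, by rw [h.mul]; simp [det2]⟩
  inv_mem' := by
    rintro _ ⟨A, hA, rfl⟩
    refine ⟨A⁻¹, isQ_inv A hA, eq_inv_of_mul_eq_one_right ?_⟩
    rw [h.mul, mul_inv_cancel, ← h.P_one]
    simp [det2]

theorem mem_Q_iff {v : Fin 2 → ZMod 3} {z : ZMod 3} {A : SL23} :
    h.P v z A ∈ h.Q ↔ v = 0 ∧ z = 0 ∧ IsQ A := by
  constructor
  · rintro ⟨B, hB, e⟩
    obtain ⟨rfl, rfl, rfl⟩ := h.inj _ _ _ _ _ _ e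
    exact ⟨rfl, rfl, hB⟩
  · rintro ⟨rfl, rfl, hA⟩
    exact ⟨A, hA, rfl⟩

theorem Q_comm_a {g : G} (hg : g ∈ h.Q) : g * h.a = h.a * g := by
  obtain ⟨A, -, rfl⟩ := hg
  exact h.P_comm_a _ _ _

theorem card_Q : Nat.card h.Q = 8 := by
  rw [← card_isQ, ← Nat.card_eq_fintype_card]
  exact (Nat.card_congr (Equiv.ofBijective
    (fun A : {A : SL23 // IsQ A} => (⟨h.P 0 0 A, A, A.2, rfl⟩ : h.Q))
    ⟨fun A B e => Subtype.ext (h.inj _ _ _ _ _ _ (congrArg Subtype.val e)).2.2,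
     fun g => by
      obtain ⟨A, hA, e⟩ := g.2
      exact ⟨⟨A, hA⟩, Subtype.ext e⟩⟩)).symm

theorem t_mem_Q : h.t ∈ h.Q := ⟨negOne, Or.inl (by decide +kernel), rfl⟩

theorem Q_invol {g : G} (hg : g ∈ h.Q) (h2 : g * g = 1) : g = 1 ∨ g = h.t := by
  obtain ⟨A, hA, rfl⟩ := hg
  rw [h.mul, ← h.P_one] at h2
  rcases isQ_invol A hA (h.inj _ _ _ _ _ _ h2).2.2 with e | e <;> rw [e]
  · exact Or.inl h.P_one
  · exact Or.inr rfl

theorem Q_pow_four {g : G} (hg : g ∈ h.Q) : g ^ 4 = 1 := by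
  obtain ⟨A, hA, rfl⟩ := hg
  rw [show (4 : ℕ) = 2 + 2 by norm_num, pow_add, pow_two, h.mul, h.mul, isQ_pow_four A hA, ← h.P_one]
  simp [det2]

theorem P_zero_conj (B A : SL23) (v : Fin 2 → ZMod 3) (z : ZMod 3) (C : SL23) (e : B * A = C * B) :
    h.P 0 0 B * h.P v z A = h.P (B.1 *ᵥ v) z C * h.P 0 0 B := by
  rw [h.mul, h.mul, e]
  simp [det2]

theorem P_conj_R (v : Fin 2 → ZMod 3) (z : ZMod 3) (A : SL23) (u : Fin 2 → ZMod 3) :
    ∃ y, h.P v z A * h.P u 0 1 = h.P (A.1 *ᵥ u) y 1 * h.P v z A := by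
  refine ⟨- det2 v (A.1 *ᵥ u) + det2 (A.1 *ᵥ u) v, ?_⟩
  rw [h.mul, h.mul]
  simp only [mul_one, one_mul, Matrix.SpecialLinearGroup.coe_one, Matrix.one_mulVec, add_comm v]
  congr 1
  ring

theorem a_pow (z : ℕ) : h.a ^ z = h.P 0 (z : ZMod 3) 1 := by
  induction z with
  | zero => simpa using h.P_one.symm
  | succ z ih =>
    rw [pow_succ, ih, ← h.a_eq, h.mul]
    simp [det2]

theorem P_vert (z : ZMod 3) : h.P 0 z 1 ∈ Subgroup.zpowers h.a :=
  Subgroup.mem_zpowers_iff.2 ⟨(z.val : ℤ), by rw [zpow_natCast, h.a_pow, ZMod.natCast_zmod_val]⟩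

theorem P_split (v : Fin 2 → ZMod 3) (z : ZMod 3) (A : SL23) :
    h.P v z A = h.P v z 1 * h.P 0 0 A := by
  rw [h.mul]
  simp [det2]

/-- A subgroup containing the elements of order three of `C` contains `C`. -/
theorem C_le {K : Subgroup G} (hK : ∀ g, g * h.a = h.a * g → g ^ 3 = 1 → g ∈ K) {g : G}
    (hg : g * h.a = h.a * g) : g ∈ K := by
  obtain ⟨v, z, A, rfl⟩ := (h.mem_cent g).1 hg
  rw [h.P_split]
  refine mul_mem (hK _ (h.P_comm_a _ _ _) ?_) ?_
  · rw [pow_succ', pow_two, h.mul, h.mul, ← h.P_one]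
    have h3 : v + (v + v) = 0 := (show ∀ u : Fin 2 → ZMod 3, u + (u + u) = 0 by decide +kernel) v
    have hz : ∀ z : ZMod 3, z + (z + z) = 0 := by decide
    simp [h3, det2, hz z]
    ring_nf
    rw [show (3 : ZMod 3) = 0 by decide, mul_zero]
  · have hgen : ∀ B : SL23, B * B * B = 1 → h.P 0 0 B ∈ K := fun B hB => by
      refine hK _ (h.P_comm_a _ _ _) ?_
      rw [pow_succ', pow_two, h.mul, h.mul, ← mul_assoc, hB, ← h.P_one]
      simp [det2]
    obtain ⟨x, y, z', w, e1, e2, e3, e4⟩ := HeisenbergSL.word_entries (A.1 0 0) (A.1 0 1) (A.1 1 0)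
      (A.1 1 1) (by rw [← Matrix.det_fin_two, A.2])
    have hA : A = upper x * lower y * upper z' * lower w := by
      refine Subtype.ext ?_
      show A.1 = !![1, x; 0, 1] * !![1, 0; y, 1] * !![1, z'; 0, 1] * !![1, 0; w, 1]
      conv_lhs => rw [Matrix.eta_fin_two A.1, ← e1, ← e2, ← e3, ← e4]
      rw [Matrix.mul_fin_two, Matrix.mul_fin_two, Matrix.mul_fin_two]
      ext i j
      fin_cases i <;> fin_cases j <;> simp <;> ring
    have hm : ∀ B B' : SL23, h.P 0 0 (B * B') = h.P 0 0 B * h.P 0 0 B' := fun B B' => by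
      rw [h.mul]; simp [det2]
    rw [hA, hm, hm, hm]
    exact mul_mem (mul_mem (mul_mem (hgen _ ((show ∀ k, upper k * upper k * upper k = 1 by decide +kernel) x))
      (hgen _ ((show ∀ k, lower k * lower k * lower k = 1 by decide +kernel) y)))
      (hgen _ ((show ∀ k, upper k * upper k * upper k = 1 by decide +kernel) z')))
      (hgen _ ((show ∀ k, lower k * lower k * lower k = 1 by decide +kernel) w))

theorem t_conj_R (u : Fin 2 → ZMod 3) (z : ZMod 3) : h.t * h.P u z 1 * h.t = h.P (-u) z 1 := by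
  rw [Hyp.t, h.mul, h.mul]
  simp [det2, show negOne.1 = -1 by decide +kernel, show negOne * negOne = (1 : SL23) by decide +kernel]
  congr 1
  ext i
  fin_cases i <;> rfl

end Hyp

namespace TwoCtx

variable {G : Type*} [Group G] [Finite G] {h : Hyp G} (c : TwoCtx h)

/-- The normalizer of `⟨a⟩`. -/
abbrev N (_c : TwoCtx h) : Subgroup G := Subgroup.normalizer (Subgroup.zpowers h.a : Set G)

include c

theorem cent_a_le_N {g : G} (hg : g * h.a = h.a * g) : g ∈ c.N := by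
  refine Subgroup.mem_normalizer_fintype fun x hx => ?_
  obtain ⟨k, rfl⟩ := Subgroup.mem_zpowers_iff.1 hx
  rw [← conj_zpow, hg, mul_inv_cancel_right]
  exact zpow_mem (Subgroup.mem_zpowers _) k

/-- The centralizer of a nontrivial element of `J` lies in `N`. -/
theorem cent_le_N {x g : G} (hx : x ∈ h.J) (hx1 : x ≠ 1) (hg : g * x = x * g) : g ∈ c.N := by
  by_cases hxa : x ∈ Subgroup.zpowers h.a
  · refine c.cent_a_le_N ?_
    rcases PSpAmalgam84.zpowers_three h.orderOf_a hxa with e | e | e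
    · exact absurd e hx1
    · rwa [e] at hg
    · rw [e] at hg
      exact Commute.inv_right_iff.1 hg
  · exact c.H_le_N (c.cent_le_H hx hxa hg)

theorem comm_a_of_cube {x : G} (hx : x ∈ c.N) (h3 : x ^ 3 = 1) : x * h.a = h.a * x :=
  comm_of_cube h.orderOf_a h3 ((Subgroup.mem_normalizer_iff.1 hx h.a).1 (Subgroup.mem_zpowers _))

/-- Elements of order three of `N` are conjugate in `N` into `J`. -/
theorem exists_conj_J {x : G} (hx : x ∈ c.N) (h3 : x ^ 3 = 1) :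
    ∃ n ∈ c.N, n * x * n⁻¹ ∈ h.J := by
  obtain ⟨v, z, A, rfl⟩ := (h.mem_cent x).1 (c.comm_a_of_cube hx h3)
  have h3' := h3
  rw [pow_succ', pow_two, h.mul, h.mul, ← h.P_one] at h3'
  obtain ⟨B, k, hBA⟩ := exists_sl_conj A (by rw [mul_assoc]; exact (h.inj _ _ _ _ _ _ h3').2.2)
  set n₁ := h.P 0 0 B with hn₁
  have e : n₁ * h.P v z A * n₁⁻¹ = h.P (B.1 *ᵥ v) z (upper k) :=
    mul_inv_eq_iff_eq_mul.2 (h.P_zero_conj B A v z _ hBA)
  have hn₁N : n₁ ∈ c.N := c.cent_a_le_N (h.P_comm_a _ _ _)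
  have e3 : h.P (B.1 *ᵥ v) z (upper k) ^ 3 = 1 := by rw [← e, conj_pow, h3, mul_one, mul_inv_cancel]
  rcases h.S_cube e3 with rfl | hJ
  · rw [upper_zero] at e
    by_cases hv0 : B.1 *ᵥ v = 0
    · refine ⟨n₁, hn₁N, ?_⟩
      rw [e, hv0]
      exact h.za_le_J (h.P_vert z)
    · set w := B.1 *ᵥ v with hw
      obtain ⟨p, q, r, s, hd, hm⟩ := exists_sl_map (w 0) (w 1) (by
        intro hc
        exact hv0 ((show w = ![w 0, w 1] by ext i; fin_cases i <;> rfl).trans hc))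
      let A' : SL23 := ⟨!![p, q; r, s], by rw [Matrix.det_fin_two]; simpa using hd⟩
      refine ⟨h.P 0 0 A' * n₁, c.N.mul_mem (c.cent_a_le_N (h.P_comm_a _ _ _)) hn₁N, ?_⟩
      have e' := h.P_zero_conj A' 1 w z 1 (by rw [mul_one, one_mul])
      have hA' : A'.1 *ᵥ w = ![1, 0] := by
        rw [show w = ![w 0, w 1] by ext i; fin_cases i <;> rfl]
        exact hm
      rw [show h.P 0 0 A' * n₁ * h.P v z A * (h.P 0 0 A' * n₁)⁻¹ =
        h.P 0 0 A' * (n₁ * h.P v z A * n₁⁻¹) * (h.P 0 0 A')⁻¹ by group, e,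
        mul_inv_eq_iff_eq_mul.2 e', hA', ← upper_zero]
      exact h.jj_mem (1, z, 0)
  · exact ⟨n₁, hn₁N, e ▸ hJ⟩

/-- `N` is strongly 3-embedded. -/
theorem se {x g : G} (hx : x ∈ c.N) (h3 : x ^ 3 = 1) (hx1 : x ≠ 1) (hgx : g * x * g⁻¹ ∈ c.N) :
    g ∈ c.N := by
  obtain ⟨n₁, hn₁, hj₁⟩ := c.exists_conj_J hx h3
  obtain ⟨n₂, hn₂, hj₂⟩ := c.exists_conj_J hgx
    (by rw [conj_pow, h3, mul_one, mul_inv_cancel])
  set g' := n₂ * g * n₁⁻¹ with hg'
  have e : g' * (n₁ * x * n₁⁻¹) * g'⁻¹ = n₂ * (g * x * g⁻¹) * n₂⁻¹ := by rw [hg']; group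
  obtain ⟨k, hk, hkk⟩ := h.fusion hj₁ (g := g') (e ▸ hj₂)
  have hc : k⁻¹ * g' * (n₁ * x * n₁⁻¹) = n₁ * x * n₁⁻¹ * (k⁻¹ * g') := by
    calc k⁻¹ * g' * (n₁ * x * n₁⁻¹) = k⁻¹ * (g' * (n₁ * x * n₁⁻¹) * g'⁻¹) * g' := by group
      _ = k⁻¹ * (k * (n₁ * x * n₁⁻¹) * k⁻¹) * g' := by rw [hkk]
      _ = _ := by group
  have hm := c.cent_le_N hj₁ (fun e0 => hx1 (conj_eq_one_iff.1 e0)) hc
  have := c.N.mul_mem (c.N.mul_mem (c.N.mul_mem (c.N.inv_mem hn₂) (c.H_le_N hk)) hm) hn₁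
  rwa [show n₂⁻¹ * k * (k⁻¹ * g') * n₁ = g by rw [hg']; group] at this

/-- A 3-subgroup meeting `N` nontrivially lies in `N`. -/
theorem threeGroup_le_N {T : Subgroup G} (hT : IsPGroup 3 T) {x : G} (hxT : x ∈ T) (hxN : x ∈ c.N)
    (h3 : x ^ 3 = 1) (hx1 : x ≠ 1) : T ≤ c.N := by
  haveI : Fact (Nat.Prime 3) := ⟨Nat.prime_three⟩
  haveI : Nontrivial T := ⟨⟨⟨x, hxT⟩, 1, fun e => hx1 (congrArg Subtype.val e)⟩⟩
  haveI := hT.center_nontrivial
  have hdvd : 3 ∣ Nat.card (Subgroup.center T) := by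
    obtain ⟨k, hk⟩ := IsPGroup.iff_card.1 (hT.to_subgroup (Subgroup.center T))
    rcases Nat.eq_zero_or_pos k with rfl | hk0
    · rw [pow_zero] at hk
      exact absurd hk (Finite.one_lt_card (α := Subgroup.center T)).ne'
    · exact hk ▸ dvd_pow_self 3 hk0.ne'
  obtain ⟨z, hz⟩ := exists_prime_orderOf_dvd_card' 3 hdvd
  have hz' : orderOf ((z : T) : G) = 3 := by rw [Subgroup.orderOf_coe, Subgroup.orderOf_coe, hz]
  have hzc : ∀ y ∈ T, y * ((z : T) : G) = ((z : T) : G) * y := fun y hy =>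
    congrArg Subtype.val (Subgroup.mem_center_iff.1 z.2 ⟨y, hy⟩)
  have hzN : ((z : T) : G) ∈ c.N := c.se hxN h3 hx1 (g := ((z : T) : G))
    (by rwa [← hzc x hxT, mul_inv_cancel_right])
  have hz3 : ((z : T) : G) ^ 3 = 1 := hz' ▸ pow_orderOf_eq_one _
  intro y hy
  refine c.se hzN hz3 (fun e => ?_) (g := y) (by rwa [hzc y hy, mul_inv_cancel_right])
  rw [e, orderOf_one] at hz'
  norm_num at hz'

theorem i_mem_N : c.i ∈ c.N := c.H_le_N c.i_mem_H

/-- The action of an element inverting `a` and commuting with `t` on `R / Z`. -/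
theorem exists_L {g : G} (hga : g * h.a * g⁻¹ = h.a⁻¹) (hgt : g * h.t = h.t * g) :
    ∃ l : Matrix (Fin 2) (Fin 2) (ZMod 3), l 0 0 * l 1 1 - l 0 1 * l 1 0 = -1 ∧
      ∀ u z, g * h.P u z 1 * g⁻¹ = h.P (l *ᵥ u) (-z) 1 := by
  have hkey : ∀ u, ∃ w, g * h.P u 0 1 * g⁻¹ = h.P w 0 1 := by
    intro u
    have hinv : h.t * h.P u 0 1 * h.t⁻¹ = (h.P u 0 1)⁻¹ := by
      refine eq_inv_of_mul_eq_one_right ?_
      rw [inv_eq_of_mul_eq_one_right h.t_sq, h.t_conj_R, h.mul, Matrix.SpecialLinearGroup.coe_one,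
        Matrix.one_mulVec, add_neg_cancel, one_mul, add_zero, ← h.P_one]
      congr 1
      rw [zero_sub]
      exact det2_neg_self u
    have h3 : h.P u 0 1 ^ 3 = 1 := by
      rw [pow_succ', pow_two, h.mul, h.mul, ← h.P_one]
      simp [det2, (show ∀ u : Fin 2 → ZMod 3, u + (u + u) = 0 by decide +kernel) u]
      ring
    have hc : g * h.P u 0 1 * g⁻¹ * h.a = h.a * (g * h.P u 0 1 * g⁻¹) := by
      have h1 : Commute (g * h.P u 0 1 * g⁻¹) (g * h.a * g⁻¹) := (Commute.conj_iff g).2 (h.P_comm_a _ _ _)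
      rw [hga] at h1
      exact Commute.inv_right_iff.1 h1
    obtain ⟨w, z, A, hP⟩ := (h.mem_cent _).1 hc
    have e3 : h.P w z A ^ 3 = 1 := by rw [hP, conj_pow, h3, mul_one, mul_inv_cancel]
    have ei : h.t * h.P w z A * h.t⁻¹ * h.P w z A = 1 := by
      rw [hP]
      calc h.t * (g * h.P u 0 1 * g⁻¹) * h.t⁻¹ * (g * h.P u 0 1 * g⁻¹)
          = (h.t * g) * h.P u 0 1 * (h.t * g)⁻¹ * (g * h.P u 0 1 * g⁻¹) := by group
        _ = g * (h.t * h.P u 0 1 * h.t⁻¹ * h.P u 0 1) * g⁻¹ := by rw [← hgt]; group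
        _ = 1 := by rw [hinv, inv_mul_cancel, mul_one, mul_inv_cancel]
    rw [inv_eq_of_mul_eq_one_right h.t_sq, Hyp.t, h.mul, h.mul, h.mul, ← h.P_one] at ei
    obtain ⟨-, ez, eA⟩ := h.inj _ _ _ _ _ _ ei
    rw [pow_succ', pow_two, h.mul, h.mul, ← h.P_one] at e3
    obtain ⟨-, -, eA3⟩ := h.inj _ _ _ _ _ _ e3
    rw [negOne_conj, mul_assoc A, show negOne * negOne = (1 : SL23) by decide +kernel, mul_one] at eA
    have hA1 : A = 1 := by rwa [eA, mul_one] at eA3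
    subst hA1
    refine ⟨w, ?_⟩
    rw [← hP]
    simp [det2, show negOne.1 = -1 by decide +kernel] at ez
    have hz : z = 0 := (show ∀ z : ZMod 3, z + z = 0 → z = 0 by decide) z (by linear_combination ez)
    rw [hz]
  choose f hf using hkey
  have hpz : ∀ z, g * h.P 0 z 1 * g⁻¹ = h.P 0 (-z) 1 := fun z => by
    rw [← ZMod.natCast_zmod_val z, ← h.a_pow, ← conj_pow, hga, inv_pow]
    refine inv_eq_of_mul_eq_one_right ?_
    rw [h.a_pow, h.mul, ← h.P_one]
    simp [det2]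
  have hgen : ∀ u z, g * h.P u z 1 * g⁻¹ = h.P (f u) (-z) 1 := fun u z => by
    rw [show h.P u z 1 = h.P u 0 1 * h.P 0 z 1 by rw [h.mul]; simp [det2], ← conj_mul, hf, hpz,
      h.mul]
    simp [det2]
  have hadd : ∀ u w, f (u + w) = f u + f w ∧ det2 (f u) (f w) = - det2 u w := by
    intro u w
    have e0 : ∀ u w : Fin 2 → ZMod 3, h.P u 0 1 * h.P w 0 1 = h.P (u + w) (- det2 u w) 1 := fun u w => by
      rw [h.mul, Matrix.SpecialLinearGroup.coe_one, Matrix.one_mulVec, one_mul, add_zero, zero_sub]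
    have e : h.P (f u + f w) (- det2 (f u) (f w)) 1 = h.P (f (u + w)) (- - det2 u w) 1 := by
      rw [← e0, ← hf, ← hf, ← hgen, ← e0, conj_mul]
    obtain ⟨e1, e2, -⟩ := h.inj _ _ _ _ _ _ e
    exact ⟨e1.symm, by linear_combination -e2⟩
  refine ⟨!![f ![1, 0] 0, f ![0, 1] 0; f ![1, 0] 1, f ![0, 1] 1], ?_, fun u z => ?_⟩
  · have := (hadd ![1, 0] ![0, 1]).2
    simp [det2] at this ⊢
    linear_combination this
  · rw [hgen]
    congr 1
    conv_lhs => rw [v2_decomp u]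
    show AddMonoidHom.mk' f (fun a b => (hadd a b).1) _ = _
    rw [map_add, ZMod.map_smul, ZMod.map_smul]
    funext i
    fin_cases i <;> simp [Matrix.mulVec, dotProduct] <;> ring

/-- Commuting with an element of `C` intertwines the action. -/
theorem L_comm {g : G} {l : Matrix (Fin 2) (Fin 2) (ZMod 3)}
    (hl : ∀ u z, g * h.P u z 1 * g⁻¹ = h.P (l *ᵥ u) (-z) 1) {v : Fin 2 → ZMod 3} {z : ZMod 3}
    {A : SL23} (hc : g * h.P v z A = h.P v z A * g) : l * A.1 = A.1 * l := by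
  refine Matrix.ext_of_mulVec_single fun i => ?_
  set u := Pi.single (M := fun _ : Fin 2 => ZMod 3) i 1
  obtain ⟨y, hy⟩ := h.P_conj_R v z A u
  obtain ⟨y', hy'⟩ := h.P_conj_R v z A (l *ᵥ u)
  have e : h.P (l *ᵥ (A.1 *ᵥ u)) (-y) 1 * h.P v z A = h.P (A.1 *ᵥ (l *ᵥ u)) y' 1 * h.P v z A := by
    have h0 : h.P (l *ᵥ u) 0 1 = g * h.P u 0 1 * g⁻¹ := by rw [hl, neg_zero]
    rw [← hl, ← hy', h0]
    calc g * h.P (A.1 *ᵥ u) y 1 * g⁻¹ * h.P v z A
        = g * (h.P (A.1 *ᵥ u) y 1 * h.P v z A) * g⁻¹ := by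
          rw [mul_assoc _ g⁻¹, (show Commute g (h.P v z A) from hc).inv_left.eq]; group
      _ = g * (h.P v z A * h.P u 0 1) * g⁻¹ := by rw [hy]
      _ = h.P v z A * (g * h.P u 0 1 * g⁻¹) := by rw [← mul_assoc g, hc]; group
  rw [← Matrix.mulVec_mulVec, ← Matrix.mulVec_mulVec]
  exact (h.inj _ _ _ _ _ _ (mul_right_cancel e)).1

/-- No element inverting `a` centralizes `Q`. -/
theorem comm_a_of_cent_Q {g : G} (hg : g ∈ c.N) (hgQ : ∀ q ∈ h.Q, g * q = q * g) :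
    g * h.a = h.a * g := by
  rcases PSpAmalgam84.zpowers_three h.orderOf_a
    ((Subgroup.mem_normalizer_iff.1 hg h.a).1 (Subgroup.mem_zpowers _)) with e | e | e
  · have := conj_eq_one_iff.1 e
    rw [this, mul_one, one_mul]
  · exact mul_inv_eq_iff_eq_mul.1 e
  · exfalso
    obtain ⟨l, hd, hl⟩ := c.exists_L e (hgQ _ h.t_mem_Q)
    have h1 := c.L_comm hl (hgQ _ ⟨_, isQ_quatI, rfl⟩)
    have h2 := c.L_comm hl (hgQ _ ⟨_, isQ_quatJ, rfl⟩)
    rw [Matrix.eta_fin_two l] at h1 h2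
    exact no_comm_Q _ _ _ _ hd h1 h2

/-- An element of `N` centralizing `Q` lies in `⟨a⟩ × ⟨t⟩`. -/
theorem cent_Q_in_N {g : G} (hg : g ∈ c.N) (hgQ : ∀ q ∈ h.Q, g * q = q * g) :
    ∃ z A, g = h.P 0 z A ∧ (A = 1 ∨ A = negOne) := by
  obtain ⟨v, z, A, rfl⟩ := (h.mem_cent g).1 (c.comm_a_of_cent_Q hg hgQ)
  have hall : ∀ B : SL23, IsQ B → A * B = B * A ∧ v = B.1 *ᵥ v := fun B hB => by
    have e := hgQ _ ⟨B, hB, rfl⟩
    rw [h.mul, h.mul] at e
    obtain ⟨e1, -, e3⟩ := h.inj _ _ _ _ _ _ e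
    exact ⟨e3, by simpa using e1⟩
  have hv : v = 0 := neg_self_v2 v (by
    have := (hall negOne (Or.inl (by decide +kernel))).2
    rw [show negOne.1 = -1 by decide +kernel, Matrix.neg_mulVec, Matrix.one_mulVec] at this
    exact this.symm)
  subst hv
  exact ⟨z, A, rfl, cent_quat A (hall _ isQ_quatI).1 (hall _ isQ_quatJ).1⟩

theorem cube_cent_Q {g : G} (hg : g ∈ c.N) (hgQ : ∀ q ∈ h.Q, g * q = q * g) (h3 : g ^ 3 = 1) :
    g ∈ Subgroup.zpowers h.a := by
  obtain ⟨z, A, rfl, hA⟩ := c.cent_Q_in_N hg hgQ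
  rw [pow_succ', pow_two, h.mul, h.mul, ← h.P_one] at h3
  have e := (h.inj _ _ _ _ _ _ h3).2.2
  rcases hA with rfl | rfl
  · exact h.P_vert z
  · exact absurd e (by decide +kernel)

/-- The centralizer of `Q` lies in `N`. -/
theorem cent_Q_le_N : Subgroup.centralizer (h.Q : Set G) ≤ c.N := by
  haveI : Fact (Nat.Prime 3) := ⟨Nat.prime_three⟩
  set X := Subgroup.centralizer (h.Q : Set G) with hX
  have hXQ : ∀ g ∈ X, ∀ q ∈ h.Q, g * q = q * g := fun g hg q hq =>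
    (Subgroup.mem_centralizer_iff.1 hg q hq).symm
  have haX : h.a ∈ X := Subgroup.mem_centralizer_iff.2 fun q hq => h.Q_comm_a hq
  have haN : h.a ∈ c.N := c.cent_a_le_N rfl
  have haX' : orderOf (⟨h.a, haX⟩ : X) = 3 := by rw [Subgroup.orderOf_mk, h.orderOf_a]
  set A₀ := Subgroup.zpowers (⟨h.a, haX⟩ : X) with hA₀
  obtain ⟨T, hT⟩ := (IsPGroup.of_card (p := 3) (n := 1)
    (by rw [Nat.card_zpowers, haX', pow_one]) : IsPGroup 3 A₀).exists_le_sylow
  have hTN : ∀ t ∈ (T : Subgroup X), (t : G) ∈ c.N := fun t ht =>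
    c.threeGroup_le_N (T.isPGroup'.map X.subtype)
      (x := h.a) ⟨⟨h.a, haX⟩, hT (Subgroup.mem_zpowers _), rfl⟩ haN (h.J_exp h.a_mem)
      (fun e => by
        have := h.orderOf_a
        rw [e, orderOf_one] at this
        norm_num at this) ⟨t, ht, rfl⟩
  have hTa : (T : Subgroup X) = A₀ := by
    refine le_antisymm (fun t ht => ?_) hT
    obtain ⟨z, A, e, hA⟩ := c.cent_Q_in_N (hTN t ht) (hXQ _ t.2)
    have hA1 : A = 1 := by
      refine hA.resolve_right fun hneg => ?_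
      subst hneg
      obtain ⟨k, hk⟩ := T.isPGroup' ⟨t, ht⟩
      have hodd : ∀ n, Odd n → ∃ y, (t : G) ^ n = h.P 0 y negOne := by
        rintro _ ⟨n, rfl⟩
        induction n with
        | zero => exact ⟨z, by simpa using e⟩
        | succ n ih =>
          obtain ⟨y, hy⟩ := ih
          refine ⟨y + z + z, ?_⟩
          rw [show 2 * (n + 1) + 1 = (2 * n + 1) + 1 + 1 by ring, pow_succ, pow_succ, hy, e, h.mul,
            h.mul]
          simp [det2, show negOne * negOne * negOne = (negOne : SL23) by decide +kernel]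
      obtain ⟨y, hy⟩ := hodd (3 ^ k) (Odd.pow (by decide))
      rw [show (t : G) ^ 3 ^ k = 1 from congrArg (fun x : (T : Subgroup X) => ((x : X) : G)) hk,
        ← h.P_one] at hy
      exact absurd (h.inj _ _ _ _ _ _ hy).2.2 (by decide +kernel)
    subst hA1
    obtain ⟨i, hi⟩ := Subgroup.mem_zpowers_iff.1 (h.P_vert z)
    exact Subgroup.mem_zpowers_iff.2 ⟨i, Subtype.ext (by simp [hi, e])⟩
  have hcen : Subgroup.normalizer (T : Set X) ≤ Subgroup.centralizer (T : Set X) := by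
    intro y hy
    have hyN : (y : G) ∈ c.N := by
      refine c.se haN (h.J_exp h.a_mem) (fun e => ?_) (g := (y : G)) ?_
      · have := h.orderOf_a
        rw [e, orderOf_one] at this
        norm_num at this
      · exact hTN _ ((Subgroup.mem_normalizer_iff.1 hy ⟨h.a, haX⟩).1 (hT (Subgroup.mem_zpowers _)))
    have hya := c.comm_a_of_cent_Q hyN (hXQ _ y.2)
    refine Subgroup.mem_centralizer_iff.2 fun q hq => ?_
    have hq' : q ∈ A₀ := hTa ▸ hq
    obtain ⟨i, rfl⟩ := Subgroup.mem_zpowers_iff.1 hq'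
    exact ((show Commute y (⟨h.a, haX⟩ : X) from Subtype.ext hya).zpow_right i).eq.symm
  have hcompl := MonoidHom.ker_transferSylow_isComplement' T hcen
  have hnorm := MonoidHom.normal_ker (MonoidHom.transferSylow T hcen)
  generalize (MonoidHom.transferSylow T hcen).ker = W at hcompl hnorm
  have hco : ¬ 3 ∣ Nat.card W := by
    rw [← hcompl.index_eq_card]
    exact T.not_dvd_index
  set W' := (Cfsg.pPrimeCore 3 X).map X.subtype with hW'
  have hWW' : W.map X.subtype ≤ W' := Subgroup.map_mono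
    (SelfCentralizing.le_core (S := W) 3 hnorm
      (Nat.Coprime.symm ((Nat.Prime.coprime_iff_not_dvd Nat.prime_three).2 hco)))
  let A9 : Subgroup G :=
    { carrier := {g | ∃ z k, h.jj (0, z, k) = g}
      one_mem' := ⟨0, 0, h.jj_zero⟩
      mul_mem' := by
        rintro _ _ ⟨z, k, rfl⟩ ⟨y, l, rfl⟩
        exact ⟨z + y, k + l, by rw [h.jj_mul]; simp⟩
      inv_mem' := by
        rintro _ ⟨z, k, rfl⟩
        exact ⟨-z, -k, by rw [h.jj_inv]; simp⟩ }
  have hA9J : A9 ≤ h.J := by rintro _ ⟨z, k, rfl⟩; exact h.jj_mem _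
  have hA9c : Nat.card A9 = 9 := by
    rw [← Nat.card_congr (Equiv.ofBijective
      (fun p : ZMod 3 × ZMod 3 => (⟨h.jj (0, p.1, p.2), _, _, rfl⟩ : A9))
      ⟨fun p r e => by
        have := h.jj_inj (congrArg Subtype.val e)
        exact Prod.ext (congrArg (fun q : V3 => q.2.1) this) (congrArg (fun q : V3 => q.2.2) this),
       fun g => by
        obtain ⟨z, k, e⟩ := g.2
        exact ⟨(z, k), Subtype.ext e⟩⟩)]
    simp
  haveI : IsMulCommutative A9 :=
    ⟨⟨fun x y => Subtype.ext (h.J_comm (hA9J x.2) (hA9J y.2))⟩⟩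
  have hA9Q : A9 ≤ Subgroup.normalizer (X : Set G) := by
    rintro _ ⟨z, k, rfl⟩
    refine Subgroup.mem_normalizer_fintype fun x hx => Subgroup.mem_centralizer_iff.2 fun q hq => ?_
    obtain ⟨B, hB, rfl⟩ := hq
    set j := h.jj (0, z, k) with hj
    have hq' : j⁻¹ * h.P 0 0 B * j ∈ h.Q := by
      refine ⟨upper (-k) * B * upper k, ?_, ?_⟩
      · exact isQ_conj_upper B hB k
      · have hj' : j = h.P 0 z (upper k) := by
          rw [hj, Hyp.jj]; congr 1; ext i; fin_cases i <;> rfl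
        rw [eq_comm, mul_assoc, inv_mul_eq_iff_eq_mul, hj', h.mul, h.mul, ← mul_assoc, ← mul_assoc,
          upper_neg_inv, one_mul]
        simp [det2]
    have := congrArg (fun x => j * x * j⁻¹) (Subgroup.mem_centralizer_iff.1 hx _ hq')
    simpa [mul_assoc] using this
  have hgen : W' ≤ c.N := by
    refine Coprime.le_of_forall_inf_centralizer_le (A := A9) ?_
      (hA9Q.trans (norm_map_char X _ (SelfCentralizing.core_characteristic 3))) ?_ ?_
    · intro hcyc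
      obtain ⟨g, hg⟩ := hcyc.exists_generator
      have h9 : orderOf g = 9 := (orderOf_eq_card_of_forall_mem_zpowers hg).trans hA9c
      have := orderOf_dvd_of_pow_eq_one (Subtype.ext (h.J_exp (hA9J g.2)) : g ^ 3 = 1)
      rw [h9] at this
      norm_num at this
    · rw [hA9c, Subgroup.card_map_of_injective X.subtype_injective]
      exact (Nat.Coprime.pow_right 2 (SelfCentralizing.core_spec 3).2).symm
    · intro e he he1 g hg
      exact c.cent_le_N (hA9J he) he1 (Subgroup.mem_centralizer_singleton_iff.1 hg.2)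
  intro g hg
  have htop := hcompl.sup_eq_top
  have hle : (⊤ : Subgroup X) ≤ c.N.comap X.subtype := htop ▸ sup_le
    (fun w hw => hgen (hWW' ⟨w, hw, rfl⟩)) (fun t ht => hTN t ht)
  exact hle (Subgroup.mem_top ⟨g, hg⟩)

/-- The normalizer of `Q` lies in `N`. -/
theorem norm_Q_le_N {g : G} (hg : g ∈ Subgroup.normalizer (h.Q : Set G)) : g ∈ c.N := by
  have hc : ∀ x ∈ h.Q, g * h.a * g⁻¹ * x = x * (g * h.a * g⁻¹) := fun x hx => by
    have hy : g⁻¹ * x * g ∈ h.Q := by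
      simpa using (Subgroup.mem_normalizer_iff.1 (inv_mem hg) x).1 hx
    calc g * h.a * g⁻¹ * x = g * (h.a * (g⁻¹ * x * g)) * g⁻¹ := by group
      _ = g * ((g⁻¹ * x * g) * h.a) * g⁻¹ := by rw [h.Q_comm_a hy]
      _ = _ := by group
  have hN : g * h.a * g⁻¹ ∈ c.N :=
    c.cent_Q_le_N (Subgroup.mem_centralizer_iff.2 fun x hx => (hc x hx).symm)
  refine c.se (c.cent_a_le_N rfl) (h.J_exp h.a_mem) (fun e => ?_) hN
  have := h.orderOf_a
  rw [e, orderOf_one] at this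
  norm_num at this

end TwoCtx

end CfsgLib.Hayden48
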