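import Cfsg.Agent.Hayden48.Quotient
import Cfsg.Agent.Hayden48.TwoLocal

/-!
# Eight conjugates, all centralizers in `J` small: the frame

The two commuting involutions of `H` which commute with `t` and act as the reflection inverting
`c₁` and as the product of the other two, and the action of their product on the quaternion group.
-/

set_option autoImplicit false
set_option maxRecDepth 100000

namespace CfsgLib.Hayden48

open Matrix
open CfsgLib.HeisenbergSL (SL23 det2 upper negOne)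

theorem fR_fR : ∀ v : V3, fR (fR v) = v := by decide +kernel

theorem fS_fS : ∀ v : V3, fS (fS v) = v := by decide +kernel

theorem fR_fT : ∀ v : V3, fR (fT v) = fT (fR v) := by decide +kernel

theorem fS_fT : ∀ v : V3, fS (fT v) = fT (fS v) := by decide +kernel

theorem fR_fS : ∀ v : V3, fR (fS v) = fS (fR v) := by decide +kernel

theorem fR_fS_neg : ∀ v : V3, fR (fS v) = -v := by decide +kernel

theorem fR_vals : fR va = (0, 0, 1) ∧ fR (0, 0, 1) = va ∧ fR vc = -vc := by decide +kernel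

/-- The matrices inverting `upper 1` under conjugation. -/
def sigD (k : ZMod 3) : Matrix (Fin 2) (Fin 2) (ZMod 3) := !![1, k; 0, -1]

theorem sigD_det : ∀ k : ZMod 3, (sigD k).det * (sigD k).det = 1 := by decide +kernel

/-- Conjugation by `sigD k`. -/
def sigMap (k : ZMod 3) (A : SL23) : SL23 :=
  ⟨sigD k * A.1 * sigD k, by rw [Matrix.det_mul, Matrix.det_mul, A.2, mul_one, sigD_det]⟩

theorem sigMap_choice : ∀ B : SL23, B * B = negOne →
    B * (upper (-1) * B * upper 1) = upper 1 * B * upper (-1) →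
    ∃ k, B = sigMap k quatI ∧ upper (-1) * B * upper 1 = sigMap k quatJ := by decide +kernel

theorem sigMap_mul : ∀ k : ZMod 3, ∀ A B : SL23, sigMap k (A * B) = sigMap k A * sigMap k B := by
  intro k A B
  refine Subtype.ext ?_
  show sigD k * (A.1 * B.1) * sigD k = sigD k * A.1 * sigD k * (sigD k * B.1 * sigD k)
  have h2 : sigD k * sigD k = 1 := (show ∀ k, sigD k * sigD k = 1 by decide +kernel) k
  calc sigD k * (A.1 * B.1) * sigD k = sigD k * A.1 * 1 * B.1 * sigD k := by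
        rw [mul_one]; simp only [mul_assoc]
    _ = _ := by rw [← h2]; simp only [mul_assoc]

theorem sigMap_one : ∀ k : ZMod 3, sigMap k 1 = 1 := by decide +kernel

theorem quat_words : ∀ A : SL23, IsQ A → A = 1 ∨ A = quatI ∨ A = quatJ ∨ A = quatI * quatJ ∨
    A = quatI * quatI ∨ A = quatI * quatI * quatI ∨ A = quatI * quatI * quatJ ∨
    A = quatI * quatI * quatI * quatJ := by decide +kernel

theorem quat_cycle : upper 1 * quatI * upper (-1) = quatJ ∧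
    upper 1 * quatJ * upper (-1) = quatI * quatJ ∧ quatI * quatI = negOne := by decide +kernel

theorem sigMap_no_fix : ∀ k : ZMod 3, ∀ A : SL23, IsQ A → A * sigMap k A ≠ negOne := by
  decide +kernel

theorem sigMap_moved : ∀ k : ZMod 3, ∃ A : SL23, IsQ A ∧ sigMap k A * A⁻¹ ≠ 1 ∧
    sigMap k A * A⁻¹ ≠ negOne := by decide +kernel

theorem sigMap_inverted : ∀ k : ZMod 3, ∃ A : SL23, IsQ A ∧ A * A = negOne ∧
    sigMap k A = A⁻¹ := by decide +kernel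

theorem neg_v2 : ∀ v : Fin 2 → ZMod 3, -v = v → v = 0 := neg_self_v2

theorem isQ_of_pow_four : ∀ A : SL23, A * A * A * A = 1 → IsQ A := by decide +kernel

theorem four_smul_zero : ∀ z : ZMod 3, (4 : ℕ) • z = 0 → z = 0 := by decide +kernel

namespace Hyp

variable {G : Type*} [Group G] (h : Hyp G)

theorem t_inv : h.t⁻¹ = h.t := inv_eq_of_mul_eq_one_right h.t_sq

theorem t_ne_one : h.t ≠ 1 := fun e => by
  rw [Hyp.t, ← h.P_one] at e
  exact absurd (h.inj _ _ _ _ _ _ e).2.2 (by decide +kernel)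

theorem jj_zk (z k : ZMod 3) : h.jj (0, z, k) = h.P 0 z (upper k) := by
  rw [jj]
  congr 1
  ext i
  fin_cases i <;> rfl

theorem P0_mul (z y : ZMod 3) (A B : SL23) : h.P 0 z A * h.P 0 y B = h.P 0 (z + y) (A * B) := by
  rw [h.mul]
  simp [det2]

theorem P0_inv (z : ZMod 3) (A : SL23) : (h.P 0 z A)⁻¹ = h.P 0 (-z) A⁻¹ := by
  refine inv_eq_of_mul_eq_one_right ?_
  rw [h.P0_mul, add_neg_cancel, mul_inv_cancel, h.P_one]

theorem P0_pow (z : ZMod 3) (A : SL23) (n : ℕ) : h.P 0 z A ^ n = h.P 0 (n • z) (A ^ n) := by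
  induction n with
  | zero => rw [pow_zero, pow_zero, zero_smul, h.P_one]
  | succ n ih => rw [pow_succ, ih, h.P0_mul, pow_succ, succ_nsmul]

theorem t_comm_P0 (z : ZMod 3) (A : SL23) : h.t * h.P 0 z A = h.P 0 z A * h.t := by
  rw [Hyp.t, h.P0_mul, h.P0_mul, negOne_conj, add_comm]

/-- The centralizer of `⟨a, t⟩`. -/
theorem exists_P0 {g : G} (ga : g * h.a = h.a * g) (gt : g * h.t = h.t * g) :
    ∃ z A, g = h.P 0 z A := by
  obtain ⟨v, z, A, rfl⟩ := (h.mem_cent g).1 ga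
  rw [Hyp.t, h.mul, h.mul] at gt
  obtain ⟨e, -, -⟩ := h.inj _ _ _ _ _ _ gt
  rw [Matrix.mulVec_zero, add_zero, zero_add, show negOne.1 = -1 by decide +kernel,
    Matrix.neg_mulVec, Matrix.one_mulVec] at e
  exact ⟨z, A, by rw [neg_v2 v e.symm]⟩

theorem mem_Q_iff' {g : G} :
    g ∈ h.Q ↔ g * h.a = h.a * g ∧ g * h.t = h.t * g ∧ g ^ 4 = 1 := by
  constructor
  · intro hg
    refine ⟨h.Q_comm_a hg, ?_, h.Q_pow_four hg⟩
    obtain ⟨A, -, rfl⟩ := hg
    exact (h.t_comm_P0 0 A).symm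
  · rintro ⟨ga, gt, g4⟩
    obtain ⟨z, A, rfl⟩ := h.exists_P0 ga gt
    rw [h.P0_pow, ← h.P_one] at g4
    obtain ⟨-, e1, e2⟩ := h.inj _ _ _ _ _ _ g4
    refine h.mem_Q_iff.2 ⟨rfl, four_smul_zero z e1, isQ_of_pow_four A ?_⟩
    rw [← e2]
    simp [pow_succ]

/-- An element commuting with `t` and normalizing `⟨a⟩` normalizes `Q`. -/
theorem conj_mem_Q {g : G} (ga : g * h.a * g⁻¹ = h.a ∨ g * h.a * g⁻¹ = h.a⁻¹)
    (gt : g * h.t = h.t * g) {q : G} (hq : q ∈ h.Q) : g * q * g⁻¹ ∈ h.Q := by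
  obtain ⟨qa, qt, q4⟩ := h.mem_Q_iff'.1 hq
  refine h.mem_Q_iff'.2 ⟨?_, ?_, by rw [conj_pow, q4, mul_one, mul_inv_cancel]⟩
  · have h1 : Commute (g * q * g⁻¹) (g * h.a * g⁻¹) := (Commute.conj_iff g).2 qa
    rcases ga with e | e <;> rw [e] at h1
    · exact h1
    · exact Commute.inv_right_iff.1 h1
  · have h1 : Commute (g * q * g⁻¹) (g * h.t * g⁻¹) := (Commute.conj_iff g).2 qt
    rwa [gt, mul_inv_cancel_right] at h1

theorem Q_comm_t {q : G} (hq : q ∈ h.Q) : q * h.t = h.t * q := (h.mem_Q_iff'.1 hq).2.1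

theorem mem_Q_of {A : SL23} (hA : IsQ A) : h.P 0 0 A ∈ h.Q := ⟨A, hA, rfl⟩

/-- The centralizer of `t` in `J`. -/
def E : Subgroup G where
  carrier := {g | ∃ z k, h.jj (0, z, k) = g}
  one_mem' := ⟨0, 0, h.jj_zero⟩
  mul_mem' := by
    rintro _ _ ⟨z, k, rfl⟩ ⟨y, l, rfl⟩
    exact ⟨z + y, k + l, by rw [h.jj_mul]; simp⟩
  inv_mem' := by
    rintro _ ⟨z, k, rfl⟩
    exact ⟨-z, -k, by rw [h.jj_inv]; simp⟩

theorem E_le_J : h.E ≤ h.J := by
  rintro _ ⟨z, k, rfl⟩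
  exact h.jj_mem _

theorem card_E : Nat.card h.E = 9 := by
  rw [← Nat.card_congr (Equiv.ofBijective
    (fun p : ZMod 3 × ZMod 3 => (⟨h.jj (0, p.1, p.2), _, _, rfl⟩ : h.E))
    ⟨fun p r e => by
      have := h.jj_inj (congrArg Subtype.val e)
      exact Prod.ext (congrArg (fun q : V3 => q.2.1) this) (congrArg (fun q : V3 => q.2.2) this),
     fun g => by
      obtain ⟨z, k, e⟩ := g.2
      exact ⟨(z, k), Subtype.ext e⟩⟩)]
  simp

theorem E_conj_Q {e q : G} (he : e ∈ h.E) (hq : q ∈ h.Q) : e * q * e⁻¹ ∈ h.Q := by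
  obtain ⟨z, k, rfl⟩ := he
  rw [h.jj_zk]
  exact h.conj_mem_Q (Or.inl (mul_inv_eq_iff_eq_mul.2 (h.P_comm_a _ _ _)))
    (h.t_comm_P0 _ _).symm hq

variable [Finite G]

/-- An element of `H` commuting in action with an involution of `H` can be corrected in `J` to
commute with it. -/
theorem exists_adjust {r g : h.H} (hr : r * r = 1)
    (hc : ∀ v, h.act r (h.act g v) = h.act g (h.act r v)) :
    ∃ j : h.H, (j : G) ∈ h.J ∧ r * (j * g) = (j * g) * r := by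
  have hri : r⁻¹ = r := inv_eq_of_mul_eq_one_right hr
  set j := r * g * r * g⁻¹ with hj
  have hJ : (j : G) ∈ h.J := h.mem_J_of_act fun p => by
    rw [hj, h.act_mul, h.act_mul, h.act_mul, ← hc, ← h.act_mul r r, hr, h.act_one, ← h.act_mul,
      mul_inv_cancel, h.act_one]
  have hj3 : j * j * j = 1 := Subtype.ext (by
    push_cast
    rw [← h.J_exp hJ, pow_succ, pow_two])
  have h1 : r * j * r = j⁻¹ := by
    rw [hj, _root_.mul_inv_rev, _root_.mul_inv_rev, _root_.mul_inv_rev, hri, inv_inv]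
    calc r * (r * g * r * g⁻¹) * r = (r * r) * g * r * g⁻¹ * r := by simp only [mul_assoc]
      _ = _ := by rw [hr, one_mul]; simp only [mul_assoc]
  refine ⟨j * j, by push_cast; exact mul_mem hJ hJ, ?_⟩
  have hrg : r * g = j * g * r := by
    rw [hj]
    calc r * g = r * g * r * (g⁻¹ * g) * r := by
          rw [inv_mul_cancel, mul_one, mul_assoc (r * g), hr, mul_one]
      _ = _ := by simp only [mul_assoc]
  calc r * (j * j * g) = (r * j * r) * (r * j * r) * (r * g) := by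
        calc r * (j * j * g) = r * j * (r * r) * j * (r * r) * g := by
              rw [hr]; simp only [mul_one, mul_assoc]
          _ = _ := by simp only [mul_assoc]
    _ = (j⁻¹ * j⁻¹ * j) * g * r := by rw [h1, hrg]; simp only [mul_assoc]
    _ = j * j * g * r := by
        congr 2
        rw [show j⁻¹ * j⁻¹ * j = j⁻¹ by rw [mul_assoc, inv_mul_cancel, mul_one]]
        exact inv_eq_of_mul_eq_one_left hj3

end Hyp

/-- The frame when the centralizer of `vc` normalizes `J`. -/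
structure BCtx {G : Type*} [Group G] [Finite G] (h : Hyp G) where
  r : G
  s : G
  hO : ∀ p, h.O p ↔ p ∈ eight 0
  cent_le : h.Cv vc ≤ h.H
  r_sq : r * r = 1
  s_sq : s * s = 1
  r_s : r * s = s * r
  r_t : r * h.t = h.t * r
  s_t : s * h.t = h.t * s
  r_conj : ∀ p, r * h.jj p * r⁻¹ = h.jj (fR p)
  s_conj : ∀ p, s * h.jj p * s⁻¹ = h.jj (fS p)

theorem Hyp.exists_bctx {G : Type*} [Group G] [Finite G] (h : Hyp G)
    (hO : ∀ p, h.O p ↔ p ∈ eight 0) (hv : h.Cv vc ≤ h.H) : Nonempty (BCtx h) := by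
  obtain ⟨g₁, hg₁, hg₁'⟩ := h.exists_lift (f := fR)
    (by obtain ⟨g, hg⟩ := h.exists_act_good hO tr_mem.1
        exact ⟨g, fun v => (hg v).trans (fR_eq v)⟩) fR_fR
  obtain ⟨g₂, hg₂, hg₂'⟩ := h.exists_lift (f := fS)
    (by obtain ⟨g, hg⟩ := h.exists_act_good hO tr_mem.2
        exact ⟨g, fun v => (hg v).trans (fS_eq v)⟩) fS_fS
  set t : h.H := ⟨h.t, h.t_mem_H⟩ with ht
  have ht2 : t * t = 1 := Subtype.ext h.t_sq
  have hta : ∀ p, h.act t p = fT p := fun p => (h.act_eq (h.t_conj p)).trans (fT_eq p)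
  obtain ⟨r, hr, hra, hrt, -⟩ := h.exists_lift_comm hg₁ ht2
    (fun v => by rw [hg₁', hta, hta, hg₁', fR_fT])
  obtain ⟨s₁, hs₁, hs₁a, hs₁t, -⟩ := h.exists_lift_comm hg₂ ht2
    (fun v => by rw [hg₂', hta, hta, hg₂', fS_fT])
  obtain ⟨s, hs, hsa, hsr, hkeep⟩ := h.exists_lift_comm hs₁ hr
    (fun v => by rw [hs₁a, hra, hg₂', hg₁', hra, hs₁a, hg₁', hg₂', fR_fS])
  have hst : t * s = s * t := hkeep t ht2 hs₁t.symm hrt.symm
  have hc : ∀ {x y : h.H}, x * y = y * x → (x : G) * y = (y : G) * x :=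
    fun e => congrArg Subtype.val e
  exact ⟨{
    r := r
    s := s
    hO := hO
    cent_le := hv
    r_sq := congrArg Subtype.val hr
    s_sq := congrArg Subtype.val hs
    r_s := hc hsr.symm
    r_t := hc hrt
    s_t := hc hst.symm
    r_conj := fun p => by rw [← h.jj_act, hra, hg₁']
    s_conj := fun p => by rw [← h.jj_act, hsa, hs₁a, hg₂'] }⟩

namespace BCtx

variable {G : Type*} [Group G] [Finite G] {h : Hyp G} (c : BCtx h)

/-- The element inverting `J`. -/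
def i : G := c.r * c.s

/-- The conjugate of `a` under `r`. -/
def u (_c : BCtx h) : G := h.jj (0, 0, 1)

/-- The conjugate of `Q` under `r`. -/
def Qu : Subgroup G := h.Q.comap (MulAut.conj c.r).toMonoidHom

theorem r_inv : c.r⁻¹ = c.r := inv_eq_of_mul_eq_one_right c.r_sq

theorem s_inv : c.s⁻¹ = c.s := inv_eq_of_mul_eq_one_right c.s_sq

theorem r_mem : c.r ∈ h.H := h.mem_H_of_conj fun x hx => by
  obtain ⟨p, rfl⟩ := h.exists_jj hx
  rw [c.r_conj]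
  exact h.jj_mem _

theorem s_mem : c.s ∈ h.H := h.mem_H_of_conj fun x hx => by
  obtain ⟨p, rfl⟩ := h.exists_jj hx
  rw [c.s_conj]
  exact h.jj_mem _

theorem i_mem : c.i ∈ h.H := h.H.mul_mem c.r_mem c.s_mem

theorem i_sq : c.i * c.i = 1 := by
  rw [i, mul_assoc, ← mul_assoc c.s, ← c.r_s, mul_assoc c.r c.s, c.s_sq, mul_one, c.r_sq]

theorem i_inv : c.i⁻¹ = c.i := inv_eq_of_mul_eq_one_right c.i_sq

theorem i_t : c.i * h.t = h.t * c.i := by
  rw [i, mul_assoc, c.s_t, ← mul_assoc, c.r_t, mul_assoc]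

theorem r_i : c.r * c.i = c.i * c.r := by rw [i, mul_assoc c.r c.s, ← c.r_s]

theorem s_i : c.s * c.i = c.i * c.s := by rw [i, ← mul_assoc c.s, ← c.r_s, mul_assoc]

theorem i_conj (p : V3) : c.i * h.jj p * c.i⁻¹ = h.jj (-p) := by
  rw [i, show c.r * c.s * h.jj p * (c.r * c.s)⁻¹ = c.r * (c.s * h.jj p * c.s⁻¹) * c.r⁻¹ by group,
    c.s_conj, c.r_conj, fR_fS_neg]

theorem i_a : c.i * h.a * c.i⁻¹ = h.a⁻¹ := by rw [← h.jj_a, c.i_conj, h.jj_inv]

theorem i_norm_Q {q : G} (hq : q ∈ h.Q) : c.i * q * c.i⁻¹ ∈ h.Q :=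
  h.conj_mem_Q (Or.inr c.i_a) c.i_t hq

theorem r_a : c.r * h.a * c.r⁻¹ = c.u := by rw [← h.jj_a, c.r_conj, u]; rfl

theorem r_u : c.r * c.u * c.r⁻¹ = h.a := by rw [u, c.r_conj, ← h.jj_a]; rfl

theorem u_eq : c.u = h.P 0 0 (upper 1) := h.jj_zk 0 1

theorem mem_Qu {g : G} : g ∈ c.Qu ↔ c.r * g * c.r⁻¹ ∈ h.Q := Iff.rfl

theorem r_conj_r (g : G) : c.r * (c.r * g * c.r⁻¹) * c.r⁻¹ = g := by
  calc c.r * (c.r * g * c.r⁻¹) * c.r⁻¹ = (c.r * c.r) * g * (c.r * c.r)⁻¹ := by group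
    _ = g := by rw [c.r_sq]; group

theorem r_mem_Qu {q : G} (hq : q ∈ h.Q) : c.r * q * c.r⁻¹ ∈ c.Qu := by
  rw [c.mem_Qu, c.r_conj_r]
  exact hq

theorem exists_Q_of_Qu {g : G} (hg : g ∈ c.Qu) : ∃ q ∈ h.Q, g = c.r * q * c.r⁻¹ :=
  ⟨_, c.mem_Qu.1 hg, (c.r_conj_r g).symm⟩

theorem t_mem_Qu : h.t ∈ c.Qu := by
  rw [c.mem_Qu, c.r_t, mul_inv_cancel_right]
  exact h.t_mem_Q

theorem Qu_comm_u {g : G} (hg : g ∈ c.Qu) : g * c.u = c.u * g := by
  obtain ⟨q, hq, rfl⟩ := c.exists_Q_of_Qu hg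
  rw [← c.r_a]
  exact ((Commute.conj_iff c.r).2 (h.Q_comm_a hq)).eq

theorem Qu_comm_t {g : G} (hg : g ∈ c.Qu) : g * h.t = h.t * g := by
  obtain ⟨q, hq, rfl⟩ := c.exists_Q_of_Qu hg
  have := ((Commute.conj_iff c.r).2 (h.Q_comm_t hq)).eq
  rwa [c.r_t, mul_inv_cancel_right] at this

theorem card_Qu : Nat.card c.Qu = 8 := by
  rw [← h.card_Q]
  refine Nat.card_congr (Equiv.ofBijective (fun g => (⟨c.r * g * c.r⁻¹, c.mem_Qu.1 g.2⟩ : h.Q))
    ⟨fun g k e => ?_, fun q => ⟨⟨_, c.r_mem_Qu q.2⟩, Subtype.ext (c.r_conj_r q)⟩⟩)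
  exact Subtype.ext (mul_left_cancel (mul_right_cancel (congrArg Subtype.val e)))

theorem i_Qu {g : G} (hg : g ∈ c.Qu) : c.i * g * c.i⁻¹ ∈ c.Qu := by
  obtain ⟨q, hq, rfl⟩ := c.exists_Q_of_Qu hg
  rw [show c.i * (c.r * q * c.r⁻¹) * c.i⁻¹ = (c.i * c.r) * q * (c.i * c.r)⁻¹ by group, ← c.r_i,
    show c.r * c.i * q * (c.r * c.i)⁻¹ = c.r * (c.i * q * c.i⁻¹) * c.r⁻¹ by group]
  exact c.r_mem_Qu (c.i_norm_Q hq)

theorem i_u : c.i * c.u * c.i⁻¹ = c.u⁻¹ := by rw [u, c.i_conj, h.jj_inv]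

/-- The action of `i` on `Q`. -/
theorem exists_sig : ∃ k, ∀ A : SL23, IsQ A → c.i * h.P 0 0 A * c.i⁻¹ = h.P 0 0 (sigMap k A) := by
  obtain ⟨B, hBQ, hB⟩ := c.i_norm_Q (h.mem_Q_of isQ_quatI)
  have hmul : ∀ A B : SL23, h.P 0 0 (A * B) = h.P 0 0 A * h.P 0 0 B := fun A B => by
    rw [h.P0_mul, add_zero]
  have hui : ∀ k : ZMod 3, h.jj (0, 0, k) = h.P 0 0 (upper k) := h.jj_zk 0
  have hconj : ∀ X Y : SL23, c.i * h.P 0 0 X * c.i⁻¹ = h.P 0 0 Y →
      c.i * h.P 0 0 (upper 1 * X * upper (-1)) * c.i⁻¹ = h.P 0 0 (upper (-1) * Y * upper 1) := by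
    intro X Y hXY
    rw [hmul, hmul, hmul, hmul, ← conj_mul, ← conj_mul, hXY, ← hui, ← hui, c.i_conj, c.i_conj]
    simp
  have hBJ : c.i * h.P 0 0 quatJ * c.i⁻¹ = h.P 0 0 (upper (-1) * B * upper 1) := by
    conv_lhs => rw [← quat_cycle.1]
    exact hconj _ _ hB.symm
  have hBK : c.i * h.P 0 0 (quatI * quatJ) * c.i⁻¹ = h.P 0 0 (upper 1 * B * upper (-1)) := by
    conv_lhs => rw [← quat_cycle.2.1]
    rw [hconj _ _ hBJ]
    congr 1
    exact (show ∀ B : SL23, upper (-1) * (upper (-1) * B * upper 1) * upper 1 =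
      upper 1 * B * upper (-1) by decide +kernel) B
  have h1 : B * (upper (-1) * B * upper 1) = upper 1 * B * upper (-1) := by
    rw [hmul quatI quatJ, ← conj_mul, ← hB, hBJ, ← hmul] at hBK
    exact (h.inj _ _ _ _ _ _ hBK).2.2
  have hB2 : B * B = negOne := by
    have e : c.i * h.P 0 0 negOne * c.i⁻¹ = h.P 0 0 negOne := mul_inv_eq_iff_eq_mul.2 c.i_t
    rw [← quat_cycle.2.2, hmul, ← conj_mul, ← hB, ← hmul, ← hmul, quat_cycle.2.2] at e
    exact (h.inj _ _ _ _ _ _ e).2.2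
  obtain ⟨k, hk1, hk2⟩ := sigMap_choice B hB2 h1
  refine ⟨k, fun A hA => ?_⟩
  have hI : c.i * h.P 0 0 quatI * c.i⁻¹ = h.P 0 0 (sigMap k quatI) := by rw [← hB, hk1]
  have hJ : c.i * h.P 0 0 quatJ * c.i⁻¹ = h.P 0 0 (sigMap k quatJ) := by rw [hBJ, hk2]
  have hone : c.i * h.P 0 0 1 * c.i⁻¹ = h.P 0 0 (sigMap k 1) := by
    rw [sigMap_one, h.P_one]; group
  have hstep : ∀ X Y : SL23, c.i * h.P 0 0 X * c.i⁻¹ = h.P 0 0 (sigMap k X) →
      c.i * h.P 0 0 Y * c.i⁻¹ = h.P 0 0 (sigMap k Y) →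
      c.i * h.P 0 0 (X * Y) * c.i⁻¹ = h.P 0 0 (sigMap k (X * Y)) := fun X Y hX hY => by
    rw [hmul, ← conj_mul, hX, hY, ← hmul, sigMap_mul]
  rcases quat_words A hA with rfl | rfl | rfl | rfl | rfl | rfl | rfl | rfl
  · exact hone
  · exact hI
  · exact hJ
  · exact hstep _ _ hI hJ
  · exact hstep _ _ hI hI
  · exact hstep _ _ (hstep _ _ hI hI) hI
  · exact hstep _ _ (hstep _ _ hI hI) hJ
  · exact hstep _ _ (hstep _ _ (hstep _ _ hI hI) hI) hJ

/-- No element of `Q i` squares to `t`. -/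
theorem sq_ne_t {q : G} (hq : q ∈ h.Q) : q * c.i * (q * c.i) ≠ h.t := by
  obtain ⟨k, hk⟩ := c.exists_sig
  obtain ⟨A, hA, rfl⟩ := hq
  intro e
  have e' : h.P 0 0 A * (c.i * h.P 0 0 A * c.i⁻¹) = h.t := by
    rw [c.i_inv, ← e]; simp only [mul_assoc]
  rw [hk A hA, h.P0_mul, add_zero, Hyp.t] at e'
  exact sigMap_no_fix k A hA (h.inj _ _ _ _ _ _ e').2.2

/-- Some element of `Q` is not fixed by `i` modulo `t`. -/
theorem exists_moved : ∃ q ∈ h.Q, c.i * q * c.i⁻¹ * q⁻¹ ≠ 1 ∧ c.i * q * c.i⁻¹ * q⁻¹ ≠ h.t := by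
  obtain ⟨k, hk⟩ := c.exists_sig
  obtain ⟨A, hA, h1, h2⟩ := sigMap_moved k
  refine ⟨_, h.mem_Q_of hA, ?_, ?_⟩ <;> rw [hk A hA, h.P0_inv, neg_zero, h.P0_mul, add_zero]
  · exact fun e => h1 (h.inj _ _ _ _ _ _ (e.trans h.P_one.symm)).2.2
  · exact fun e => h2 (h.inj _ _ _ _ _ _ e).2.2

/-- An element of order four of `Q` inverted by `i`. -/
theorem exists_inverted : ∃ q ∈ h.Q, q * q = h.t ∧ c.i * q * c.i⁻¹ = q⁻¹ := by
  obtain ⟨k, hk⟩ := c.exists_sig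
  obtain ⟨A, hA, h1, h2⟩ := sigMap_inverted k
  refine ⟨_, h.mem_Q_of hA, ?_, ?_⟩
  · rw [h.P0_mul, add_zero, h1]; rfl
  · rw [hk A hA, h2, h.P0_inv, neg_zero]

end BCtx

end CfsgLib.Hayden48
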