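import Cfsg.Agent.Hayden48.IndexCent

/-!
# The Sylow 2-subgroup

It is the product of the two quaternion groups extended by `r` and `s`.
-/

set_option autoImplicit false
set_option maxRecDepth 100000

open scoped commutatorElement

namespace CfsgLib.Hayden48

open Matrix
open CfsgLib.HeisenbergSL (SL23 det2 upper negOne)

theorem quat_inter : ∀ A : SL23, IsQ A → A * upper 1 = upper 1 * A → A = 1 ∨ A = negOne := by
  decide +kernel

theorem quat_comm : ∀ A B : SL23, IsQ A → IsQ B → A * B = B * A ∨ A * B = B * A * negOne := by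
  decide +kernel

theorem exists_conj_upper : ∀ X : SL23, X * X * X = 1 →
    ∃ B : SL23, IsQ B ∧ ∃ k : ZMod 3, B * X * B⁻¹ = upper k := by decide +kernel

namespace BCtx

variable {G : Type*} [Group G] [Finite G] {h : Hyp G} (c : BCtx h)

theorem Qu_le_D : c.Qu ≤ c.D := c.D_struct.1

theorem Qu_comm_Q {x q : G} (hx : x ∈ c.Qu) (hq : q ∈ h.Q) : x * q = q * x :=
  c.mem_D.1 (c.Qu_le_D hx) q hq

/-- The central product of `Q` and its conjugate. -/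
def W : Subgroup G where
  carrier := {g | ∃ q ∈ h.Q, ∃ x ∈ c.Qu, g = q * x}
  one_mem' := ⟨1, one_mem _, 1, one_mem _, (one_mul 1).symm⟩
  mul_mem' := by
    rintro _ _ ⟨q, hq, x, hx, rfl⟩ ⟨q', hq', x', hx', rfl⟩
    refine ⟨q * q', mul_mem hq hq', x * x', mul_mem hx hx', ?_⟩
    calc q * x * (q' * x') = q * (x * q') * x' := by group
      _ = q * (q' * x) * x' := by rw [c.Qu_comm_Q hx hq']
      _ = _ := by group
  inv_mem' := by
    rintro _ ⟨q, hq, x, hx, rfl⟩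
    exact ⟨q⁻¹, inv_mem hq, x⁻¹, inv_mem hx, by
      rw [_root_.mul_inv_rev, c.Qu_comm_Q (inv_mem hx) (inv_mem hq)]⟩

theorem mem_W {g : G} : g ∈ c.W ↔ ∃ q ∈ h.Q, ∃ x ∈ c.Qu, g = q * x := Iff.rfl

theorem Q_le_W : h.Q ≤ c.W := fun q hq => ⟨q, hq, 1, one_mem _, (mul_one q).symm⟩

theorem Qu_le_W : c.Qu ≤ c.W := fun x hx => ⟨1, one_mem _, x, hx, (one_mul x).symm⟩

theorem t_mem_W : h.t ∈ c.W := c.Q_le_W h.t_mem_Q

theorem W_comm_t {g : G} (hg : g ∈ c.W) : g * h.t = h.t * g := by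
  obtain ⟨q, hq, x, hx, rfl⟩ := hg
  exact (Commute.mul_left (h.Q_comm_t hq) (c.Qu_comm_t hx)).eq

theorem inter {g : G} (hQ : g ∈ h.Q) (hu : g ∈ c.Qu) : g = 1 ∨ g = h.t := by
  obtain ⟨A, hA, rfl⟩ := hQ
  have e := c.Qu_comm_u hu
  rw [c.u_eq, h.P0_mul, h.P0_mul] at e
  rcases quat_inter A hA (h.inj _ _ _ _ _ _ e).2.2 with rfl | rfl
  · exact Or.inl h.P_one
  · exact Or.inr rfl

include c in
theorem Q_commutator {p q : G} (hp : p ∈ h.Q) (hq : q ∈ h.Q) :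
    ⁅p, q⁆ = 1 ∨ ⁅p, q⁆ = h.t := by
  obtain ⟨A, hA, rfl⟩ := hp
  obtain ⟨B, hB, rfl⟩ := hq
  rw [commutatorElement_def, mul_inv_eq_iff_eq_mul, mul_inv_eq_iff_eq_mul, one_mul,
    mul_inv_eq_iff_eq_mul, mul_inv_eq_iff_eq_mul, Hyp.t, h.P0_mul, h.P0_mul, h.P0_mul, h.P0_mul]
  simp only [add_zero]
  rcases quat_comm A B hA hB with e | e
  · exact Or.inl (by rw [e])
  · exact Or.inr (by rw [e, ← negOne_conj, mul_assoc])

theorem Qu_commutator {p q : G} (hp : p ∈ c.Qu) (hq : q ∈ c.Qu) :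
    ⁅p, q⁆ = 1 ∨ ⁅p, q⁆ = h.t := by
  obtain ⟨p', hp', rfl⟩ := c.exists_Q_of_Qu hp
  obtain ⟨q', hq', rfl⟩ := c.exists_Q_of_Qu hq
  rw [← conjugate_commutatorElement]
  rcases c.Q_commutator hp' hq' with e | e <;> rw [e]
  · exact Or.inl (by rw [mul_one, mul_inv_cancel])
  · exact Or.inr (mul_inv_eq_iff_eq_mul.2 c.r_t)

theorem W_commutator {v w : G} (hv : v ∈ c.W) (hw : w ∈ c.W) :
    ⁅v, w⁆ = 1 ∨ ⁅v, w⁆ = h.t := by
  obtain ⟨q, hq, x, hx, rfl⟩ := hv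
  obtain ⟨q', hq', x', hx', rfl⟩ := hw
  have e : ⁅q * x, q' * x'⁆ = ⁅q, q'⁆ * ⁅x, x'⁆ := by
    simp only [commutatorElement_def, _root_.mul_inv_rev]
    calc q * x * (q' * x') * (x⁻¹ * q⁻¹) * (x'⁻¹ * q'⁻¹)
        = q * (x * q') * x' * x⁻¹ * (q⁻¹ * x'⁻¹) * q'⁻¹ := by group
      _ = q * (q' * x) * x' * x⁻¹ * (x'⁻¹ * q⁻¹) * q'⁻¹ := by
          rw [c.Qu_comm_Q hx hq', c.Qu_comm_Q (inv_mem hx') (inv_mem hq)]
      _ = q * q' * ((x * x' * x⁻¹ * x'⁻¹) * (q⁻¹ * q'⁻¹)) := by group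
      _ = q * q' * ((q⁻¹ * q'⁻¹) * (x * x' * x⁻¹ * x'⁻¹)) := by
          rw [c.Qu_comm_Q (mul_mem (mul_mem (mul_mem hx hx') (inv_mem hx)) (inv_mem hx'))
            (mul_mem (inv_mem hq) (inv_mem hq'))]
      _ = _ := by group
  rw [e]
  rcases c.Q_commutator hq hq' with e1 | e1 <;> rcases c.Qu_commutator hx hx' with e2 | e2 <;>
    rw [e1, e2]
  · exact Or.inl (one_mul 1)
  · exact Or.inr (one_mul _)
  · exact Or.inr (mul_one _)
  · exact Or.inl h.t_sq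

theorem r_W {g : G} (hg : g ∈ c.W) : c.r * g * c.r⁻¹ ∈ c.W := by
  obtain ⟨q, hq, x, hx, rfl⟩ := hg
  rw [← conj_mul]
  exact mul_mem (c.Qu_le_W (c.r_mem_Qu hq)) (c.Q_le_W (c.mem_Qu.1 hx))

theorem i_W {g : G} (hg : g ∈ c.W) : c.i * g * c.i⁻¹ ∈ c.W := by
  obtain ⟨q, hq, x, hx, rfl⟩ := hg
  rw [← conj_mul]
  exact mul_mem (c.Q_le_W (c.i_norm_Q hq)) (c.Qu_le_W (c.i_Qu hx))

theorem s_eq : c.s = c.r * c.i := by rw [i, ← mul_assoc, c.r_sq, one_mul]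

theorem s_Q {q : G} (hq : q ∈ h.Q) : c.s * q * c.s⁻¹ ∈ c.Qu := by
  rw [c.s_eq, show c.r * c.i * q * (c.r * c.i)⁻¹ = c.r * (c.i * q * c.i⁻¹) * c.r⁻¹ by group]
  exact c.r_mem_Qu (c.i_norm_Q hq)

theorem s_W {g : G} (hg : g ∈ c.W) : c.s * g * c.s⁻¹ ∈ c.W := by
  rw [c.s_eq, show c.r * c.i * g * (c.r * c.i)⁻¹ = c.r * (c.i * g * c.i⁻¹) * c.r⁻¹ by group]
  exact c.r_W (c.i_W hg)

/-- The subgroup of index two. -/
def M : Subgroup G := adjoinInv c.W c.s c.s_sq fun _ hw => c.s_W hw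

theorem mem_M {g : G} : g ∈ c.M ↔ g ∈ c.W ∨ g * c.s ∈ c.W := Iff.rfl

theorem r_M {g : G} (hg : g ∈ c.M) : c.r * g * c.r⁻¹ ∈ c.M := by
  rcases c.mem_M.1 hg with hg | hg
  · exact Or.inl (c.r_W hg)
  · refine Or.inr ?_
    rw [show c.r * g * c.r⁻¹ * c.s = c.r * (g * (c.r⁻¹ * c.s * c.r)) * c.r⁻¹ by group,
      show c.r⁻¹ * c.s * c.r = c.s by rw [mul_assoc, ← c.r_s, inv_mul_cancel_left]]
    exact c.r_W hg

/-- The Sylow 2-subgroup. -/
def T : Subgroup G := adjoinInv c.M c.r c.r_sq fun _ hm => c.r_M hm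

theorem mem_T {g : G} : g ∈ c.T ↔ g ∈ c.M ∨ g * c.r ∈ c.M := Iff.rfl

theorem M_le_T : c.M ≤ c.T := fun _ hg => Or.inl hg

theorem W_le_M : c.W ≤ c.M := fun _ hg => Or.inl hg

theorem W_le_T : c.W ≤ c.T := c.W_le_M.trans c.M_le_T

theorem r_mem_T : c.r ∈ c.T := Or.inr (by rw [c.r_sq]; exact one_mem _)

theorem s_mem_M : c.s ∈ c.M := Or.inr (by rw [c.s_sq]; exact one_mem _)

theorem i_mem_T : c.i ∈ c.T := mul_mem c.r_mem_T (c.M_le_T c.s_mem_M)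

theorem isPGroup_W : IsPGroup 2 c.W := by
  intro g
  refine ⟨2, Subtype.ext ?_⟩
  obtain ⟨q, hq, x, hx, e⟩ := g.2
  push_cast
  rw [e, (show Commute q x from (c.Qu_comm_Q hx hq).symm).mul_pow,
    h.Q_pow_four hq, one_mul]
  obtain ⟨q', hq', rfl⟩ := c.exists_Q_of_Qu hx
  rw [conj_pow, h.Q_pow_four hq', mul_one, mul_inv_cancel]

theorem isPGroup_T : IsPGroup 2 c.T := isPGroup_adjoinInv (isPGroup_adjoinInv c.isPGroup_W _ _) _ _

theorem T_cases {g : G} (hg : g ∈ c.T) :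
    g ∈ c.W ∨ g * c.s ∈ c.W ∨ g * c.r ∈ c.W ∨ g * c.i ∈ c.W := by
  rcases c.mem_T.1 hg with hg | hg
  · rcases c.mem_M.1 hg with hg | hg
    · exact Or.inl hg
    · exact Or.inr (Or.inl hg)
  · rcases c.mem_M.1 hg with hg | hg
    · exact Or.inr (Or.inr (Or.inl hg))
    · exact Or.inr (Or.inr (Or.inr (by rwa [mul_assoc] at hg)))

theorem r_not_M : c.r ∉ c.M := by
  obtain ⟨q, hq, hq2, -⟩ := c.exists_inverted
  have hnW : ∀ w ∈ c.W, w * q * w⁻¹ ∈ h.Q := by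
    rintro _ ⟨p, hp, x, hx, rfl⟩
    rw [show p * x * q * (p * x)⁻¹ = p * (x * q * x⁻¹) * p⁻¹ by group, c.Qu_comm_Q hx hq,
      mul_inv_cancel_right]
    exact mul_mem (mul_mem hp hq) (inv_mem hp)
  intro hm
  rcases c.mem_M.1 hm with hm | hm
  · rcases c.inter (hnW _ hm) (c.r_mem_Qu hq) with e | e
    · rw [conj_eq_one_iff.1 e, one_mul] at hq2
      exact h.t_ne_one hq2.symm
    · have e' : q = h.t := by
        rw [← c.r_conj_r q, e]
        exact mul_inv_eq_iff_eq_mul.2 c.r_t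
      rw [e', h.t_sq] at hq2
      exact h.t_ne_one hq2.symm
  · obtain ⟨p, hp, x, hx, e⟩ := hm
    have e' : c.r * c.s = c.i := rfl
    rw [e'] at e
    refine c.no_inv (c.Qu_le_D hx) ?_
    rw [show x = p⁻¹ * c.i by rw [e, inv_mul_cancel_left],
      show p⁻¹ * c.i * h.a * (p⁻¹ * c.i)⁻¹ = p⁻¹ * (c.i * h.a * c.i⁻¹) * p by group, c.i_a]
    rw [(show Commute p⁻¹ h.a⁻¹ from (show Commute p h.a from h.Q_comm_a hp).inv_inv).eq,
      inv_mul_cancel_right]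

theorem relIndex_M : c.M.relIndex c.T = 2 := by
  rw [Subgroup.relIndex_eq_two_iff]
  refine ⟨c.r, c.r_mem_T, fun b hb => ?_⟩
  by_cases hbM : b ∈ c.M
  · refine Or.inr ⟨hbM, fun hm => c.r_not_M ?_⟩
    have := mul_mem (inv_mem hbM) hm
    rwa [inv_mul_cancel_left] at this
  · exact Or.inl ⟨(c.mem_T.1 hb).resolve_left hbM, hbM⟩

/-- Commutators of elements of `T` lie in `W`. -/
theorem T_commutator {x y : G} (hx : x ∈ c.T) (hy : y ∈ c.T) : ⁅x, y⁆ ∈ c.W := by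
  have hk : ∀ g ∈ c.T, ∃ k, (k = 1 ∨ k = c.s ∨ k = c.r ∨ k = c.i) ∧ ∃ w ∈ c.W, g = w * k := by
    intro g hg
    rcases c.T_cases hg with hg' | hg' | hg' | hg'
    · exact ⟨1, Or.inl rfl, g, hg', (mul_one g).symm⟩
    · exact ⟨c.s, Or.inr (Or.inl rfl), _, hg', by rw [mul_assoc, c.s_sq, mul_one]⟩
    · exact ⟨c.r, Or.inr (Or.inr (Or.inl rfl)), _, hg', by rw [mul_assoc, c.r_sq, mul_one]⟩
    · exact ⟨c.i, Or.inr (Or.inr (Or.inr rfl)), _, hg', by rw [mul_assoc, c.i_sq, mul_one]⟩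
  have hnorm : ∀ k, (k = 1 ∨ k = c.s ∨ k = c.r ∨ k = c.i) → ∀ w ∈ c.W, k * w * k⁻¹ ∈ c.W := by
    rintro k (rfl | rfl | rfl | rfl) w hw
    · rw [one_mul, inv_one, mul_one]
      exact hw
    · exact c.s_W hw
    · exact c.r_W hw
    · exact c.i_W hw
  obtain ⟨k, hk1, w, hw, rfl⟩ := hk x hx
  obtain ⟨k', hk2, w', hw', rfl⟩ := hk y hy
  have hkk : k * k' = k' * k := by
    rcases hk1 with rfl | rfl | rfl | rfl <;> rcases hk2 with rfl | rfl | rfl | rfl <;>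
      simp [c.r_i, c.s_i, c.r_s]
  rw [commutatorElement_def, show w * k * (w' * k') * (w * k)⁻¹ * (w' * k')⁻¹ =
      w * (k * w' * k⁻¹) * ((k * k') * k⁻¹ * w⁻¹ * k'⁻¹) * w'⁻¹ by group, hkk, mul_inv_cancel_right]
  exact mul_mem (mul_mem (mul_mem hw (hnorm k hk1 w' hw')) (hnorm k' hk2 _ (inv_mem hw))) (inv_mem hw')

/-- `W` is the set of elements whose commutators with the commutators of `T` lie in `⟨t⟩`. -/
theorem mem_W_iff {g : G} (hg : g ∈ c.T) : g ∈ c.W ↔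
    ∀ x ∈ c.T, ∀ y ∈ c.T, ⁅g, ⁅x, y⁆⁆ = 1 ∨ ⁅g, ⁅x, y⁆⁆ = h.t := by
  refine ⟨fun hgW x hx y hy => c.W_commutator hgW (c.T_commutator hx hy), fun hall => ?_⟩
  by_contra hgW
  obtain ⟨q, hq, hq1, hqt⟩ := c.exists_moved
  set f := ⁅c.i, q⁆ with hf
  have hfQ : f ∈ h.Q := mul_mem (c.i_norm_Q hq) (inv_mem hq)
  have hiT : c.i ∈ c.T := c.i_mem_T
  have hqT : q ∈ c.T := c.W_le_T (c.Q_le_W hq)
  -- `k d k⁻¹` agrees with `d` modulo `t`
  have hkey : ∀ k d, g * k ∈ c.W → k * k = 1 → d ∈ c.W → k * d * k⁻¹ ∈ c.W →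
      (⁅g, d⁆ = 1 ∨ ⁅g, d⁆ = h.t) → k * d * k⁻¹ = d ∨ k * d * k⁻¹ = d * h.t := by
    intro k d hw hk2 hdW hkd hd
    obtain ⟨w, rfl⟩ : ∃ w, g = w * k := ⟨g * k, by rw [mul_assoc, hk2, mul_one]⟩
    have hw' : w ∈ c.W := by rwa [mul_assoc, hk2, mul_one] at hw
    set d' := k * d * k⁻¹ with hd'
    have h1 : ⁅w * k, d⁆ = ⁅w, d'⁆ * (d' * d⁻¹) := by
      rw [hd', commutatorElement_def, commutatorElement_def]; group
    rw [h1] at hd
    have h2 : d' * d⁻¹ = 1 ∨ d' * d⁻¹ = h.t := by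
      rcases c.W_commutator hw' hkd with e | e <;> rw [e] at hd
      · rwa [one_mul] at hd
      · rcases hd with e' | e'
        · exact Or.inr (by rw [eq_inv_of_mul_eq_one_right e', h.t_inv])
        · exact Or.inl (mul_eq_left.1 e')
    rcases h2 with e | e
    · exact Or.inl (mul_inv_eq_one.1 e)
    · exact Or.inr ((mul_inv_eq_iff_eq_mul.1 e).trans (c.W_comm_t hdW).symm)
  have hfne : f ≠ 1 ∧ f ≠ h.t := ⟨hq1, hqt⟩
  have hswap : ∀ k, k * f * k⁻¹ ∈ c.Qu → k * f * k⁻¹ = f ∨ k * f * k⁻¹ = f * h.t → False := by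
    intro k hk hor
    rcases hor with e | e <;> rw [e] at hk
    · rcases c.inter hfQ hk with e' | e'
      exacts [hfne.1 e', hfne.2 e']
    · rcases c.inter (mul_mem hfQ h.t_mem_Q) hk with e' | e'
      · exact hfne.2 (by rw [eq_inv_of_mul_eq_one_left e', h.t_inv])
      · exact hfne.1 (mul_eq_right.1 e')
  rcases c.T_cases hg with h0 | h0 | h0 | h0
  · exact hgW h0
  · exact hswap c.s (c.s_Q hfQ) (hkey _ _ h0 c.s_sq (c.Q_le_W hfQ) (c.Qu_le_W (c.s_Q hfQ))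
      (hall _ hiT _ hqT))
  · exact hswap c.r (c.r_mem_Qu hfQ) (hkey _ _ h0 c.r_sq (c.Q_le_W hfQ)
      (c.Qu_le_W (c.r_mem_Qu hfQ)) (hall _ hiT _ hqT))
  · set x := c.r * q * c.r⁻¹ with hx
    set d := ⁅c.r, q⁆ with hd
    have hdeq : d = x * q⁻¹ := commutatorElement_def _ _
    have hdW : d ∈ c.W := c.T_commutator c.r_mem_T hqT
    have hxu : x ∈ c.Qu := c.r_mem_Qu hq
    have hid : c.i * d * c.i⁻¹ = (c.i * x * c.i⁻¹) * (c.i * q * c.i⁻¹)⁻¹ := by rw [hdeq]; group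
    have hix : c.i * x * c.i⁻¹ = c.r * (c.i * q * c.i⁻¹) * c.r⁻¹ := by
      rw [hx, show c.i * (c.r * q * c.r⁻¹) * c.i⁻¹ = (c.i * c.r) * q * (c.i * c.r)⁻¹ by group,
        ← c.r_i]
      group
    have hQu : x⁻¹ * (c.i * x * c.i⁻¹) ∈ h.Q := by
      rcases hkey _ _ h0 c.i_sq hdW (c.i_W hdW) (hall _ c.r_mem_T _ hqT) with e | e <;>
        rw [hid, hdeq, mul_inv_eq_iff_eq_mul] at e <;> rw [e]
      · rw [show x⁻¹ * (x * q⁻¹ * (c.i * q * c.i⁻¹)) = q⁻¹ * (c.i * q * c.i⁻¹) by group]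
        exact mul_mem (inv_mem hq) (c.i_norm_Q hq)
      · rw [show x⁻¹ * (x * q⁻¹ * h.t * (c.i * q * c.i⁻¹)) =
          q⁻¹ * h.t * (c.i * q * c.i⁻¹) by group]
        exact mul_mem (mul_mem (inv_mem hq) h.t_mem_Q) (c.i_norm_Q hq)
    have hres : ∀ z : G, z = 1 ∨ z = h.t →
        c.r * (q⁻¹ * (c.i * q * c.i⁻¹)) * c.r⁻¹ = z → c.i * q * c.i⁻¹ * q⁻¹ = z := by
      intro z hz e
      have e1 : q⁻¹ * (c.i * q * c.i⁻¹) = z := by
        rw [← c.r_conj_r (q⁻¹ * (c.i * q * c.i⁻¹)), e]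
        rcases hz with rfl | rfl
        · rw [mul_one, mul_inv_cancel]
        · exact mul_inv_eq_iff_eq_mul.2 c.r_t
      rw [inv_mul_eq_iff_eq_mul] at e1
      rcases hz with rfl | rfl
      · rw [e1, mul_one, mul_inv_cancel]
      · rw [e1, h.Q_comm_t hq, mul_inv_cancel_right]
    have hxeq : x⁻¹ * (c.i * x * c.i⁻¹) = c.r * (q⁻¹ * (c.i * q * c.i⁻¹)) * c.r⁻¹ := by
      rw [hix, hx]; group
    rcases c.inter hQu (mul_mem (inv_mem hxu) (c.i_Qu hxu)) with e | e <;> rw [hxeq] at e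
    · exact hq1 (hres 1 (Or.inl rfl) e)
    · exact hqt (hres _ (Or.inr rfl) e)

/-- The centre of `T`. -/
theorem centre_T {g : G} (hg : g ∈ c.T) (hc : ∀ x ∈ c.T, g * x = x * g) : g = 1 ∨ g = h.t := by
  have hgW : g ∈ c.W := (c.mem_W_iff hg).2 fun x hx y hy => Or.inl
    (commutatorElement_eq_one_iff_mul_comm.2 (hc _ (c.W_le_T (c.T_commutator hx hy))))
  obtain ⟨q, hq, x, hx, rfl⟩ := hgW
  have hqc : ∀ p ∈ h.Q, q * p = p * q := fun p hp => by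
    have h1 := hc p (c.W_le_T (c.Q_le_W hp))
    rw [mul_assoc, c.Qu_comm_Q hx hp, ← mul_assoc, ← mul_assoc] at h1
    exact mul_right_cancel h1
  obtain ⟨A, hA, rfl⟩ := hq
  have e1 := hqc _ (h.mem_Q_of isQ_quatI)
  have e2 := hqc _ (h.mem_Q_of isQ_quatJ)
  rw [h.P0_mul, h.P0_mul] at e1 e2
  have hqQu : h.P 0 0 A ∈ c.Qu := by
    rcases cent_quat A (h.inj _ _ _ _ _ _ e1).2.2 (h.inj _ _ _ _ _ _ e2).2.2 with rfl | rfl
    · rw [h.P_one]; exact one_mem _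
    · exact c.t_mem_Qu
  have hgu : h.P 0 0 A * x ∈ c.Qu := mul_mem hqQu hx
  have hgc : c.r * (h.P 0 0 A * x) * c.r⁻¹ = h.P 0 0 A * x :=
    mul_inv_eq_iff_eq_mul.2 (hc _ c.r_mem_T).symm
  exact c.inter (by rw [← hgc]; exact c.mem_Qu.1 hgu) hgu

/-- `T` is a Sylow 2-subgroup. -/
theorem exists_sylow_T : ∃ S : Sylow 2 G, (S : Subgroup G) = c.T := by
  haveI : Fact (Nat.Prime 2) := ⟨Nat.prime_two⟩
  obtain ⟨S, hS⟩ := c.isPGroup_T.exists_le_sylow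
  refine ⟨S, ((hS.eq_or_lt).resolve_right fun hlt => ?_).symm⟩
  obtain ⟨n, ⟨hnS, hnT⟩, hn⟩ := SetLike.exists_of_lt (Transfer.lt_inf_normalizer S.isPGroup' hlt)
  refine hn ?_
  have hconj : ∀ g ∈ c.T, n * g * n⁻¹ ∈ c.T := fun g hg =>
    (Subgroup.mem_normalizer_iff.1 hnT g).1 hg
  have hinv : ∀ g ∈ c.T, n⁻¹ * g * n ∈ c.T := fun g hg => by
    simpa using (Subgroup.mem_normalizer_iff.1 (inv_mem hnT) g).1 hg
  have hnt : n * h.t * n⁻¹ = h.t := by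
    refine (c.centre_T (hconj _ (c.W_le_T c.t_mem_W)) fun x hx => ?_).resolve_left
      fun e => h.t_ne_one (conj_eq_one_iff.1 e)
    have h1 : h.t * (n⁻¹ * x * n) = n⁻¹ * x * n * h.t := by
      have hk : ∀ k, Commute k h.t → ∀ w ∈ c.W, h.t * (w * k) = w * k * h.t := fun k hk w hw =>
        (Commute.mul_left (c.W_comm_t hw) hk).eq.symm
      rcases c.T_cases (hinv x hx) with h0 | h0 | h0 | h0
      · exact (c.W_comm_t h0).symm
      · have := hk c.s c.s_t _ h0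
        rwa [mul_assoc _ c.s c.s, c.s_sq, mul_one] at this
      · have := hk c.r c.r_t _ h0
        rwa [mul_assoc _ c.r c.r, c.r_sq, mul_one] at this
      · have := hk c.i c.i_t _ h0
        rwa [mul_assoc _ c.i c.i, c.i_sq, mul_one] at this
    calc n * h.t * n⁻¹ * x = n * (h.t * (n⁻¹ * x * n)) * n⁻¹ := by group
      _ = _ := by rw [h1]; group
  have hnW : ∀ w ∈ c.W, n * w * n⁻¹ ∈ c.W := by
    intro w hw
    refine (c.mem_W_iff (hconj _ (c.W_le_T hw))).2 fun x hx y hy => ?_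
    have h1 := c.W_commutator hw (c.T_commutator (hinv x hx) (hinv y hy))
    have e : ⁅n * w * n⁻¹, ⁅x, y⁆⁆ = n * ⁅w, ⁅n⁻¹ * x * n, n⁻¹ * y * n⁆⁆ * n⁻¹ := by
      simp only [commutatorElement_def]; group
    rw [e]
    rcases h1 with e1 | e1 <;> rw [e1]
    · exact Or.inl (by rw [mul_one, mul_inv_cancel])
    · exact Or.inr hnt
  have hsq : ∀ w ∈ c.W, w * w = h.t → w ∈ h.Q ∨ w ∈ c.Qu := by
    rintro _ ⟨q, hq, x, hx, rfl⟩ e
    have e' : (q * q) * (x * x) = h.t := by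
      rw [← e, show q * x * (q * x) = q * (x * q) * x by group, c.Qu_comm_Q hx hq]; group
    have hsmall : q * q = 1 ∨ q * q = h.t := by
      obtain ⟨A, hA, rfl⟩ := hq
      rw [h.P0_mul, add_zero]
      exact hA.imp (fun e => by rw [e, h.P_one]) (fun e => by rw [e]; rfl)
    rcases hsmall with e1 | e1
    · refine Or.inr ?_
      rcases h.Q_invol hq e1 with rfl | rfl
      · rwa [one_mul]
      · exact mul_mem c.t_mem_Qu hx
    · rw [e1, mul_eq_left] at e'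
      obtain ⟨q', hq', rfl⟩ := c.exists_Q_of_Qu hx
      rw [conj_mul, conj_eq_one_iff] at e'
      refine Or.inl ?_
      rcases h.Q_invol hq' e' with rfl | rfl
      · rwa [mul_one, mul_inv_cancel, mul_one]
      · rw [show c.r * h.t * c.r⁻¹ = h.t from mul_inv_eq_iff_eq_mul.2 c.r_t]
        exact mul_mem hq h.t_mem_Q
  -- an element normalizing `Q`
  have hmain : ∀ m ∈ (S : Subgroup G), m * h.t * m⁻¹ = h.t → (∀ w ∈ c.W, m * w * m⁻¹ ∈ c.W) →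
      (∀ q ∈ h.Q, m * q * m⁻¹ ∈ h.Q) → m ∈ c.T := by
    intro m hm hmt _ hmQ
    have hmN : m ∈ Subgroup.normalizer (h.Q : Set G) := Subgroup.mem_normalizer_fintype hmQ
    have hDa : m * h.a * m⁻¹ ∈ c.D := c.mem_D.2 fun q hq => by
      have hq' : m⁻¹ * q * m ∈ h.Q := by
        simpa using (Subgroup.mem_normalizer_iff.1 (inv_mem hmN) q).1 hq
      calc m * h.a * m⁻¹ * q = m * (h.a * (m⁻¹ * q * m)) * m⁻¹ := by group
        _ = m * ((m⁻¹ * q * m) * h.a) * m⁻¹ := by rw [h.Q_comm_a hq']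
        _ = _ := by group
    -- the conjugates by `r` of the elements of `D` lie in `SL(2,3)`
    let L : Subgroup G :=
      { carrier := {g | ∃ X : SL23, c.r * g * c.r⁻¹ = h.P 0 0 X}
        one_mem' := ⟨1, by rw [mul_one, mul_inv_cancel, h.P_one]⟩
        mul_mem' := by
          rintro g g' ⟨X, hX⟩ ⟨X', hX'⟩
          exact ⟨X * X', by rw [← conj_mul, hX, hX', h.P0_mul, add_zero]⟩
        inv_mem' := by
          rintro g ⟨X, hX⟩
          exact ⟨X⁻¹, by rw [← conj_inv, hX, h.P0_inv, neg_zero]⟩ }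
    have hDL : c.D ≤ L := c.D_struct.2.trans (sup_le
      (fun g hg => by
        obtain ⟨A, -, e⟩ := c.mem_Qu.1 hg
        exact ⟨A, e.symm⟩)
      (Subgroup.zpowers_le.2 ⟨upper 1, by rw [c.r_a, c.u_eq]⟩))
    obtain ⟨X, hX⟩ := hDL hDa
    have hX3 : X * X * X = 1 := by
      have h3 : h.P 0 0 X ^ 3 = 1 := by
        rw [← hX, conj_pow, conj_pow, h.J_exp h.a_mem]
        simp
      rw [h.P0_pow, ← h.P_one] at h3
      rw [← (h.inj _ _ _ _ _ _ h3).2.2, pow_succ, pow_two]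
    obtain ⟨B, hB, k, hk⟩ := exists_conj_upper X hX3
    set x := c.r * h.P 0 0 B * c.r⁻¹ with hx
    have hxu : x ∈ c.Qu := c.r_mem_Qu (h.mem_Q_of hB)
    set y := x * m with hy
    have hyS : y ∈ (S : Subgroup G) := mul_mem (hS (c.W_le_T (c.Qu_le_W hxu))) hm
    have hyt : y * h.t = h.t * y :=
      (Commute.mul_left (c.Qu_comm_t hxu) (mul_inv_eq_iff_eq_mul.1 hmt)).eq
    have hya : y * h.a * y⁻¹ ∈ Subgroup.zpowers h.a := by
      have h1 : c.r * (y * h.a * y⁻¹) * c.r⁻¹ = h.P 0 0 (upper k) := by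
        have hrx : c.r * x * c.r⁻¹ = h.P 0 0 B := c.r_conj_r _
        calc c.r * (y * h.a * y⁻¹) * c.r⁻¹
            = (c.r * x * c.r⁻¹) * (c.r * (m * h.a * m⁻¹) * c.r⁻¹) * (c.r * x * c.r⁻¹)⁻¹ := by
              rw [hy]; group
          _ = _ := by rw [hrx, hX, h.P0_inv, h.P0_mul, h.P0_mul, hk]; simp
      rw [← c.r_conj_r (y * h.a * y⁻¹), h1, ← h.jj_zk, c.r_conj]
      exact h.jj_mem_za rfl rfl
    obtain ⟨l₁, hl₁⟩ := S.isPGroup' ⟨y, hyS⟩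
    obtain ⟨l₂, hl₂⟩ := S.isPGroup' ⟨y * c.i, mul_mem hyS (hS c.i_mem_T)⟩
    have hcop : ∀ l, (2 ^ l).Coprime 3 := fun l => Nat.Coprime.pow_left _ (by norm_num)
    have hyT : y ∈ c.T := by
      rcases PSpAmalgam84.zpowers_three h.orderOf_a hya with e | e | e
      · exact absurd (conj_eq_one_iff.1 e) (fun e0 => by
          have := h.orderOf_a
          rw [e0, orderOf_one] at this
          norm_num at this)
      · exact c.W_le_T (c.Q_le_W (h.mem_Q_of_coprime (mul_inv_eq_iff_eq_mul.1 e) hyt (hcop l₁)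
          (congrArg Subtype.val hl₁)))
      · have h1 : y * c.i ∈ c.T := by
          refine c.W_le_T (c.Q_le_W (h.mem_Q_of_coprime ?_ ((Commute.mul_left hyt c.i_t).eq)
            (hcop l₂) (congrArg Subtype.val hl₂)))
          refine mul_inv_eq_iff_eq_mul.1 ?_
          rw [show y * c.i * h.a * (y * c.i)⁻¹ = y * (c.i * h.a * c.i⁻¹) * y⁻¹ by group, c.i_a,
            ← conj_inv, e, inv_inv]
        have h2 := mul_mem h1 c.i_mem_T
        rwa [mul_assoc, c.i_sq, mul_one] at h2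
    have h2 := mul_mem (inv_mem (c.W_le_T (c.Qu_le_W hxu))) hyT
    rwa [hy, inv_mul_cancel_left] at h2
  by_cases hall : ∀ q ∈ h.Q, n * q * n⁻¹ ∈ h.Q
  · exact hmain n hnS hnt hnW hall
  push Not at hall
  obtain ⟨q₁, hq₁, hq₁'⟩ := hall
  have hall' : ∀ q ∈ h.Q, n * q * n⁻¹ ∈ c.Qu := by
    have hor : ∀ q ∈ h.Q, n * q * n⁻¹ ∈ h.Q ∨ n * q * n⁻¹ ∈ c.Qu := by
      intro q hq
      obtain ⟨A, hA, rfl⟩ := hq
      rcases hA with e | e
      · rcases isQ_invol A (Or.inl e) e with rfl | rfl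
        · exact Or.inl (by rw [h.P_one, mul_one, mul_inv_cancel]; exact one_mem _)
        · exact Or.inl (by rw [show h.P 0 0 negOne = h.t from rfl, hnt]; exact h.t_mem_Q)
      · refine hsq _ (hnW _ (c.Q_le_W (h.mem_Q_of (Or.inr e)))) ?_
        rw [conj_mul, h.P0_mul, add_zero, e]
        exact hnt
    intro q hq
    by_contra hq'
    have h1 := (hor q hq).resolve_right hq'
    have h2 := (hor q₁ hq₁).resolve_left hq₁'
    rcases hor (q * q₁) (mul_mem hq hq₁) with h3 | h3 <;> rw [← conj_mul] at h3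
    · exact hq₁' ((Subgroup.mul_mem_cancel_left _ h1).1 h3)
    · exact hq' ((Subgroup.mul_mem_cancel_right _ h2).1 h3)
  have hrn : c.r * n ∈ c.T := by
    refine hmain _ (mul_mem (hS c.r_mem_T) hnS) ?_ (fun w hw => ?_) fun q hq => ?_
    · rw [show c.r * n * h.t * (c.r * n)⁻¹ = c.r * (n * h.t * n⁻¹) * c.r⁻¹ by group, hnt]
      exact mul_inv_eq_iff_eq_mul.2 c.r_t
    · rw [show c.r * n * w * (c.r * n)⁻¹ = c.r * (n * w * n⁻¹) * c.r⁻¹ by group]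
      exact c.r_W (hnW w hw)
    · rw [show c.r * n * q * (c.r * n)⁻¹ = c.r * (n * q * n⁻¹) * c.r⁻¹ by group]
      exact c.mem_Qu.1 (hall' q hq)
  have h1 := mul_mem c.r_mem_T hrn
  rwa [← mul_assoc, c.r_sq, one_mul] at h1

end BCtx

end CfsgLib.Hayden48
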