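import Cfsg.Agent.Hayden48.Fusion
import Cfsg.Agent.PSpAmalgam84.Auto
import Cfsg.Agent.SelfCentralThree.Main
import Cfsg.Agent.Classification.SimpleSixty
import Cfsg.Agent.Transfer.Residual
import Mathlib.GroupTheory.Transfer

/-!
# Subgroups invariant under `J` with a self-centralizing element of order three

A `J`-invariant subgroup in which some element of order three is self-centralizing has a normal
subgroup of order three: the exceptional shapes `A₅` and `L₂(7)` have a number of Sylow subgroups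
prime to 3, hence a `J`-invariant one, against the signalizer hypothesis.
-/

set_option autoImplicit false

open scoped Pointwise

namespace CfsgLib.Hayden48

variable {G : Type*} [Group G] [Finite G]

/-- A 3-group fixes a Sylow subgroup when their number is prime to 3. -/
theorem exists_invariant_sylow {J K : Subgroup G} (hJ : IsPGroup 3 J)
    (hn : J ≤ Subgroup.normalizer (K : Set G)) (r : ℕ) [Fact r.Prime]
    (h3 : ¬ 3 ∣ Nat.card (Sylow r K)) : ∃ W : Sylow r K,
      J ≤ Subgroup.normalizer (((W : Subgroup K).map K.subtype : Subgroup G) : Set G) := by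
  haveI : Fact (Nat.Prime 3) := ⟨Nat.prime_three⟩
  letI : MulDistribMulAction J K :=
    MulDistribMulAction.compHom K (K.normalizerMonoidHom.comp (Subgroup.inclusion hn))
  obtain ⟨W, hW⟩ := hJ.nonempty_fixed_point_of_prime_not_dvd_card (Sylow r K) h3
  refine ⟨W, fun j hj => Subgroup.mem_normalizer_fintype ?_⟩
  rintro _ ⟨w, hw, rfl⟩
  refine ⟨(⟨j, hj⟩ : J) • w, ?_, rfl⟩
  have e : ((⟨j, hj⟩ : J) • (W : Subgroup K)) = (W : Subgroup K) :=
    congrArg Sylow.toSubgroup (hW ⟨j, hj⟩)
  show (⟨j, hj⟩ : J) • w ∈ (W : Subgroup K)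
  rw [← e]
  exact Subgroup.smul_mem_pointwise_smul _ _ _ hw

/-- The normalizer of a subgroup normalizes the images of its characteristic subgroups. -/
theorem norm_map_char (K : Subgroup G) (L : Subgroup K) (hL : L.Characteristic) :
    Subgroup.normalizer (K : Set G) ≤ Subgroup.normalizer ((L.map K.subtype : Subgroup G) : Set G) := by
  intro g hg
  refine Subgroup.mem_normalizer_fintype ?_
  rintro _ ⟨l, hl, rfl⟩
  refine ⟨K.normalizerMonoidHom ⟨g, hg⟩ l, ?_, rfl⟩
  have e := Subgroup.characteristic_iff_comap_eq.1 hL (K.normalizerMonoidHom ⟨g, hg⟩)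
  rw [← e] at hl
  exact hl

/-- In a group of order sixty which is simple, the Sylow 2-subgroups number five. -/
theorem card_sylow_two_of_sixty {T : Type*} [Group T] [Finite T] [IsSimpleGroup T]
    (hT : Nat.card T = 60) : ¬ 3 ∣ Nat.card (Sylow 2 T) := by
  haveI : Fact (Nat.Prime 2) := ⟨Nat.prime_two⟩
  haveI : Fact (Nat.Prime 3) := ⟨Nat.prime_three⟩
  obtain ⟨e⟩ := Classification.nonempty_equiv_alternating_five hT
  let V : Subgroup (alternatingGroup (Fin 5)) :=
    { carrier := {g | g * g = 1 ∧ (g : Equiv.Perm (Fin 5)) 0 = 0}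
      one_mem' := ⟨one_mul _, rfl⟩
      mul_mem' := fun {a b} ha hb =>
        (show ∀ a b : alternatingGroup (Fin 5), a * a = 1 → (a : Equiv.Perm (Fin 5)) 0 = 0 →
          b * b = 1 → (b : Equiv.Perm (Fin 5)) 0 = 0 →
          (a * b) * (a * b) = 1 ∧ ((a * b : alternatingGroup (Fin 5)) : Equiv.Perm (Fin 5)) 0 = 0
          by decide +kernel) a b ha.1 ha.2 hb.1 hb.2
      inv_mem' := fun {a} ha => by rwa [inv_eq_of_mul_eq_one_right ha.1] }
  have hV : Nat.card V = 4 := by
    rw [show Nat.card V = Nat.card {g : alternatingGroup (Fin 5) //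
      g * g = 1 ∧ (g : Equiv.Perm (Fin 5)) 0 = 0} from rfl, Nat.card_eq_fintype_card]
    decide +kernel
  obtain ⟨c, hc, hc1, hcV⟩ : ∃ c : alternatingGroup (Fin 5), c ^ 3 = 1 ∧ c ≠ 1 ∧
      ∀ g : alternatingGroup (Fin 5), (g * g = 1 ∧ (g : Equiv.Perm (Fin 5)) 0 = 0) →
        (c * g * c⁻¹) * (c * g * c⁻¹) = 1 ∧
          ((c * g * c⁻¹ : alternatingGroup (Fin 5)) : Equiv.Perm (Fin 5)) 0 = 0 :=
    ⟨⟨Equiv.swap 1 2 * Equiv.swap 2 3, by rw [Equiv.Perm.mem_alternatingGroup]; decide⟩,
      by decide +kernel⟩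
  set W := V.map e.symm.toMonoidHom with hW
  have hWc : Nat.card W = 2 ^ 2 := by
    rw [hW, Subgroup.card_map_of_injective e.symm.injective, hV]
    rfl
  obtain ⟨P, hP⟩ := (IsPGroup.of_card hWc).exists_le_sylow
  have hPc : Nat.card (P : Subgroup T) = 2 ^ 2 :=
    Small.card_sylow_eq (k := 2) (m := 15) (by rw [hT]; norm_num) (by norm_num) P
  have hPW : W = (P : Subgroup T) := Subgroup.eq_of_le_of_card_ge hP (by rw [hWc, hPc])
  have hcN : e.symm c ∈ Subgroup.normalizer ((P : Subgroup T) : Set T) := by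
    rw [← hPW]
    refine Subgroup.mem_normalizer_fintype ?_
    rintro _ ⟨g, hg, rfl⟩
    exact ⟨c * g * c⁻¹, hcV g hg, by simp⟩
  have h3 : 3 ∣ Nat.card (Subgroup.normalizer (P : Set T)) := by
    have ho : orderOf (e.symm c) = 3 := by
      rw [MulEquiv.orderOf_eq]
      exact orderOf_eq_prime hc hc1
    exact ho ▸ Subgroup.orderOf_dvd_natCard _ hcN
  intro hd
  rw [P.card_eq_index_normalizer] at hd
  have h9 := mul_dvd_mul h3 hd
  rw [Subgroup.card_mul_index, hT] at h9
  norm_num at h9

/-- A simple group of order 168 has a number of Sylow 7-subgroups prime to 3. -/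
theorem card_sylow_seven_of_168 {T : Type*} [Group T] [Finite T] [Fact (Nat.Prime 7)]
    (hT : Nat.card T = 168) : ¬ 3 ∣ Nat.card (Sylow 7 T) := by
  obtain ⟨P⟩ : Nonempty (Sylow 7 T) := inferInstance
  have h1 := card_sylow_modEq_one 7 T
  have h2 : Nat.card (Sylow 7 T) ∣ 24 := by
    have := P.card_dvd_index
    have hm := Subgroup.card_mul_index (P : Subgroup T)
    rw [Small.card_sylow_eq (k := 1) (m := 24) (by rw [hT]; norm_num) (by norm_num) P, hT] at hm
    rwa [show (P : Subgroup T).index = 24 by omega] at this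
  have hle := Nat.le_of_dvd (by norm_num) h2
  intro hd
  unfold Nat.ModEq at h1
  generalize Nat.card (Sylow 7 T) = n at *
  interval_cases n <;> omega

/-- An element of order three whose conjugation preserves `⟨e⟩` centralizes `e`. -/
theorem comm_of_cube {e x : G} (he : orderOf e = 3) (hx : x ^ 3 = 1)
    (hn : x * e * x⁻¹ ∈ Subgroup.zpowers e) : x * e = e * x := by
  rcases PSpAmalgam84.zpowers_three he hn with h | h | h
  · rw [conj_eq_one_iff] at h
    rw [h, mul_one, one_mul]
  · exact mul_inv_eq_iff_eq_mul.1 h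
  · exfalso
    apply PSpAmalgam84.inv_ne_self he
    have e3 : x ^ 3 * e * (x ^ 3)⁻¹ = e⁻¹ := by
      have h' : x * e⁻¹ * x⁻¹ = e := by rw [← conj_inv, h, inv_inv]
      calc x ^ 3 * e * (x ^ 3)⁻¹ = x * (x * (x * e * x⁻¹) * x⁻¹) * x⁻¹ := by
            simp only [pow_succ, pow_zero, one_mul]; group
        _ = x * (x * e⁻¹ * x⁻¹) * x⁻¹ := by rw [h]
        _ = e⁻¹ := by rw [h', h]
    rw [hx, one_mul, inv_one, mul_one] at e3
    exact e3.symm

/-- A transfer argument: central elements of `3`-power order in an abelian Sylow 3-subgroup avoid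
the commutator subgroup. -/
theorem eq_one_of_central_commutator {X : Type*} [Group X] [Finite X] [Fact (Nat.Prime 3)]
    (T : Sylow 3 X) (hT : IsMulCommutative (T : Subgroup X)) {x : X} (hxT : x ∈ (T : Subgroup X))
    (hxc : ∀ g, g * x = x * g) (hx : x ∈ commutator X) : x = 1 := by
  letI : CommGroup (T : Subgroup X) :=
    { (inferInstance : Group (T : Subgroup X)) with mul_comm := fun a b => hT.is_comm.comm a b }
  have key : ∀ (k : ℕ) (g₀ : X), g₀⁻¹ * x ^ k * g₀ ∈ (T : Subgroup X) →
      g₀⁻¹ * x ^ k * g₀ = x ^ k := fun k g₀ _ => by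
    rw [mul_assoc, ← ((Commute.pow_right (hxc g₀) k)).eq, inv_mul_cancel_left]
  have h1 : MonoidHom.transfer (MonoidHom.id (T : Subgroup X)) x = 1 :=
    MonoidHom.mem_ker.1 (Abelianization.commutator_subset_ker _ hx)
  rw [MonoidHom.transfer_eq_pow _ x key, MonoidHom.id_apply, Subtype.ext_iff] at h1
  rw [OneMemClass.coe_one] at h1
  obtain ⟨k, hk⟩ := T.isPGroup' ⟨x, hxT⟩
  have hk' : x ^ 3 ^ k = 1 := congrArg Subtype.val hk
  have h2 := Nat.dvd_gcd (orderOf_dvd_of_pow_eq_one hk') (orderOf_dvd_of_pow_eq_one h1)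
  rw [Nat.coprime_iff_gcd_eq_one.1 (Nat.Coprime.pow_left k
    ((Nat.Prime.coprime_iff_not_dvd Nat.prime_three).2 T.not_dvd_index)), Nat.dvd_one] at h2
  exact orderOf_eq_one_iff.1 h2

namespace Hyp

variable (h : Hyp G)

theorem isPGroup_J : IsPGroup 3 h.J := IsPGroup.of_card (n := 3) (by rw [h.card_J]; norm_num)

/-- Normal 3'-subgroups of subnormal subgroups of a `J`-invariant subgroup are trivial. -/
theorem core_bot {M L U : Subgroup G} (hJ : h.J ≤ Subgroup.normalizer (M : Set G)) (hLM : L ≤ M)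
    (hML : M ≤ Subgroup.normalizer (L : Set G)) (hUL : U ≤ L)
    (hLU : L ≤ Subgroup.normalizer (U : Set G)) (hU : (Nat.card U).Coprime 3) : U = ⊥ := by
  have hcard : ∀ (L : Subgroup G) (U : Subgroup L),
      Nat.card (U.map L.subtype) = Nat.card U := fun L U =>
    Subgroup.card_map_of_injective L.subtype_injective
  set V := (Cfsg.pPrimeCore 3 L).map L.subtype with hV
  have hUV : U ≤ V := fun u hu => ⟨⟨u, hUL hu⟩,
    SelfCentralizing.le_core (S := U.subgroupOf L) 3
      ((Subgroup.normal_subgroupOf_iff_le_normalizer hUL).2 hLU)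
      (by rw [Nat.card_congr (Subgroup.subgroupOfEquivOfLe hUL).toEquiv]; exact hU)
      (Subgroup.mem_subgroupOf.2 hu), rfl⟩
  have hVM : V ≤ M := (Subgroup.map_subtype_le _).trans hLM
  set W := (Cfsg.pPrimeCore 3 M).map M.subtype with hW
  have hVW : V ≤ W := fun v hv => ⟨⟨v, hVM hv⟩,
    SelfCentralizing.le_core (S := V.subgroupOf M) 3
      ((Subgroup.normal_subgroupOf_iff_le_normalizer hVM).2
        (hML.trans (norm_map_char L _ (SelfCentralizing.core_characteristic 3))))
      (by rw [Nat.card_congr (Subgroup.subgroupOfEquivOfLe hVM).toEquiv, hV, hcard]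
          exact (SelfCentralizing.core_spec 3).2)
      (Subgroup.mem_subgroupOf.2 hv), rfl⟩
  have hW0 : W = ⊥ := h.sig _ (by rw [hW, hcard]; exact (SelfCentralizing.core_spec 3).2)
    (hJ.trans (norm_map_char M _ (SelfCentralizing.core_characteristic 3)))
  exact le_bot_iff.1 (hW0 ▸ hUV.trans hVW)

/-- The shapes of a subnormal subgroup with a self-centralizing element of order three. -/
theorem shape_cases {M L : Subgroup G} (hJ : h.J ≤ Subgroup.normalizer (M : Set G)) (hLM : L ≤ M)
    (hML : M ≤ Subgroup.normalizer (L : Set G)) {e : G} (heL : e ∈ L) (he : orderOf e = 3)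
    (hc : ∀ g ∈ L, g * e = e * g → g ∈ Subgroup.zpowers e) :
    (∀ g ∈ L, g * e * g⁻¹ ∈ Subgroup.zpowers e) ∨
      (IsSimpleGroup L ∧ (Nat.card L = 60 ∨ Nat.card L = 168)) := by
  have hh : SelfCentralizing.Hyp L 3 ⟨e, heL⟩ := by
    refine ⟨Nat.prime_three, by rwa [Subgroup.orderOf_mk], le_antisymm (fun g hg => ?_)
      (Subgroup.zpowers_le.2 (Subgroup.mem_centralizer_singleton_iff.2 rfl))⟩
    obtain ⟨i, hi⟩ := Subgroup.mem_zpowers_iff.1
      (hc g g.2 (congrArg Subtype.val (Subgroup.mem_centralizer_singleton_iff.1 hg)))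
    exact Subgroup.mem_zpowers_iff.2 ⟨i, Subtype.ext (by simp [hi])⟩
  have hbot : ∀ N : Subgroup L, N.Normal → (Nat.card N).Coprime 3 → N = ⊥ := by
    intro N hN hco
    have := h.core_bot hJ hLM hML (Subgroup.map_subtype_le N)
      (fun g hg => Subgroup.mem_normalizer_fintype (by
        rintro _ ⟨n, hn, rfl⟩
        exact ⟨⟨g, hg⟩ * n * ⟨g, hg⟩⁻¹, hN.conj_mem n hn _, rfl⟩))
      (by rwa [Subgroup.card_map_of_injective L.subtype_injective])
    exact (Subgroup.map_eq_bot_iff_of_injective N L.subtype_injective).1 this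
  rcases SelfCentralThree.shape hh with ⟨N, hN, -, hco, hi⟩ | ⟨N, hN, -, hexp, hi, hs⟩ | ⟨hc1, hs⟩
  · left
    rw [hbot N hN hco, Subgroup.index_bot] at hi
    intro g hg
    set E := Subgroup.zpowers (⟨e, heL⟩ : L) with hE
    have hEc : Nat.card E = 3 := hh.card_zpowers
    haveI : E.Normal := by
      have hm := E.card_mul_index
      rw [hEc] at hm
      rcases hi with e1 | e1
      · rw [e1] at hm
        rw [Subgroup.index_eq_one.1 (show E.index = 1 by omega)]
        infer_instance
      · rw [e1] at hm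
        exact Subgroup.normal_of_index_eq_two (by omega)
    obtain ⟨i, hi'⟩ := Subgroup.mem_zpowers_iff.1
      ((inferInstance : E.Normal).conj_mem _ (Subgroup.mem_zpowers _) ⟨g, hg⟩)
    exact Subgroup.mem_zpowers_iff.2 ⟨i, by simpa using congrArg Subtype.val hi'⟩
  · right
    haveI : Fact (Nat.Prime 3) := ⟨Nat.prime_three⟩
    have hco : (Nat.card N).Coprime 3 := by
      refine Nat.Coprime.symm ((Nat.Prime.coprime_iff_not_dvd Nat.prime_three).2 fun hd => ?_)
      obtain ⟨x, hx⟩ := exists_prime_orderOf_dvd_card' 3 hd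
      have := orderOf_dvd_of_pow_eq_one (Subtype.ext (hexp x x.2) : x ^ 2 = 1)
      rw [hx] at this
      norm_num at this
    obtain rfl := hbot N hN hco
    rw [Subgroup.index_bot] at hi
    exact ⟨@QuotientGroup.quotientBot L _ |>.symm.isSimpleGroup, Or.inl hi⟩
  · exact Or.inr ⟨hs, Or.inr hc1⟩

/-- A self-centralizing element of order three of a `J`-invariant subgroup generates a subgroup
invariant under its normalizer. -/
theorem self_three {K : Subgroup G} (hJ : h.J ≤ Subgroup.normalizer (K : Set G)) {e : G}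
    (heK : e ∈ K) (he : orderOf e = 3) (hc : ∀ g ∈ K, g * e = e * g → g ∈ Subgroup.zpowers e)
    {g : G} (hg : g ∈ Subgroup.normalizer (K : Set G)) : g * e * g⁻¹ ∈ Subgroup.zpowers e := by
  rcases h.shape_cases hJ le_rfl Subgroup.le_normalizer heK he hc with hn | ⟨hs, hk⟩
  · have hm : g * e * g⁻¹ ∈ K := (Subgroup.mem_normalizer_iff.1 hg e).1 heK
    refine hc _ hm (comm_of_cube he ?_ (hn _ hm))
    rw [conj_pow, ← he, pow_orderOf_eq_one, mul_one, mul_inv_cancel]
  · exfalso
    haveI : Fact (Nat.Prime 3) := ⟨Nat.prime_three⟩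
    suffices ∀ r : ℕ, ∀ _ : Fact r.Prime, r ≠ 3 → r ∣ Nat.card K →
        ¬ 3 ∣ Nat.card (Sylow r K) → False by
      rcases hk with hk | hk
      · exact this 2 ⟨Nat.prime_two⟩ (by norm_num) (by rw [hk]; norm_num) (card_sylow_two_of_sixty hk)
      · have h7 : Fact (Nat.Prime 7) := ⟨by norm_num⟩
        exact this 7 h7 (by norm_num) (by rw [hk]; norm_num) (card_sylow_seven_of_168 hk)
    intro r hr hr3 hdvd hn
    obtain ⟨W, hW⟩ := exists_invariant_sylow h.isPGroup_J hJ r hn
    obtain ⟨k, hk⟩ := IsPGroup.iff_card.1 W.isPGroup'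
    have hb := h.sig _ (by
      rw [Subgroup.card_map_of_injective K.subtype_injective, hk]
      exact Nat.Coprime.pow_left k ((Nat.coprime_primes hr.out Nat.prime_three).2 hr3)) hW
    exact W.ne_bot_of_dvd_card hdvd ((Subgroup.map_eq_bot_iff_of_injective _ K.subtype_injective).1 hb)

end Hyp

end CfsgLib.Hayden48
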