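import Cfsg.Agent.Hayden48.Assemble

/-!
# The recognition by a three-local subgroup, up to the symplectic case
-/

set_option autoImplicit false

namespace CfsgLib.Hayden48

/-- The theorem, given the identification in the case without a subgroup of index two. -/
theorem main_of_six {G : Type*} [Group G] [Finite G]
    (a : G) (ha : orderOf a = 3) (C : Subgroup G) (hC : C = Subgroup.centralizer ({a} : Set G))
    (hR : Cfsg.IsExtraspecial 3 (Cfsg.pCore 3 C)) (hRcard : Nat.card (Cfsg.pCore 3 C) = 27)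
    (hRexp : ∀ r ∈ Cfsg.pCore 3 C, r ^ 3 = 1)
    (e : C ⧸ Cfsg.pCore 3 C ≃* Matrix.SpecialLinearGroup (Fin 2) (ZMod 3))
    (J : Subgroup G) (hJC : J ≤ C) (hJcomm : IsMulCommutative J) (hJexp : ∀ j ∈ J, j ^ 3 = 1)
    (hJcard : Nat.card J = 27)
    (hJsig : ∀ K : Subgroup G, (Nat.card K).Coprime 3 →
      (∀ j ∈ J, K.map (MulAut.conj j).toMonoidHom = K) → K = ⊥)
    {F : Type*} [Field F] [Fintype F] (hF : Fintype.card F = 3) {S : Type*} [Group S]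
    (hsix : ∀ k : Hyp G, (∀ p, k.O p ↔ p ∈ eight 0) → (∀ K : Subgroup G, K.index ≠ 2) →
      Nonempty (k.Cv vc ⧸ k.Uv vc ≃* Equiv.Perm (Fin 6)) → Nonempty (G ≃* S)) :
    ((∀ g : G, g * a * g⁻¹ ≠ a⁻¹) →
      (∃ N : Subgroup G, N.Normal ∧ N.index = 3) ∨ Nonempty (G ≃* Cfsg.PSp 2 F)) ∧
    ((∃ g : G, g * a * g⁻¹ = a⁻¹) →
      Subgroup.normalizer (Subgroup.zpowers a : Set G) = ⊤ ∨
        Nonempty (G ≃* MulAut (Cfsg.PSp 2 F)) ∨ Nonempty (G ≃* S)) := by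
  obtain ⟨h, rfl⟩ := exists_hyp a ha C hC hR hRcard hRexp e J hJC hJcomm hJexp hJcard hJsig
  refine ⟨fun hn => h.nonreal hF fun hO => ?_, fun hr => ?_⟩
  · obtain ⟨g, hg⟩ := isConj_iff.1 (h.O_nva_iff.1 hO)
    exact hn g hg
  · obtain ⟨g, hg⟩ := hr
    rcases h.real_cases hF (h.O_nva_iff.2 (isConj_iff.2 ⟨g, hg⟩)) with h1 | h1 | ⟨k, hk, hi, hs⟩
    · exact Or.inl h1
    · exact Or.inr (Or.inl h1)
    · exact Or.inr (Or.inr (hsix k hk hi hs))

end CfsgLib.Hayden48
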