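import Cfsg.Agent.Hayden48.Weak

/-!
# Eight conjugates: the monomial group and lifts of its involutions
-/

set_option autoImplicit false
set_option maxRecDepth 100000

namespace CfsgLib.Hayden48

open Matrix
open CfsgLib.HeisenbergSL (SL23 det2 upper negOne)

/-- Triples of images of the basis `(0,1,0)`, `(0,0,1)`, `(2,2,1)`. -/
abbrev Tr := V3 × V3 × V3

/-- The linear map with given images of the basis. -/
def lmap (T : Tr) (v : V3) : V3 :=
  (v.2.1 - v.1).val • T.1 + (v.2.2 + v.1).val • T.2.1 + (-v.1).val • T.2.2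

/-- The linear maps preserving the eight conjugates. -/
def goods : Finset Tr :=
  ((eight 0) ×ˢ ((eight 0) ×ˢ (eight 0))).filter fun T =>
    (∀ v ∈ eight 0, lmap T v ∈ eight 0) ∧ ∀ v, lmap T v = 0 → v = 0

theorem card_goods : goods.card = 48 := by decide +kernel

/-- The triple of a map. -/
def tr (f : V3 → V3) : Tr := (f va, f (0, 0, 1), f (2, 2, 1))

theorem basis_mem : va ∈ eight 0 ∧ ((0, 0, 1) : V3) ∈ eight 0 ∧ ((2, 2, 1) : V3) ∈ eight 0 := by
  decide +kernel

theorem lmap_spec (f : V3 → V3) (hf : ∀ p r, f (p + r) = f p + f r) (v : V3) :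
    f v = lmap (tr f) v := by
  have h0 : f 0 = 0 := by
    have e := hf 0 0
    rw [add_zero] at e
    exact left_eq_add.1 e
  have hn : ∀ (n : ℕ) r, f (n • r) = n • f r := fun n r => by
    induction n with
    | zero => rw [zero_smul, zero_smul, h0]
    | succ n ih => rw [succ_nsmul, succ_nsmul, hf, ih]
  conv_lhs => rw [show v = lmap (va, (0, 0, 1), (2, 2, 1)) v from
    (show ∀ v : V3, v = lmap (va, (0, 0, 1), (2, 2, 1)) v by decide +kernel) v]
  simp only [lmap, tr, hf, hn]

/-- The reflection inverting `c₁`. -/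
def fR (p : V3) : V3 := (p.1, p.2.2, p.2.1)

/-- The exchange of `c₂` and `c₃`. -/
def fT (p : V3) : V3 := (-p.1, p.2.1, p.2.2)

/-- The product of the reflections inverting `c₂` and `c₃`. -/
def fS (p : V3) : V3 := (-p.1, -p.2.2, -p.2.1)

theorem fT_eq : ∀ p : V3, wmap (-1) 0 p = fT p := by decide +kernel

theorem tr_mem : tr fR ∈ goods ∧ tr fS ∈ goods := by decide +kernel

theorem fR_eq : ∀ v, lmap (tr fR) v = fR v := by decide +kernel

theorem fS_eq : ∀ v, lmap (tr fS) v = fS v := by decide +kernel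

theorem nsmul_three : ∀ v : V3, (3 : ℕ) • v = 0 := by decide +kernel

namespace Hyp

variable {G : Type*} [Group G] [Finite G] (h : Hyp G)

theorem card_H_eight (hO : ∀ p, h.O p ↔ p ∈ eight 0) : Nat.card h.H = 1296 := by
  rw [h.card_H, show h.Os = eight 0 from Finset.ext fun p => (h.mem_Os).trans (hO p), eight_card]

theorem tr_act_mem (hO : ∀ p, h.O p ↔ p ∈ eight 0) (g : h.H) : tr (h.act g) ∈ goods := by
  have hm : ∀ v ∈ eight 0, h.act g v ∈ eight 0 := fun v hv => (hO _).1 (h.O_act.2 ((hO v).2 hv))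
  refine Finset.mem_filter.2 ⟨Finset.mem_product.2 ⟨hm _ basis_mem.1,
    Finset.mem_product.2 ⟨hm _ basis_mem.2.1, hm _ basis_mem.2.2⟩⟩, fun v hv => ?_, fun v hv => ?_⟩
  · rw [← lmap_spec _ (h.act_add g)]
    exact hm v hv
  · rw [← lmap_spec _ (h.act_add g)] at hv
    exact h.act_inj g (hv.trans (h.act_zero g).symm)

theorem mem_J_of_act {g : h.H} (hg : ∀ p, h.act g p = p) : (g : G) ∈ h.J :=
  h.mem_J_of_fix fun p => by rw [← h.jj_act, hg]

theorem act_of_mem {g : h.H} (hg : (g : G) ∈ h.J) (p : V3) : h.act g p = p :=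
  h.act_eq (by rw [h.J_comm hg (h.jj_mem p), mul_inv_cancel_right])

/-- Every map preserving the eight conjugates is induced by an element of `H`. -/
theorem exists_act_good (hO : ∀ p, h.O p ↔ p ∈ eight 0) {T : Tr} (hT : T ∈ goods) :
    ∃ g : h.H, ∀ v, h.act g v = lmap T v := by
  classical
  let K := h.J.subgroupOf h.H
  have hwd : ∀ g k : h.H, QuotientGroup.leftRel K g k → tr (h.act g) = tr (h.act k) := by
    intro g k e
    have e' : ∀ p, h.act g p = h.act k p := fun p => by
      have := h.act_of_mem (Subgroup.mem_subgroupOf.1 (QuotientGroup.leftRel_apply.1 e)) p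
      conv_rhs => rw [← mul_inv_cancel_left g k, h.act_mul, this]
    simp only [tr, e']
  let F : h.H ⧸ K → goods := fun q => Quotient.liftOn' q
    (fun g => (⟨tr (h.act g), h.tr_act_mem hO g⟩ : goods)) fun g k e => Subtype.ext (hwd g k e)
  have hF : Function.Injective F := by
    intro q r e
    induction q using QuotientGroup.induction_on with
    | H g =>
      induction r using QuotientGroup.induction_on with
      | H k =>
        have e' : tr (h.act g) = tr (h.act k) := congrArg Subtype.val e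
        refine QuotientGroup.eq.2 (Subgroup.mem_subgroupOf.2 (h.mem_J_of_act fun p => ?_))
        rw [h.act_mul]
        refine h.act_inj g ?_
        rw [← h.act_mul, mul_inv_cancel, h.act_one, lmap_spec _ (h.act_add k), ← e',
          ← lmap_spec _ (h.act_add g)]
  have hc : Nat.card (h.H ⧸ K) = Nat.card goods := by
    have := Subgroup.card_eq_card_quotient_mul_card_subgroup K
    rw [h.card_H_eight hO, Nat.card_congr (Subgroup.subgroupOfEquivOfLe h.J_le_H).toEquiv,
      h.card_J] at this
    rw [Nat.card_eq_finsetCard, card_goods]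
    omega
  obtain ⟨q, hq⟩ := ((Nat.bijective_iff_injective_and_card F).2 ⟨hF, hc⟩).2 ⟨T, hT⟩
  induction q using QuotientGroup.induction_on with
  | H g =>
    refine ⟨g, fun v => ?_⟩
    rw [lmap_spec _ (h.act_add g), show tr (h.act g) = T from congrArg Subtype.val hq]

/-- An involutory map commuting with the actions of given commuting involutions lifts to an
element of square one commuting with them. -/
theorem exists_lift {f : V3 → V3} (hf : ∃ g : h.H, ∀ v, h.act g v = f v) (hff : ∀ v, f (f v) = v) :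
    ∃ g : h.H, g * g = 1 ∧ ∀ v, h.act g v = f v := by
  obtain ⟨g, hg⟩ := hf
  have hJ : ((g * g : h.H) : G) ∈ h.J := h.mem_J_of_act fun p => by rw [h.act_mul, hg, hg, hff]
  refine ⟨g * (g * g), ?_, fun v => by rw [h.act_mul, h.act_mul, hg, hg, hg, hff]⟩
  have h3 : (g * g) ^ 3 = 1 := Subtype.ext (h.J_exp hJ)
  rw [← h3]
  simp only [pow_succ, pow_zero, one_mul, mul_assoc]

/-- An involution of `H` can be corrected in `J` to commute with a given one. -/
theorem exists_lift_comm {g s : h.H} (hg : g * g = 1) (hs : s * s = 1)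
    (hc : ∀ v, h.act g (h.act s v) = h.act s (h.act g v)) :
    ∃ k : h.H, k * k = 1 ∧ (∀ v, h.act k v = h.act g v) ∧ k * s = s * k ∧
      ∀ r : h.H, r * r = 1 → r * g = g * r → r * s = s * r → r * k = k * r := by
  have hgi : g⁻¹ = g := inv_eq_of_mul_eq_one_right hg
  have hsi : s⁻¹ = s := inv_eq_of_mul_eq_one_right hs
  set j := s * g * s * g with hj
  have hJ : (j : G) ∈ h.J := h.mem_J_of_act fun p => by
    rw [hj, h.act_mul, h.act_mul, h.act_mul, hc, ← h.act_mul g g, hg, h.act_one, ← h.act_mul, hs,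
      h.act_one]
  have hj3 : j ^ 3 = 1 := Subtype.ext (h.J_exp hJ)
  have hjinv : j * j = j⁻¹ := eq_inv_of_mul_eq_one_left (by rw [← hj3]; simp [pow_succ, mul_assoc])
  have h1 : g * j * g = j⁻¹ := by
    rw [hj, _root_.mul_inv_rev, _root_.mul_inv_rev, _root_.mul_inv_rev, hgi, hsi]
    calc g * (s * g * s * g) * g = g * s * g * s * (g * g) := by simp only [mul_assoc]
      _ = _ := by rw [hg, mul_one]; simp only [mul_assoc]
  have h2 : s * j * s = j⁻¹ := by
    rw [hj, _root_.mul_inv_rev, _root_.mul_inv_rev, _root_.mul_inv_rev, hgi, hsi]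
    calc s * (s * g * s * g) * s = (s * s) * g * s * g * s := by simp only [mul_assoc]
      _ = _ := by rw [hs, one_mul]; simp only [mul_assoc]
  refine ⟨j⁻¹ * g, ?_, fun v => ?_, ?_, ?_⟩
  · have e : g * j⁻¹ * g = j := by
      have := congrArg Inv.inv h1
      rwa [_root_.mul_inv_rev, _root_.mul_inv_rev, hgi, inv_inv, ← mul_assoc] at this
    calc j⁻¹ * g * (j⁻¹ * g) = j⁻¹ * (g * j⁻¹ * g) := by simp only [mul_assoc]
      _ = 1 := by rw [e, inv_mul_cancel]
  · rw [h.act_mul, h.act_of_mem (by rw [Subgroup.coe_inv]; exact inv_mem hJ)]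
  · have e : s * (j⁻¹ * g) * s = j⁻¹ * g := by
      have hsgs : s * g * s = j * g := by
        rw [hj, mul_assoc (s * g * s) g g, hg, mul_one]
      have hsjs : s * j⁻¹ * s = j := by
        have := congrArg Inv.inv h2
        rwa [_root_.mul_inv_rev, _root_.mul_inv_rev, hsi, inv_inv, ← mul_assoc] at this
      calc s * (j⁻¹ * g) * s = s * j⁻¹ * (s * s) * g * s := by rw [hs, mul_one, mul_assoc s j⁻¹ g]
        _ = (s * j⁻¹ * s) * (s * g * s) := by simp only [mul_assoc]
        _ = j * j * g := by rw [hsjs, hsgs]; exact (mul_assoc j j g).symm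
        _ = _ := by rw [hjinv]
    calc j⁻¹ * g * s = s * (j⁻¹ * g) * s * s := by rw [e]
      _ = _ := by rw [mul_assoc, hs, mul_one]
  · intro r _ hrg hrs
    exact ((show Commute r j from ((Commute.mul_right (Commute.mul_right hrs hrg) hrs).mul_right hrg)).inv_right.mul_right hrg)

end Hyp

end CfsgLib.Hayden48
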