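import Cfsg.Agent.Hayden48.Fusion
import Mathlib.GroupTheory.SpecificGroups.Cyclic

/-!
# The conjugates of `a` in `J`
-/

set_option autoImplicit false

namespace CfsgLib.Hayden48

open Matrix
open CfsgLib.HeisenbergSL (SL23 det2 upper negOne)

/-- The base point. -/
def va : V3 := (0, 1, 0)

/-- A point of `R ∩ J` outside the base line. -/
def vu : V3 := (1, 0, 0)

/-- The representative of an orbit of the stabiliser. -/
def rep (p : V3) : V3 :=
  if p.2.2 ≠ 0 then (0, (wmap 1 (p.2.2 * p.1) p).2.1, p.2.2)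
  else if p.1 = 0 then p else vu

theorem rep_spec : ∀ p : V3, ∃ ε q : ZMod 3, ε ≠ 0 ∧ wmap ε q p = rep p := by decide +kernel

theorem rep_neg_U : ∀ p : V3, p.2.2 = 0 → p.1 ≠ 0 → rep p = vu ∧ rep (-p) = vu := by decide +kernel

/-- The nine orbits, with their sizes. -/
theorem rep_sizes : ∀ r : V3, (Finset.univ.filter fun p : V3 => rep p = r).card =
    if r = 0 ∨ r = va ∨ r = -va then 1
    else if r = vu then 6 else if r.1 = 0 ∧ r.2.2 ≠ 0 then 3 else 0 := by decide +kernel

theorem qz_neg : ∀ z k : ZMod 3, k ≠ 0 → rep (-((0, z, k) : V3)) = (0, -z, -k) := by decide +kernel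

/-- The orbit of `(0,z,-1)` with the base point. -/
def four (z : ZMod 3) : Finset V3 :=
  Finset.univ.filter fun p => rep p = va ∨ rep p = (0, z, -1)

/-- The four points and their inverses. -/
def eight (z : ZMod 3) : Finset V3 :=
  Finset.univ.filter fun p => rep p = va ∨ rep p = -va ∨ rep p = (0, z, -1) ∨ rep p = (0, -z, 1)

theorem sum_plus : ∀ z : ZMod 3,
    (∑ p ∈ Finset.univ.filter fun p : V3 => rep p = va ∨ rep p = (0, z, 1), p) = -va := by
  decide +kernel

/-- A map of the type of a conjugate of `y` fixing `(1,0,0)`. -/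
def ymap (b μ ν : ZMod 3) (p : V3) : V3 :=
  (p.1 + b * p.2.1 + μ * p.2.2, p.2.1 + ν * p.2.2, p.2.2)

/-- The word which inverts `R ∩ J`. -/
def qmap (b μ ν : ZMod 3) (p : V3) : V3 :=
  let Y1 : V3 → V3 := fun r => if b = 1 then ymap b μ ν r else ymap b μ ν (ymap b μ ν r)
  let f : V3 → V3 := fun r => wmap 1 1 (Y1 (wmap 1 1 r))
  f (f p)

theorem qmap_key : ∀ b μ ν : ZMod 3, b ≠ 0 → qmap b μ ν vu = -vu ∧ qmap b μ ν va = -va ∧
    ∃ p, qmap b μ ν (wmap 1 1 p) ≠ wmap 1 1 (qmap b μ ν p) := by decide +kernel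

theorem linear_expand (f : V3 → V3) (hf : ∀ p r, f (p + r) = f p + f r) (p : V3) :
    f p = p.1.val • f vu + p.2.1.val • f va + p.2.2.val • f (0, 0, 1) := by
  have h0 : f 0 = 0 := by
    have e := hf 0 0
    rw [add_zero] at e
    exact left_eq_add.1 e
  have hn : ∀ (n : ℕ) r, f (n • r) = n • f r := fun n r => by
    induction n with
    | zero => rw [zero_smul, zero_smul, h0]
    | succ n ih => rw [succ_nsmul, succ_nsmul, hf, ih]
  conv_lhs => rw [show p = p.1.val • vu + p.2.1.val • va + p.2.2.val • ((0, 0, 1) : V3) from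
    (show ∀ p : V3, p = p.1.val • vu + p.2.1.val • va + p.2.2.val • ((0, 0, 1) : V3) by
      decide +kernel) p]
  rw [hf, hf, hn, hn, hn]

theorem borel_inj : ∀ ε β ε' β' : ZMod 3, ε ≠ 0 → ε' ≠ 0 → borel ε β = borel ε' β' →
    ε = ε' ∧ β = β' := by decide +kernel

namespace Hyp

variable {G : Type*} [Group G] (h : Hyp G)

/-- The conjugates of `a` in `J`. -/
def O (p : V3) : Prop := IsConj h.a (h.jj p)

theorem O_a : h.O va := by rw [O, va, h.jj_a]

/-- The action of an element of `H` on the coordinates. -/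
noncomputable def act (g : h.H) (p : V3) : V3 :=
  (h.exists_jj (h.conj_mem g.2 (h.jj_mem p))).choose

theorem jj_act (g : h.H) (p : V3) : h.jj (h.act g p) = g * h.jj p * (g : G)⁻¹ :=
  (h.exists_jj (h.conj_mem g.2 (h.jj_mem p))).choose_spec

theorem act_eq {g : h.H} {p r : V3} (e : (g : G) * h.jj p * (g : G)⁻¹ = h.jj r) : h.act g p = r :=
  h.jj_inj ((h.jj_act g p).trans e)

theorem act_add (g : h.H) (p r : V3) : h.act g (p + r) = h.act g p + h.act g r := by
  refine h.act_eq ?_
  rw [← h.jj_mul, ← h.jj_mul, h.jj_act, h.jj_act]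
  group

theorem act_mul (g k : h.H) (p : V3) : h.act (g * k) p = h.act g (h.act k p) := by
  refine h.act_eq ?_
  rw [h.jj_act, h.jj_act, Subgroup.coe_mul]
  group

theorem act_one (p : V3) : h.act 1 p = p := h.act_eq (by simp)

theorem act_inj (g : h.H) : Function.Injective (h.act g) := fun p r e => by
  rw [← h.act_one p, ← h.act_one r, ← inv_mul_cancel g, h.act_mul, h.act_mul, e]

theorem act_zero (g : h.H) : h.act g 0 = 0 := h.act_eq (by simp [h.jj_zero])

theorem act_neg (g : h.H) (p : V3) : h.act g (-p) = - h.act g p := by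
  refine eq_neg_of_add_eq_zero_left ?_
  rw [← h.act_add, neg_add_cancel, h.act_zero]

theorem O_act {g : h.H} {p : V3} : h.O (h.act g p) ↔ h.O p := by
  have hc : IsConj (h.jj p) (h.jj (h.act g p)) := isConj_iff.2 ⟨g, (h.jj_act g p).symm⟩
  exact ⟨fun hp => hp.trans hc.symm, fun hp => hp.trans hc⟩

theorem O_iff [Finite G] (p : V3) : h.O p ↔ ∃ g : h.H, h.act g va = p := by
  constructor
  · intro hp
    obtain ⟨g, hg⟩ := isConj_iff.1 hp
    obtain ⟨n, hn, e⟩ := h.fusion h.a_mem (hg ▸ h.jj_mem p)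
    exact ⟨⟨n, hn⟩, h.act_eq (by rw [va, h.jj_a]; exact e.trans hg)⟩
  · rintro ⟨g, rfl⟩
    exact h.O_act.2 h.O_a

theorem act_borel [Finite G] (v : Fin 2 → ZMod 3) (z ε β : ZMod 3) (hε : ε ≠ 0) (p : V3) :
    h.act ⟨_, h.P_borel_mem v z ε β hε⟩ p = wmap ε (v 1) p := h.act_eq (h.P_conj v z ε β hε p)

theorem act_y [Finite G] (p : V3) : h.act ⟨h.y, h.y_mem_H⟩ p = wmap 1 1 p :=
  h.act_eq (h.y_conj p)

theorem exists_act_wmap [Finite G] {ε : ZMod 3} (hε : ε ≠ 0) (q : ZMod 3) :
    ∃ g : h.H, ∀ p, h.act g p = wmap ε q p :=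
  ⟨⟨_, h.P_borel_mem ![0, q] 0 ε 0 hε⟩, fun p => by rw [h.act_borel _ _ _ _ hε]; rfl⟩

theorem O_rep [Finite G] (p : V3) : h.O p ↔ h.O (rep p) := by
  obtain ⟨ε, q, hε, e⟩ := rep_spec p
  obtain ⟨g, hg⟩ := h.exists_act_wmap hε q
  rw [← e, ← hg, h.O_act]

/-- An element of `H` fixing `va` acts by some `wmap`. -/
theorem act_fix_a [Finite G] {g : h.H} (hg : h.act g va = va) :
    ∃ ε q, ε ≠ 0 ∧ ∀ p, h.act g p = wmap ε q p := by
  have hc : (g : G) * h.a = h.a * (g : G) := by
    have := h.jj_act g va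
    rw [hg, va, h.jj_a] at this
    exact mul_inv_eq_iff_eq_mul.1 this.symm
  obtain ⟨v, z, ε, β, hε, e⟩ := h.exists_borel g.2 hc
  exact ⟨ε, v 1, hε, fun p => h.act_eq (by rw [e]; exact h.P_conj v z ε β hε p)⟩

theorem O_ne_zero {p : V3} (hp : h.O p) : p ≠ 0 := by
  rintro rfl
  rw [O, h.jj_zero, isConj_one_left] at hp
  have := h.orderOf_a
  rw [hp, orderOf_one] at this
  norm_num at this

section Count

open Classical in
/-- The orbit as a finite set. -/
noncomputable def Os : Finset V3 := Finset.univ.filter h.O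

theorem mem_Os {p : V3} : p ∈ h.Os ↔ h.O p := by
  classical
  simp [Os]

variable [Finite G]

theorem card_H : Nat.card h.H = h.Os.card * 162 := by
  classical
  letI : MulAction h.H V3 :=
    { smul := h.act
      one_smul := h.act_one
      mul_smul := h.act_mul }
  have e1 : Nat.card (MulAction.orbit h.H va) = h.Os.card := by
    rw [← Nat.card_eq_finsetCard]
    refine Nat.card_congr (Equiv.subtypeEquivRight fun p => ?_)
    rw [h.mem_Os, h.O_iff]
    exact MulAction.mem_orbit_iff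
  have e2 : Nat.card (MulAction.stabilizer h.H va) = 162 := by
    let B := {q : (Fin 2 → ZMod 3) × ZMod 3 × ZMod 3 × ZMod 3 // q.2.2.1 ≠ 0}
    let f : B → MulAction.stabilizer h.H va := fun q =>
      ⟨⟨_, h.P_borel_mem q.1.1 q.1.2.1 q.1.2.2.1 q.1.2.2.2 q.2⟩, by
        show h.act _ va = va
        refine h.act_eq ?_
        rw [show h.jj va = h.a from h.jj_a]
        exact mul_inv_eq_iff_eq_mul.2 (h.P_comm_a _ _ _)⟩
    have hf : Function.Bijective f := by
      refine ⟨fun q r e => ?_, fun g => ?_⟩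
      · obtain ⟨h1, h2, h3⟩ := h.inj _ _ _ _ _ _ (congrArg (fun g => ((g.1 : h.H) : G)) e)
        obtain ⟨h4, h5⟩ := borel_inj _ _ _ _ q.2 r.2 h3
        exact Subtype.ext (Prod.ext h1 (Prod.ext h2 (Prod.ext h4 h5)))
      · have hc : ((g.1 : h.H) : G) * h.a = h.a * ((g.1 : h.H) : G) := by
          have hg : h.act g.1 va = va := g.2
          have := h.jj_act g.1 va
          rw [hg, show h.jj va = h.a from h.jj_a] at this
          exact mul_inv_eq_iff_eq_mul.1 this.symm
        obtain ⟨v, z, ε, β, hε, e⟩ := h.exists_borel g.1.2 hc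
        exact ⟨⟨(v, z, ε, β), hε⟩, Subtype.ext (Subtype.ext e.symm)⟩
    rw [← Nat.card_eq_of_bijective f hf, Nat.card_eq_fintype_card]
    decide +kernel
  have hidx := Subgroup.card_mul_index (MulAction.stabilizer h.H va)
  rw [MulAction.index_stabilizer, ← Nat.card_coe_set_eq, e1, e2] at hidx
  rw [← hidx, mul_comm]

/-- `H/J` has no element of order five or seven. -/
theorem not_prime_dvd_card_H {r : ℕ} (hr : r = 5 ∨ r = 7) : ¬ r ∣ Nat.card h.H := by
  intro hd
  haveI : Fact r.Prime := ⟨by rcases hr with rfl | rfl <;> norm_num⟩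
  obtain ⟨g, hg⟩ := exists_prime_orderOf_dvd_card' r hd
  letI : MulAction (Subgroup.zpowers g) V3 :=
    { smul := fun k p => h.act (k : h.H) p
      one_smul := h.act_one
      mul_smul := fun k l => h.act_mul k l }
  have hP : IsPGroup r (Subgroup.zpowers g) :=
    IsPGroup.of_card (n := 1) (by rw [Nat.card_zpowers, hg, pow_one])
  have hmod := hP.card_modEq_card_fixedPoints (α := V3)
  let K : Subgroup G :=
    { carrier := {x | x ∈ h.J ∧ (g : G) * x = x * (g : G)}
      one_mem' := ⟨h.J.one_mem, by simp⟩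
      mul_mem' := fun {x y} hx hy => ⟨h.J.mul_mem hx.1 hy.1, Commute.mul_right hx.2 hy.2⟩
      inv_mem' := fun {x} hx => ⟨h.J.inv_mem hx.1, Commute.inv_right hx.2⟩ }
  have hK : Nat.card (MulAction.fixedPoints (Subgroup.zpowers g) V3) = Nat.card K := by
    refine Nat.card_eq_of_bijective (fun p => ⟨h.jj p.1, h.jj_mem _, ?_⟩) ⟨fun p q e => ?_, fun x => ?_⟩
    · have := h.jj_act g p.1
      rw [show h.act g p.1 = p.1 from p.2 ⟨g, Subgroup.mem_zpowers g⟩] at this
      exact mul_inv_eq_iff_eq_mul.1 this.symm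
    · exact Subtype.ext (h.jj_inj (congrArg Subtype.val e))
    · obtain ⟨p, hp⟩ := h.exists_jj x.2.1
      have hfix : h.act g p = p := h.act_eq (by rw [hp, x.2.2, mul_inv_cancel_right])
      refine ⟨⟨p, fun k => ?_⟩, Subtype.ext hp⟩
      let T : Subgroup h.H :=
        { carrier := {k | h.act k p = p}
          one_mem' := h.act_one p
          mul_mem' := fun {k l} (hk : h.act k p = p) (hl : h.act l p = p) => by
            show h.act _ p = p
            rw [h.act_mul, hl, hk]
          inv_mem' := fun {k} (hk : h.act k p = p) => by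
            show h.act _ p = p
            conv_lhs => rw [← hk, ← h.act_mul, inv_mul_cancel, h.act_one] }
      exact (Subgroup.zpowers_le (H := T)).2 hfix k.2
  have hd27 : Nat.card K ∣ 3 ^ 3 := by
    rw [show 3 ^ 3 = Nat.card h.J by rw [h.card_J]; norm_num]
    exact Subgroup.card_dvd_of_le fun x hx => hx.1
  obtain ⟨i, hi, hKi⟩ := (Nat.dvd_prime_pow Nat.prime_three).1 hd27
  have hV : Nat.card V3 = 27 := by simp
  rw [hK, hV, hKi, Nat.ModEq] at hmod
  have hall : K = h.J := by
    refine Subgroup.eq_of_le_of_card_ge (fun x hx => hx.1) ?_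
    rw [h.card_J, hKi]
    rcases hr with rfl | rfl <;> interval_cases i <;> simp_all
  have hgJ : (g : G) ∈ h.J := h.mem_J_of_comm fun x hx => by
    rw [← hall] at hx
    exact hx.2
  have := h.J.orderOf_dvd_natCard hgJ
  rw [Subgroup.orderOf_coe, hg, h.card_J] at this
  rcases hr with rfl | rfl <;> norm_num at this

end Count

end Hyp

end CfsgLib.Hayden48
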