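import Cfsg.Agent.Hayden48.Orbit

/-!
# The possible sets of conjugates of `a` in `J`
-/

set_option autoImplicit false

namespace CfsgLib.Hayden48

open Matrix
open CfsgLib.HeisenbergSL (SL23 det2 upper negOne)

theorem rep_va : rep va = va := by decide +kernel

theorem rep_nva : rep (-va) = -va := by decide +kernel

theorem rep_vu : rep vu = vu := by decide +kernel

theorem rep_qz : ∀ z k : ZMod 3, k ≠ 0 → rep (0, z, k) = (0, z, k) := by decide +kernel

/-- The nine representatives. -/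
def reps : Finset V3 :=
  {va, -va, vu, (0, 0, 1), (0, 1, 1), (0, 2, 1), (0, 0, -1), (0, 1, -1), (0, 2, -1)}

theorem rep_mem : ∀ p : V3, p ≠ 0 → rep p ∈ reps := by decide +kernel

theorem four_cover : ∀ z : ZMod 3, ∀ p : V3, p ≠ 0 → rep p = va ∨ rep p = -va ∨ rep p = vu ∨
    ∃ w : ZMod 3, rep p = (0, w, 1) ∨ rep p = (0, w, -1) := fun _ => by decide +kernel

theorem wmap_fix_line : ∀ p : V3, wmap 1 1 p = p → p = 0 ∨ p = va ∨ p = -va := by decide +kernel

theorem fix_two : ∀ ε q : ZMod 3, ε ≠ 0 → wmap ε q vu = vu → ∀ p, wmap ε q p = p := by decide +kernel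

theorem ymap_eval_a : ∀ α β : ZMod 3, ∀ Ya : V3,
    β ≠ 0 ∧ (α.val • vu + β.val • Ya : V3) = ((α, β, 0) : V3) - vu → Ya = (-β, 1, 0) := by
  decide +kernel

theorem ymap_eval_e : ∀ α β γ δ κ : ZMod 3, ∀ Ye : V3, β ≠ 0 ∧ κ ≠ 0 ∧
    (γ.val • vu + δ.val • ((-β, 1, 0) : V3) + κ.val • Ye : V3) =
      ((γ, δ, κ) : V3) - (α, β, 0) - vu → Ye.2.2 = 1 := by decide +kernel

theorem ymap_expand : ∀ b μ ν : ZMod 3, ∀ p : V3,
    p.1.val • vu + p.2.1.val • ((b, 1, 0) : V3) + p.2.2.val • ((μ, ν, 1) : V3) = ymap b μ ν p := by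
  decide +kernel

namespace Hyp

variable {G : Type*} [Group G] (h : Hyp G)

/-- `a` is conjugate to its inverse. -/
theorem O_nva_iff : h.O (-va) ↔ IsConj h.a h.a⁻¹ := by
  rw [O, ← h.jj_inv, show h.jj va = h.a from h.jj_a]

theorem not_O_neg {p : V3} (hn : ¬ h.O (-va)) (hp : h.O p) : ¬ h.O (-p) := by
  intro hq
  refine hn (h.O_nva_iff.2 ?_)
  rw [O, ← h.jj_inv] at hq
  obtain ⟨g, hg⟩ := isConj_iff.1 hp
  exact hq.trans (isConj_iff.2 ⟨g⁻¹, by rw [← hg]; group⟩)

theorem O_neg {p : V3} (hr : h.O (-va)) (hp : h.O p) : h.O (-p) := by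
  obtain ⟨g, hg⟩ := isConj_iff.1 hp
  refine (h.O_nva_iff.1 hr).trans (isConj_iff.2 ⟨g, ?_⟩)
  rw [← h.jj_inv, ← hg]
  group

open Classical in
/-- Indicator of a representative. -/
noncomputable def B (p : V3) : ℕ := if h.O p then 1 else 0

theorem B_le (p : V3) : h.B p ≤ 1 := by
  unfold B
  split <;> omega

theorem B_one {p : V3} : h.B p = 1 ↔ h.O p := by
  unfold B
  split <;> simp_all

theorem B_zero {p : V3} : h.B p = 0 ↔ ¬ h.O p := by
  unfold B
  split <;> simp_all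

variable [Finite G]

theorem card_Os : h.Os.card = h.B va + h.B (-va) + 6 * h.B vu +
    3 * (h.B (0, 0, 1) + h.B (0, 1, 1) + h.B (0, 2, 1) +
      (h.B (0, 0, -1) + h.B (0, 1, -1) + h.B (0, 2, -1))) := by
  classical
  have hmaps : ∀ p ∈ h.Os, rep p ∈ reps := fun p hp => rep_mem p (h.O_ne_zero (h.mem_Os.1 hp))
  rw [Finset.card_eq_sum_card_fiberwise hmaps]
  have hfib : ∀ r : V3, (h.Os.filter fun p => rep p = r).card =
      h.B r * (if r = 0 ∨ r = va ∨ r = -va then 1
        else if r = vu then 6 else if r.1 = 0 ∧ r.2.2 ≠ 0 then 3 else 0) := by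
    intro r
    rw [← rep_sizes r]
    by_cases hr : h.O r
    · rw [h.B_one.2 hr, one_mul]
      congr 1
      ext p
      simp only [Finset.mem_filter, h.mem_Os, Finset.mem_univ, true_and, and_iff_right_iff_imp]
      intro e
      rw [h.O_rep, e]
      exact hr
    · rw [h.B_zero.2 hr, zero_mul, Finset.card_eq_zero, Finset.filter_eq_empty_iff]
      intro p hp e
      exact hr (e ▸ (h.O_rep p).1 (h.mem_Os.1 hp))
  rw [Finset.sum_congr rfl fun r _ => hfib r, reps]
  repeat rw [Finset.sum_insert (by decide +kernel)]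
  rw [Finset.sum_singleton]
  simp [va, vu]
  ring

theorem sum_fixed (g : h.H) : h.act g (∑ p ∈ h.Os, p) = ∑ p ∈ h.Os, p := by
  let f : V3 →+ V3 := AddMonoidHom.mk' (h.act g) (h.act_add g)
  show f (∑ p ∈ h.Os, p) = _
  rw [map_sum]
  exact Finset.sum_bij (fun p _ => h.act g p) (fun p hp => h.mem_Os.2 (h.O_act.2 (h.mem_Os.1 hp)))
    (fun p _ r _ e => h.act_inj g e)
    (fun r hr => ⟨h.act g⁻¹ r, h.mem_Os.2 (h.O_act.2 (h.mem_Os.1 hr)),
      by rw [← h.act_mul, mul_inv_cancel, h.act_one]⟩)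
    (fun p _ => rfl)

/-- The orbit when `a` is not conjugate to its inverse. -/
theorem cases_nonreal (hn : ¬ h.O (-va)) :
    (∀ p, h.O p → p = va) ∨ ∃ z, ∀ p, h.O p ↔ p ∈ four z := by
  classical
  have hu : ¬ h.O vu := fun hu => h.not_O_neg hn hu ((h.O_rep _).2 (by
    rw [(rep_neg_U vu rfl (by decide)).2]
    exact hu))
  have hpair : ∀ z k : ZMod 3, k ≠ 0 → h.B (0, z, k) + h.B (0, -z, -k) ≤ 1 := by
    intro z k hk
    by_contra hlt
    have l1 := h.B_le (0, z, k)
    have l2 := h.B_le (0, -z, -k)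
    refine h.not_O_neg hn (h.B_one.1 (show h.B (0, z, k) = 1 by omega)) ((h.O_rep _).2 ?_)
    rw [qz_neg z k hk]
    exact h.B_one.1 (by omega)
  have p0 := hpair 0 1 (by decide)
  have p1 := hpair 1 1 (by decide)
  have p2 := hpair 2 1 (by decide)
  rw [show -(0 : ZMod 3) = 0 from rfl] at p0
  rw [show -(1 : ZMod 3) = 2 from rfl] at p1
  rw [show -(2 : ZMod 3) = 1 from rfl, show (-1 : ZMod 3) = 2 from rfl] at p2
  rw [show (-1 : ZMod 3) = 2 from rfl] at p0
  have hc := h.card_Os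
  rw [h.B_one.2 h.O_a, h.B_zero.2 hn, h.B_zero.2 hu, show (-1 : ZMod 3) = 2 from rfl] at hc
  have hH := h.card_H
  set m := h.B (0, 0, 1) + h.B (0, 1, 1) + h.B (0, 2, 1) +
      (h.B (0, 0, 2) + h.B (0, 1, 2) + h.B (0, 2, 2)) with hm
  have hm1 : m ≤ 1 := by
    by_contra hlt
    have : m = 2 ∨ m = 3 := by omega
    rcases this with e | e <;> rw [e] at hc <;> rw [hc] at hH
    · exact h.not_prime_dvd_card_H (Or.inr rfl) (by rw [hH]; norm_num)
    · exact h.not_prime_dvd_card_H (Or.inl rfl) (by rw [hH]; norm_num)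
  have hout : ∀ p, h.O p → rep p = va ∨ ∃ w : ZMod 3, ∃ k : ZMod 3, k ≠ 0 ∧ rep p = (0, w, k) := by
    intro p hp
    rcases four_cover 0 p (h.O_ne_zero hp) with e | e | e | ⟨w, e | e⟩
    · exact Or.inl e
    · exact absurd (e ▸ (h.O_rep p).1 hp) hn
    · exact absurd (e ▸ (h.O_rep p).1 hp) hu
    · exact Or.inr ⟨w, 1, by decide, e⟩
    · exact Or.inr ⟨w, -1, by decide, e⟩
  have single : ∀ z k w l : ZMod 3, k ≠ 0 → l ≠ 0 → h.O (0, z, k) → h.O (0, w, l) →
      ((z, k) : ZMod 3 × ZMod 3) = (w, l) := by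
    intro z k w l hk hl h1 h2
    have e1 := h.B_one.2 h1
    have e2 := h.B_one.2 h2
    have cases3 : ∀ i : ZMod 3, i = 0 ∨ i = 1 ∨ i = 2 := by decide
    rcases cases3 z with rfl | rfl | rfl <;> rcases cases3 k with rfl | rfl | rfl <;>
      rcases cases3 w with rfl | rfl | rfl <;> rcases cases3 l with rfl | rfl | rfl <;>
      first | rfl | exact absurd rfl hk | exact absurd rfl hl | omega
  rcases Nat.eq_zero_or_pos m with hm0 | hmpos
  · left
    intro p hp
    rcases hout p hp with e | ⟨w, k, hk, e⟩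
    · exact (show ∀ p : V3, rep p = va → p = va by decide +kernel) p e
    · exfalso
      have e1 := h.B_one.2 (e ▸ (h.O_rep p).1 hp)
      have cases3 : ∀ i : ZMod 3, i = 0 ∨ i = 1 ∨ i = 2 := by decide
      rcases cases3 w with rfl | rfl | rfl <;> rcases cases3 k with rfl | rfl | rfl <;>
        first | exact absurd rfl hk | omega
  · obtain ⟨z, k, hk, hzk⟩ : ∃ z k : ZMod 3, k ≠ 0 ∧ h.O (0, z, k) := by
      by_contra hall
      push Not at hall
      have e : ∀ z k : ZMod 3, k ≠ 0 → h.B (0, z, k) = 0 := fun z k hk => h.B_zero.2 (hall z k hk)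
      rw [hm, e 0 1 (by decide), e 1 1 (by decide), e 2 1 (by decide), e 0 2 (by decide),
        e 1 2 (by decide), e 2 2 (by decide)] at hmpos
      omega
    have hOiff : ∀ p, h.O p ↔ rep p = va ∨ rep p = (0, z, k) := fun p => by
      constructor
      · intro hp
        refine (hout p hp).imp_right fun ⟨w, l, hl, e⟩ => ?_
        obtain ⟨rfl, rfl⟩ : w = z ∧ l = k := by
          have := single w l z k hl hk (e ▸ (h.O_rep p).1 hp) hzk
          exact ⟨congrArg Prod.fst this, congrArg Prod.snd this⟩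
        exact e
      · rintro (e | e) <;> rw [h.O_rep, e]
        exacts [h.O_a, hzk]
    rcases (show ∀ k : ZMod 3, k ≠ 0 → k = 1 ∨ k = -1 by decide) k hk with rfl | rfl
    · exfalso
      have hsum : ∑ p ∈ h.Os, p = -va := by
        rw [← sum_plus z]
        refine Finset.sum_congr (Finset.ext fun p => ?_) fun _ _ => rfl
        rw [h.mem_Os, hOiff]
        simp
      obtain ⟨g, hg⟩ := (h.O_iff _).1 hzk
      have hf := h.sum_fixed g
      rw [hsum, h.act_neg, hg] at hf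
      exact (show ∀ z : ZMod 3, -((0, z, 1) : V3) ≠ -va by decide) z hf
    · exact Or.inr ⟨z, fun p => by rw [hOiff, four]; simp⟩

/-- The orbit is not the set of nonidentity elements of `R ∩ J`. -/
theorem not_U_only (hU : ∀ p, h.O p ↔ rep p = va ∨ rep p = -va ∨ rep p = vu) : False := by
  obtain ⟨g, hg⟩ := (h.O_iff vu).1 ((hU vu).2 (Or.inr (Or.inr rep_vu)))
  have hplane : ∀ p : V3, h.O p → p.2.2 = 0 := fun p hp =>
    (show ∀ p : V3, rep p = va ∨ rep p = -va ∨ rep p = vu → p.2.2 = 0 by decide +kernel) p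
      ((hU p).1 hp)
  obtain ⟨α, β, hfu⟩ : ∃ α β : ZMod 3, h.act g vu = (α, β, 0) := by
    refine ⟨(h.act g vu).1, (h.act g vu).2.1, ?_⟩
    refine Prod.ext rfl (Prod.ext rfl ?_)
    exact hplane _ (h.O_act.2 ((hU vu).2 (Or.inr (Or.inr rep_vu))))
  obtain ⟨γ, δ, κ, hfe⟩ : ∃ γ δ κ : ZMod 3, h.act g (0, 0, 1) = (γ, δ, κ) := ⟨_, _, _, rfl⟩
  have hinv := linear_expand (h.act g) (h.act_add g)
  have hβ : β ≠ 0 := by
    rintro rfl
    rcases (show ∀ α : ZMod 3, α = 0 ∨ α = 1 ∨ α = -1 by decide) α with rfl | rfl | rfl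
    · exact absurd (h.act_inj g (hfu.trans (h.act_zero g).symm)) (by decide)
    · exact absurd (h.act_inj g (hfu.trans hg.symm)) (by decide)
    · exact absurd (h.act_inj g (hfu.trans (by rw [h.act_neg, hg]; rfl) :
        h.act g vu = h.act g (-va))) (by decide)
  have hκ : κ ≠ 0 := by
    rintro rfl
    obtain ⟨p, hp⟩ : ∃ p, h.act g p = (0, 0, 1) := by
      refine ⟨h.act g⁻¹ (0, 0, 1), ?_⟩
      rw [← h.act_mul, mul_inv_cancel, h.act_one]
    rw [hinv, hg, hfu, hfe] at hp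
    have := congrArg (fun r : V3 => r.2.2) hp
    simp [vu] at this
  set Y : h.H := g * ⟨h.y, h.y_mem_H⟩ * g⁻¹ with hY
  have hYg : ∀ p, h.act Y (h.act g p) = h.act g (wmap 1 1 p) := fun p => by
    rw [← h.act_mul, hY, inv_mul_cancel_right, h.act_mul, h.act_y]
  have hYu : h.act Y vu = vu := by
    have e := hYg va
    rw [hg, show wmap 1 1 va = va by decide, hg] at e
    exact e
  have e1 := hYg vu
  have e2 := hYg (0, 0, 1)
  rw [hfu, show wmap 1 1 vu = vu - va by decide, sub_eq_add_neg, h.act_add, h.act_neg, hg, hfu,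
    ← sub_eq_add_neg, linear_expand (h.act Y) (h.act_add Y), hYu] at e1
  rw [hfe, show wmap 1 1 ((0, 0, 1) : V3) = (0, 0, 1) + -vu + -va by decide, h.act_add, h.act_add,
    h.act_neg, h.act_neg, hg, hfu, hfe, ← sub_eq_add_neg, ← sub_eq_add_neg,
    linear_expand (h.act Y) (h.act_add Y), hYu] at e2
  simp only [ZMod.val_zero, zero_smul, add_zero] at e1
  have hYa := ymap_eval_a α β _ ⟨hβ, e1⟩
  rw [hYa] at e2
  have hYk := ymap_eval_e α β γ δ κ _ ⟨hβ, hκ, e2⟩
  obtain ⟨b, hb, hbe⟩ : ∃ b : ZMod 3, b ≠ 0 ∧ b = -β := ⟨-β, neg_ne_zero.2 hβ, rfl⟩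
  rw [← hbe] at hYa
  obtain ⟨μ, ν, hYe⟩ : ∃ μ ν : ZMod 3, h.act Y (0, 0, 1) = (μ, ν, 1) :=
    ⟨_, _, Prod.ext rfl (Prod.ext rfl hYk)⟩
  have hYmap : ∀ p, h.act Y p = ymap b μ ν p := fun p => by
    rw [linear_expand (h.act Y) (h.act_add Y), hYu, hYa, hYe, ymap_expand]
  set y' : h.H := ⟨h.y, h.y_mem_H⟩ with hy'
  have hya : ∀ r, h.act y' r = wmap 1 1 r := h.act_y
  set Y1 : h.H := if b = 1 then Y else Y * Y with hY1
  have hY1map : ∀ p, h.act Y1 p =
      if b = 1 then ymap b μ ν p else ymap b μ ν (ymap b μ ν p) := fun p => by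
    rw [hY1]
    split
    · exact hYmap p
    · rw [h.act_mul, hYmap, hYmap]
  set q : h.H := y' * Y1 * y' * (y' * Y1 * y') with hq
  have hqmap : ∀ p, h.act q p = qmap b μ ν p := fun p => by
    simp only [hq, h.act_mul, hya, hY1map]
    rfl
  obtain ⟨hqu, hqa, p, hp⟩ := qmap_key b μ ν hb
  set e : h.H := (y' * q)⁻¹ * (q * y') with he
  have hea : h.act e va = va := by
    rw [he, h.act_mul, h.act_mul, hya, show wmap 1 1 va = va by decide, hqmap, hqa]
    refine h.act_inj (y' * q) ?_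
    rw [← h.act_mul, mul_inv_cancel, h.act_one, h.act_mul, hqmap, hqa, hya]
    decide
  have heu : h.act e vu = vu := by
    refine h.act_inj (y' * q) ?_
    rw [he, ← h.act_mul, mul_inv_cancel_left, h.act_mul q y', h.act_mul y' q, hya, hya, hqmap,
      hqmap, hqu, show wmap 1 1 vu = vu + -va by decide,
      linear_expand (qmap b μ ν) (fun p r => by rw [← hqmap, ← hqmap, ← hqmap, h.act_add]), hqu, hqa,
      show (vu + -va : V3).2.2.val = 0 by decide, zero_smul, add_zero]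
    decide +kernel
  obtain ⟨ε, qq, hε, hact⟩ := h.act_fix_a hea
  have hid : ∀ r, h.act e r = r := fun r => by
    rw [hact]
    exact fix_two ε qq hε (by rw [← hact]; exact heu) r
  refine hp ?_
  have := congrArg (h.act (y' * q)) (hid p)
  rwa [he, ← h.act_mul, mul_inv_cancel_left, h.act_mul q y', h.act_mul y' q, hya, hya, hqmap,
    hqmap] at this

/-- The orbit is not all of `J`. -/
theorem card_Os_ne : h.Os.card ≠ 26 := by
  intro hn
  haveI : Fact (Nat.Prime 13) := ⟨by norm_num⟩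
  haveI hJn : (h.J.subgroupOf h.H).Normal := Subgroup.normal_in_normalizer
  let π := QuotientGroup.mk' (h.J.subgroupOf h.H)
  have hX : Nat.card (h.H ⧸ h.J.subgroupOf h.H) = 156 := by
    have := Subgroup.card_eq_card_quotient_mul_card_subgroup (h.J.subgroupOf h.H)
    rw [h.card_H, hn, Nat.card_congr (Subgroup.subgroupOfEquivOfLe h.J_le_H).toEquiv, h.card_J] at this
    omega
  obtain ⟨sb, hsb⟩ := exists_prime_orderOf_dvd_card' (G := h.H ⧸ h.J.subgroupOf h.H) 13
    (by rw [hX]; norm_num)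
  obtain ⟨T, hT⟩ := (IsPGroup.of_card (n := 1) (by rw [Nat.card_zpowers, hsb, pow_one]) :
    IsPGroup 13 (Subgroup.zpowers sb)).exists_le_sylow
  have hTc : Nat.card (T : Subgroup (h.H ⧸ h.J.subgroupOf h.H)) = 13 := by
    rw [T.card_eq_multiplicity, hX, show (156 : ℕ) = 13 ^ 1 * 12 from rfl,
      Nat.factorization_mul (by norm_num) (by norm_num), Nat.Prime.factorization_pow (by norm_num),
      Finsupp.add_apply, Finsupp.single_eq_same, Nat.factorization_eq_zero_of_not_dvd (by norm_num)]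
    norm_num
  have hTn : Nat.card (Sylow 13 (h.H ⧸ h.J.subgroupOf h.H)) = 1 := by
    have hd : Nat.card (Sylow 13 (h.H ⧸ h.J.subgroupOf h.H)) ∣ 12 := by
      have hi := T.card_dvd_index
      have := Subgroup.card_mul_index (T : Subgroup (h.H ⧸ h.J.subgroupOf h.H))
      rw [hTc, hX] at this
      rwa [show (T : Subgroup (h.H ⧸ h.J.subgroupOf h.H)).index = 12 by omega] at hi
    have hmod := card_sylow_modEq_one 13 (h.H ⧸ h.J.subgroupOf h.H)
    have := Nat.le_of_dvd (by norm_num) hd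
    rw [Nat.ModEq] at hmod
    omega
  haveI : Subsingleton (Sylow 13 (h.H ⧸ h.J.subgroupOf h.H)) := (Nat.card_eq_one_iff_unique.1 hTn).1
  have hTnorm : (T : Subgroup (h.H ⧸ h.J.subgroupOf h.H)).Normal := Sylow.normal_of_subsingleton _
  have hTz : (T : Subgroup (h.H ⧸ h.J.subgroupOf h.H)) = Subgroup.zpowers sb :=
    (Subgroup.eq_of_le_of_card_ge hT (by rw [hTc, Nat.card_zpowers, hsb])).symm
  obtain ⟨s, rfl⟩ := QuotientGroup.mk'_surjective _ sb
  set yy := π ⟨h.y, h.y_mem_H⟩ with hyy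
  set tt := π ⟨h.t, h.t_mem_H⟩ with htt
  -- conjugations of a cyclic group commute
  have hconj : ∀ x : h.H ⧸ h.J.subgroupOf h.H, ∃ i : ℤ, x * π s * x⁻¹ = π s ^ i := fun x => by
    have := hTnorm.conj_mem _ (hT (Subgroup.mem_zpowers _)) x
    rw [hTz, Subgroup.mem_zpowers_iff] at this
    exact this.imp fun i hi => hi.symm
  have hcomm : ∀ x z : h.H ⧸ h.J.subgroupOf h.H,
      x * (z * π s * z⁻¹) * x⁻¹ = z * (x * π s * x⁻¹) * z⁻¹ := fun x z => by
    obtain ⟨i, hi⟩ := hconj x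
    obtain ⟨j, hj⟩ := hconj z
    rw [hi, hj, ← conj_zpow, ← conj_zpow, hi, hj, ← _root_.zpow_mul, ← _root_.zpow_mul, mul_comm]
  have htyt : tt * yy * tt⁻¹ = yy⁻¹ := by
    rw [htt, hyy, ← map_inv, ← map_inv, ← map_mul, ← map_mul]
    congr 1
    refine Subtype.ext ?_
    show h.t * h.y * h.t⁻¹ = h.y⁻¹
    refine eq_inv_of_mul_eq_one_right ?_
    rw [inv_eq_of_mul_eq_one_right h.t_sq, t, y, h.mul, h.mul, h.mul, ← h.P_one]
    congr 1 <;> decide +kernel
  have hy3 : yy ^ 3 = 1 := by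
    rw [hyy, ← map_pow, ← map_one π]
    congr 1
    refine Subtype.ext ?_
    show h.y ^ 3 = 1
    rw [pow_succ', pow_two, y, h.mul, h.mul, ← h.P_one]
    congr 1 <;> decide +kernel
  have hy : yy * π s * yy⁻¹ = π s := by
    have h1 := hcomm tt (yy * tt⁻¹)
    have e : tt * (yy * tt⁻¹ * π s * (yy * tt⁻¹)⁻¹) * tt⁻¹ = yy⁻¹ * π s * yy⁻¹⁻¹ := by
      rw [← htyt]; group
    have e' : yy * tt⁻¹ * (tt * π s * tt⁻¹) * (yy * tt⁻¹)⁻¹ = yy * π s * yy⁻¹ := by group
    rw [e, e'] at h1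
    have h2 : yy * (yy * π s * yy⁻¹) * yy⁻¹ = π s := by rw [← h1]; group
    calc yy * π s * yy⁻¹ = yy * (yy * (yy * π s * yy⁻¹) * yy⁻¹) * yy⁻¹ := by rw [h2]
      _ = yy ^ 3 * π s * (yy ^ 3)⁻¹ := by
        rw [show yy ^ 3 = yy * yy * yy by rw [pow_succ, pow_two]]
        group
      _ = π s := by rw [hy3]; simp
  have hys : ∀ p, h.act s (wmap 1 1 p) = wmap 1 1 (h.act s p) := fun p => by
    have hmem : (⟨h.y, h.y_mem_H⟩ * s)⁻¹ * (s * ⟨h.y, h.y_mem_H⟩) ∈ h.J.subgroupOf h.H :=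
      QuotientGroup.eq.1 (by
        show π (_ * s) = π (s * _)
        rw [map_mul, map_mul, ← hyy]
        exact mul_inv_eq_iff_eq_mul.1 hy)
    set d := (⟨h.y, h.y_mem_H⟩ * s)⁻¹ * (s * ⟨h.y, h.y_mem_H⟩) with hd
    have hdp : h.act d p = p := h.act_eq (by
      rw [h.J_comm (Subgroup.mem_subgroupOf.1 hmem) (h.jj_mem p), mul_inv_cancel_right])
    have := congrArg (h.act (⟨h.y, h.y_mem_H⟩ * s)) hdp
    rwa [hd, ← h.act_mul, mul_inv_cancel_left, h.act_mul, h.act_mul, h.act_y, h.act_y] at this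
  have hsa : h.act (s * s) va = va := by
    have e := hys va
    rw [show wmap 1 1 va = va by decide] at e
    rw [h.act_mul]
    rcases wmap_fix_line _ e.symm with e1 | e1 | e1
    · exact absurd (h.act_inj s (e1.trans (h.act_zero s).symm)) (by decide)
    · rw [e1, e1]
    · rw [e1, h.act_neg, e1, neg_neg]
  obtain ⟨v, z, A, hvz⟩ := (h.mem_cent ((s * s : h.H) : G)).1 (by
    have := h.jj_act (s * s) va
    rw [hsa, show h.jj va = h.a from h.jj_a] at this
    exact mul_inv_eq_iff_eq_mul.1 this.symm)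
  have ho : 13 ∣ orderOf ((s * s : h.H) : G) := by
    rw [Subgroup.orderOf_coe]
    have h13 : orderOf (π (s * s)) = 13 := by
      rw [map_mul, ← pow_two, orderOf_pow' _ two_ne_zero, hsb]
      norm_num
    exact h13 ▸ orderOf_map_dvd π (s * s)
  have hC : ((s * s : h.H) : G) ∈ Subgroup.centralizer ({h.a} : Set G) :=
    Subgroup.mem_centralizer_singleton_iff.2 (hvz ▸ h.P_comm_a v z A)
  have h648 : Nat.card (Subgroup.centralizer ({h.a} : Set G)) ∣ 648 := by
    rw [← Nat.card_congr (Equiv.ofBijective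
      (fun p : (Fin 2 → ZMod 3) × ZMod 3 × SL23 =>
        (⟨h.P p.1 p.2.1 p.2.2, Subgroup.mem_centralizer_singleton_iff.2 (h.P_comm_a _ _ _)⟩ :
          Subgroup.centralizer ({h.a} : Set G)))
      ⟨fun p r e => by
        obtain ⟨h1, h2, h3⟩ := h.inj _ _ _ _ _ _ (congrArg Subtype.val e)
        exact Prod.ext h1 (Prod.ext h2 h3),
       fun g => by
        obtain ⟨v, z, A, e⟩ := (h.mem_cent g).1 (Subgroup.mem_centralizer_singleton_iff.1 g.2)
        exact ⟨(v, z, A), Subtype.ext e⟩⟩)]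
    rw [Nat.card_prod, Nat.card_prod, HeisenbergSL.card_SL23]
    simp
  have := ho.trans ((Subgroup.orderOf_dvd_natCard _ hC).trans h648)
  norm_num at this

/-- The orbit when `a` is conjugate to its inverse. -/
theorem cases_real (hr : h.O (-va)) :
    (∀ p, h.O p → p = va ∨ p = -va) ∨ ∃ z, ∀ p, h.O p ↔ p ∈ eight z := by
  classical
  have hpair : ∀ z k : ZMod 3, k ≠ 0 → h.B (0, z, k) = h.B (0, -z, -k) := by
    intro z k hk
    have hiff : h.O (0, z, k) ↔ h.O (0, -z, -k) := by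
      constructor
      · intro ho
        have := (h.O_rep _).1 (h.O_neg hr ho)
        rwa [qz_neg z k hk] at this
      · intro ho
        have := (h.O_rep _).1 (h.O_neg hr ho)
        rwa [qz_neg (-z) (-k) (neg_ne_zero.2 hk), neg_neg, neg_neg] at this
    by_cases hh : h.O (0, z, k)
    · rw [h.B_one.2 hh, h.B_one.2 (hiff.1 hh)]
    · rw [h.B_zero.2 hh, h.B_zero.2 (mt hiff.2 hh)]
  have p0 := hpair 0 1 (by decide)
  have p1 := hpair 1 1 (by decide)
  have p2 := hpair 2 1 (by decide)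
  rw [show -(0 : ZMod 3) = 0 from rfl, show (-1 : ZMod 3) = 2 from rfl] at p0
  rw [show -(1 : ZMod 3) = 2 from rfl] at p1
  rw [show -(2 : ZMod 3) = 1 from rfl, show (-1 : ZMod 3) = 2 from rfl] at p2
  have hc := h.card_Os
  rw [h.B_one.2 h.O_a, h.B_one.2 hr, show (-1 : ZMod 3) = 2 from rfl] at hc
  have hH := h.card_H
  have l0 := h.B_le (0, 0, 1)
  have l1 := h.B_le (0, 1, 1)
  have l2 := h.B_le (0, 2, 1)
  have lu := h.B_le vu
  have hd14 : h.Os.card ≠ 14 := fun e => by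
    rw [e] at hH
    exact h.not_prime_dvd_card_H (Or.inr rfl) (by rw [hH]; norm_num)
  have hd20 : h.Os.card ≠ 20 := fun e => by
    rw [e] at hH
    exact h.not_prime_dvd_card_H (Or.inl rfl) (by rw [hH]; norm_num)
  have hd26 := h.card_Os_ne
  have hle : h.B vu + (h.B (0, 0, 1) + h.B (0, 1, 1) + h.B (0, 2, 1)) ≤ 1 := by omega
  have hout : ∀ p, h.O p → rep p = va ∨ rep p = -va ∨ rep p = vu ∨
      ∃ w : ZMod 3, h.O (0, w, 1) ∧ (rep p = (0, w, 1) ∨ rep p = (0, -w, -1)) := by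
    intro p hp
    have ho := (h.O_rep p).1 hp
    rcases four_cover 0 p (h.O_ne_zero hp) with e | e | e | ⟨w, e | e⟩
    · exact Or.inl e
    · exact Or.inr (Or.inl e)
    · exact Or.inr (Or.inr (Or.inl e))
    · exact Or.inr (Or.inr (Or.inr ⟨w, e ▸ ho, Or.inl e⟩))
    · refine Or.inr (Or.inr (Or.inr ⟨-w, ?_, Or.inr (by rw [neg_neg]; exact e)⟩))
      rw [e] at ho
      have := h.B_one.2 ho
      rw [hpair w (-1) (by decide), neg_neg] at this
      exact h.B_one.1 this
  by_cases hu : h.O vu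
  · exfalso
    refine h.not_U_only fun p => ⟨fun hp => ?_, ?_⟩
    · rcases hout p hp with e | e | e | ⟨w, hw, -⟩
      · exact Or.inl e
      · exact Or.inr (Or.inl e)
      · exact Or.inr (Or.inr e)
      · exfalso
        have e1 := h.B_one.2 hw
        have e2 := h.B_one.2 hu
        rcases (show ∀ w : ZMod 3, w = 0 ∨ w = 1 ∨ w = 2 by decide) w with rfl | rfl | rfl <;> omega
    · rintro (e | e | e) <;> rw [h.O_rep, e]
      exacts [h.O_a, hr, hu]
  by_cases hex : ∃ z : ZMod 3, h.O (0, z, 1)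
  · right
    obtain ⟨z, hz⟩ := hex
    refine ⟨-z, fun p => ⟨fun hp => ?_, fun hp => ?_⟩⟩
    · simp only [eight, Finset.mem_filter, Finset.mem_univ, true_and, neg_neg]
      rcases hout p hp with e | e | e | ⟨w, hw, e⟩
      · exact Or.inl e
      · exact Or.inr (Or.inl e)
      · exact absurd (e ▸ (h.O_rep p).1 hp) hu
      · obtain rfl : w = z := by
          have e1 := h.B_one.2 hw
          have e2 := h.B_one.2 hz
          rcases (show ∀ w : ZMod 3, w = 0 ∨ w = 1 ∨ w = 2 by decide) w with rfl | rfl | rfl <;>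
            rcases (show ∀ w : ZMod 3, w = 0 ∨ w = 1 ∨ w = 2 by decide) z with rfl | rfl | rfl <;>
            first | rfl | omega
        exact e.elim (fun e => Or.inr (Or.inr (Or.inr e))) fun e => Or.inr (Or.inr (Or.inl e))
    · simp only [eight, Finset.mem_filter, Finset.mem_univ, true_and, neg_neg] at hp
      rw [h.O_rep]
      rcases hp with e | e | e | e <;> rw [e]
      · exact h.O_a
      · exact hr
      · rw [← h.B_one, ← hpair z 1 (by decide), h.B_one]
        exact hz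
      · exact hz
  · left
    intro p hp
    rcases hout p hp with e | e | e | ⟨w, hw, -⟩
    · exact Or.inl ((show ∀ p : V3, rep p = va → p = va by decide +kernel) p e)
    · exact Or.inr ((show ∀ p : V3, rep p = -va → p = -va by decide +kernel) p e)
    · exact absurd (e ▸ (h.O_rep p).1 hp) hu
    · exact absurd ⟨w, hw⟩ hex

end Hyp

end CfsgLib.Hayden48
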