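import Cfsg.Agent.Hayden48.Local

/-!
# Centralizers of planes of `J`

The centralizer of a subgroup of order nine of `J` normalizes `J`.
-/

set_option autoImplicit false

open scoped commutatorElement

namespace CfsgLib.Hayden48

namespace Hyp

variable {G : Type*} [Group G] (h : Hyp G)

theorem jj_mem_za {p : V3} (h1 : p.1 = 0) (h2 : p.2.2 = 0) : h.jj p ∈ Subgroup.zpowers h.a := by
  refine Subgroup.mem_zpowers_iff.2 ⟨(p.2.1.val : ℤ), ?_⟩
  rw [zpow_natCast, ← h.jj_a, h.jj_pow]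
  congr 1
  obtain ⟨x, z, k⟩ := p
  subst h1 h2
  exact Prod.ext (by simp) (Prod.ext (by simp) (by simp))

theorem za_coord [Finite G] {p : V3} (hp : h.jj p ∈ Subgroup.zpowers h.a) : p.1 = 0 ∧ p.2.2 = 0 := by
  obtain ⟨n, hn⟩ := Submonoid.mem_powers_iff _ _ |>.1 (mem_powers_iff_mem_zpowers.2 hp)
  rw [← h.jj_a, h.jj_pow] at hn
  rw [← h.jj_inj hn]
  simp

theorem orderOf_mem {x : G} (hx : x ∈ h.J) (h1 : x ≠ 1) : orderOf x = 3 :=
  haveI : Fact (Nat.Prime 3) := ⟨Nat.prime_three⟩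
  orderOf_eq_prime (h.J_exp hx) h1

variable [Finite G]

theorem za_le_J : Subgroup.zpowers h.a ≤ h.J := Subgroup.zpowers_le.2 h.a_mem

/-- A subgroup containing `J` and centralizing a subset of `J` that no element of `H` moves into
`⟨a⟩` has `J` as a Sylow 3-subgroup. -/
theorem sylow_J {X : Subgroup G} (hJX : h.J ≤ X) {Zs : Set G} (hZ : Zs ⊆ h.J)
    (hXZ : ∀ g ∈ X, ∀ z ∈ Zs, g * z = z * g)
    (hne : ∀ g ∈ h.H, ∃ z ∈ Zs, g * z * g⁻¹ ∉ Subgroup.zpowers h.a) :
    ∃ T : Sylow 3 X, (T : Subgroup X) = h.J.subgroupOf X := by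
  haveI : Fact (Nat.Prime 3) := ⟨Nat.prime_three⟩
  obtain ⟨T, hT⟩ := (h.isPGroup_J.comap_subtype (K := X)).exists_le_sylow
  refine ⟨T, (le_antisymm hT fun t ht => ?_).symm⟩
  set Q := (T : Subgroup X).map X.subtype with hQdef
  have hQ : IsPGroup 3 Q := T.isPGroup'.map _
  obtain ⟨T₀, hT₀⟩ := h.exists_sylow
  obtain ⟨U, hU⟩ := hQ.exists_le_sylow
  obtain ⟨g, hg⟩ := MulAction.exists_smul_eq G U T₀
  have hmem : ∀ x ∈ Q, g * x * g⁻¹ ∈ h.S := fun x hx => by
    rw [← hT₀, ← hg]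
    exact Subgroup.smul_mem_pointwise_smul _ (MulAut.conj g) _ (hU hx)
  have hgH : g ∈ h.H := h.conj_J_eq fun j hj => hmem j ⟨⟨j, hJX hj⟩, hT hj, rfl⟩
  show (t : G) ∈ h.J
  by_contra htJ
  obtain ⟨z, hz, hzne⟩ := hne g hgH
  obtain ⟨p, hp⟩ := h.exists_jj (h.conj_mem hgH (hZ hz))
  have htS : g * (t : G) * g⁻¹ ∈ h.S := hmem t ⟨t, ht, rfl⟩
  have hgtJ : g * (t : G) * g⁻¹ ∉ h.J := fun hm => htJ ((Subgroup.mem_normalizer_iff.1 hgH _).2 hm)
  obtain ⟨h1, h2⟩ := h.fix_of_S htS hgtJ (p := p) (by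
    rw [hp]
    calc g * (t : G) * g⁻¹ * (g * z * g⁻¹) = g * ((t : G) * z) * g⁻¹ := by group
      _ = g * (z * t) * g⁻¹ := by rw [hXZ _ t.2 z hz]
      _ = g * z * g⁻¹ * (g * t * g⁻¹) := by group)
  exact hzne (hp ▸ h.jj_mem_za h1 h2)

/-- For a subgroup with Sylow subgroup `J`, the commutator subgroup meets `J` nontrivially unless
the subgroup is `J`. -/
theorem exists_mem_commutator_or_le {X : Subgroup G} (hJX : h.J ≤ X)
    (hT : ∃ T : Sylow 3 X, (T : Subgroup X) = h.J.subgroupOf X) :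
    X ≤ h.J ∨ ∃ e ∈ (commutator X).map X.subtype ⊓ h.J, e ≠ 1 := by
  haveI : Fact (Nat.Prime 3) := ⟨Nat.prime_three⟩
  obtain ⟨T, hT⟩ := hT
  by_cases hE : (T : Subgroup X) ⊓ commutator X = ⊥
  · left
    intro g hg
    have hco : (Nat.card (commutator X)).Coprime 3 :=
      Nat.Coprime.symm ((Nat.Prime.coprime_iff_not_dvd Nat.prime_three).2
        (Transfer.not_dvd_card_of_sylow_inf_eq_bot T _ hE))
    set K := (commutator X).map X.subtype with hK
    have hXK : X ≤ Subgroup.normalizer (K : Set G) :=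
      Subgroup.le_normalizer.trans (norm_map_char X (commutator X) inferInstance)
    have hb : K = ⊥ := h.sig _ (by rwa [Subgroup.card_map_of_injective X.subtype_injective])
      (hJX.trans hXK)
    refine h.mem_J_of_comm fun x hx => ?_
    have hc : ⁅(⟨g, hg⟩ : X), ⟨x, hJX hx⟩⁆ ∈ commutator X :=
      Subgroup.commutator_mem_commutator (Subgroup.mem_top _) (Subgroup.mem_top _)
    rw [hK, Subgroup.map_eq_bot_iff_of_injective _ X.subtype_injective] at hb
    rw [hb, Subgroup.mem_bot, commutatorElement_eq_one_iff_mul_comm] at hc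
    exact congrArg Subtype.val hc
  · right
    obtain ⟨e, ⟨heT, heC⟩, he1⟩ := (Subgroup.bot_or_exists_ne_one _).resolve_left hE
    rw [hT] at heT
    exact ⟨e, ⟨⟨e, heC, rfl⟩, heT⟩, fun e0 => he1 (Subtype.ext e0)⟩

/-- The centralizer of two independent elements of `J` normalizes `J`. -/
theorem cent_plane_le {v w g : G} (hv : v ∈ h.J) (hw : w ∈ h.J) (hv1 : v ≠ 1)
    (hvw : w ∉ Subgroup.zpowers v) (hgv : g * v = v * g) (hgw : g * w = w * g) : g ∈ h.H := by
  haveI : Fact (Nat.Prime 3) := ⟨Nat.prime_three⟩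
  set X := Subgroup.centralizer ({v} : Set G) ⊓ Subgroup.centralizer ({w} : Set G) with hX
  have hgX : g ∈ X := ⟨Subgroup.mem_centralizer_singleton_iff.2 hgv,
    Subgroup.mem_centralizer_singleton_iff.2 hgw⟩
  have hXv : ∀ y ∈ X, y * v = v * y := fun y hy => Subgroup.mem_centralizer_singleton_iff.1 hy.1
  have hXw : ∀ y ∈ X, y * w = w * y := fun y hy => Subgroup.mem_centralizer_singleton_iff.1 hy.2
  have hJX : h.J ≤ X := fun j hj => ⟨Subgroup.mem_centralizer_singleton_iff.2 (h.J_comm hj hv),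
    Subgroup.mem_centralizer_singleton_iff.2 (h.J_comm hj hw)⟩
  obtain ⟨T, hT⟩ := h.sylow_J hJX (Zs := {v, w})
    (Set.insert_subset hv (Set.singleton_subset_iff.2 hw))
    (fun y hy z hz => by
      rcases hz with rfl | rfl
      · exact hXv y hy
      · exact hXw y hy)
    (fun k hk => by
      by_contra hne
      push Not at hne
      have h1 := hne v (Set.mem_insert _ _)
      have h2 := hne w (Set.mem_insert_of_mem _ rfl)
      have hle : Subgroup.zpowers h.a ≤ Subgroup.zpowers (k * v * k⁻¹) := by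
        refine (Subgroup.eq_of_le_of_card_ge (Subgroup.zpowers_le.2 h1) ?_).ge
        rw [Nat.card_zpowers, Nat.card_zpowers, h.orderOf_a,
          h.orderOf_mem (h.conj_mem hk hv) fun e => hv1 (conj_eq_one_iff.1 e)]
      obtain ⟨i, hi⟩ := Subgroup.mem_zpowers_iff.1 (hle h2)
      rw [conj_zpow] at hi
      exact hvw (Subgroup.mem_zpowers_iff.2 ⟨i, mul_left_cancel (mul_right_cancel hi)⟩))
  rcases h.exists_mem_commutator_or_le hJX ⟨T, hT⟩ with hle | ⟨e, ⟨heK, heJ⟩, he1⟩
  · exact h.J_le_H (hle hgX)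
  set K := (commutator X).map X.subtype with hK
  set E := K ⊓ h.J with hE
  set P := Subgroup.zpowers v ⊔ Subgroup.zpowers w with hP
  have hPJ : P ≤ h.J := sup_le (Subgroup.zpowers_le.2 hv) (Subgroup.zpowers_le.2 hw)
  have hdis : ∀ x ∈ P, x ∈ K → x = 1 := by
    intro x hx hxK
    have hcen : ∀ y ∈ X, y * x = x * y := by
      intro y hy
      have hle : P ≤ Subgroup.centralizer ({y} : Set G) := sup_le
        (Subgroup.zpowers_le.2 (Subgroup.mem_centralizer_singleton_iff.2 (hXv y hy).symm))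
        (Subgroup.zpowers_le.2 (Subgroup.mem_centralizer_singleton_iff.2 (hXw y hy).symm))
      exact (Subgroup.mem_centralizer_singleton_iff.1 (hle hx)).symm
    obtain ⟨x', hx', rfl⟩ := hxK
    have := eq_one_of_central_commutator T (hT ▸ ⟨⟨fun a b => Subtype.ext (Subtype.ext
      (h.J_comm (Subgroup.mem_subgroupOf.1 a.2) (Subgroup.mem_subgroupOf.1 b.2)))⟩⟩)
      (x := x') (by rw [hT]; exact Subgroup.mem_subgroupOf.2 (hPJ hx))
      (fun y => Subtype.ext (hcen y y.2)) hx'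
    rw [this]
    rfl
  have hEc : Nat.card E * Nat.card P ≤ 27 := by
    rw [← h.card_J, ← Nat.card_prod]
    refine Nat.card_le_card_of_injective
      (fun q => (⟨(q.1 : G) * q.2, h.J.mul_mem q.1.2.2 (hPJ q.2.2)⟩ : h.J)) ?_
    rintro ⟨a, b⟩ ⟨c, d⟩ hq
    have hq' : (a : G) * b = (c : G) * d := congrArg Subtype.val hq
    have h1 : (c : G)⁻¹ * a = (d : G) * (b : G)⁻¹ := by
      rw [eq_mul_inv_iff_mul_eq, mul_assoc, hq', inv_mul_cancel_left]
    have h0 := hdis _ (h1 ▸ P.mul_mem d.2 (P.inv_mem b.2)) (K.mul_mem (K.inv_mem c.2.1) a.2.1)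
    have hac : a = c := Subtype.ext (inv_mul_eq_one.1 h0).symm
    subst hac
    exact Prod.ext rfl (Subtype.ext (mul_left_cancel hq'))
  have hP9 : 9 ≤ Nat.card P := by
    have hle : Subgroup.zpowers v ≤ P := le_sup_left
    have hne : Subgroup.zpowers v ≠ P := fun he => hvw (he ▸ Subgroup.mem_sup_right (Subgroup.mem_zpowers w))
    have h3 : 3 < Nat.card P := by
      rw [← h.orderOf_mem hv hv1, ← Nat.card_zpowers]
      exact lt_of_le_of_ne (Subgroup.card_le_of_le hle) fun hc =>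
        hne (Subgroup.eq_of_le_of_card_ge hle hc.ge)
    obtain ⟨k, hk, hk'⟩ := (Nat.dvd_prime_pow Nat.prime_three (m := 3)).1
      (by simpa [h.card_J] using Subgroup.card_dvd_of_le hPJ)
    rw [hk'] at h3 ⊢
    interval_cases k <;> norm_num at *
  have he3 : orderOf e = 3 := h.orderOf_mem heJ he1
  have hEe : E = Subgroup.zpowers e := (Subgroup.eq_of_le_of_card_ge
    (Subgroup.zpowers_le.2 (show e ∈ E from ⟨heK, heJ⟩)) (by
      rw [Nat.card_zpowers, he3]
      nlinarith)).symm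
  set A := P ⊔ Subgroup.zpowers e with hA
  have hAJ : A = h.J := by
    have hle : A ≤ h.J := sup_le hPJ (Subgroup.zpowers_le.2 heJ)
    refine Subgroup.eq_of_le_of_card_ge hle ?_
    have hne : P ≠ A := fun he => he1 (hdis e (by rw [he]; exact Subgroup.mem_sup_right (Subgroup.mem_zpowers e)) heK)
    have h9 : 9 < Nat.card A := lt_of_le_of_lt hP9 (lt_of_le_of_ne
      (Subgroup.card_le_of_le le_sup_left) fun hc => hne (Subgroup.eq_of_le_of_card_ge le_sup_left hc.ge))
    obtain ⟨k, hk, hk'⟩ := (Nat.dvd_prime_pow Nat.prime_three (m := 3)).1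
      (by simpa [h.card_J] using Subgroup.card_dvd_of_le hle)
    rw [hk'] at h9
    rw [h.card_J, hk']
    interval_cases k <;> norm_num at *
  have hXK : X ≤ Subgroup.normalizer (K : Set G) :=
    Subgroup.le_normalizer.trans (norm_map_char X (commutator X) inferInstance)
  have hge := h.self_three (hJX.trans hXK) heK he3 (fun y hy hye => by
    have hyX : y ∈ X := Subgroup.map_subtype_le _ hy
    have hle : A ≤ Subgroup.centralizer ({y} : Set G) := sup_le (sup_le
      (Subgroup.zpowers_le.2 (Subgroup.mem_centralizer_singleton_iff.2 (hXv y hyX).symm))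
      (Subgroup.zpowers_le.2 (Subgroup.mem_centralizer_singleton_iff.2 (hXw y hyX).symm)))
      (Subgroup.zpowers_le.2 (Subgroup.mem_centralizer_singleton_iff.2 hye.symm))
    rw [hAJ] at hle
    rw [← hEe]
    exact ⟨hy, h.mem_J_of_comm fun x hx => (Subgroup.mem_centralizer_singleton_iff.1 (hle hx)).symm⟩)
    (hXK hgX)
  refine h.mem_H_of_conj ?_
  have hle : A ≤ h.J.comap (MulAut.conj g).toMonoidHom := sup_le (sup_le
    (Subgroup.zpowers_le.2 (show g * v * g⁻¹ ∈ h.J by rwa [hgv, mul_inv_cancel_right]))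
    (Subgroup.zpowers_le.2 (show g * w * g⁻¹ ∈ h.J by rwa [hgw, mul_inv_cancel_right])))
    (Subgroup.zpowers_le.2 (show g * e * g⁻¹ ∈ h.J from (Subgroup.zpowers_le.2 heJ) hge))
  rw [hAJ] at hle
  exact fun x hx => hle hx

end Hyp

end CfsgLib.Hayden48
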