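import Cfsg.Agent.Hayden48.Stab
import Cfsg.Agent.Hayden48.Planes
import Cfsg.Agent.S3333
import Cfsg.Agent.S3805

/-!
# Eight conjugates: the centralizers of the other elements of `J`

For `v` in `J` not conjugate to `a`, the Sylow 3-subgroup of `C(v)/⟨v⟩` is the self-centralizing
`J/⟨v⟩`, with the stabilizer of `v` in the monomial group as automizer.
-/

set_option autoImplicit false
set_option maxRecDepth 100000

namespace CfsgLib.Hayden48

open Matrix
open CfsgLib.HeisenbergSL (SL23 det2 upper negOne)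

namespace Hyp

variable {G : Type*} [Group G] (h : Hyp G)

/-- The centralizer of an element of `J`. -/
def Cv (v : V3) : Subgroup G := Subgroup.centralizer ({h.jj v} : Set G)

theorem mem_Cv {v : V3} {g : G} : g ∈ h.Cv v ↔ g * h.jj v = h.jj v * g :=
  Subgroup.mem_centralizer_singleton_iff

theorem J_le_Cv (v : V3) : h.J ≤ h.Cv v := fun _ hj => h.mem_Cv.2 (h.J_comm hj (h.jj_mem v))

/-- The subgroup generated by `v` in its centralizer. -/
def Uv (v : V3) : Subgroup (h.Cv v) :=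
  Subgroup.zpowers ⟨h.jj v, h.J_le_Cv v (h.jj_mem v)⟩

instance Uv_normal (v : V3) : (h.Uv v).Normal := ⟨fun n hn y => by
  obtain ⟨i, rfl⟩ := Subgroup.mem_zpowers_iff.1 hn
  rw [← conj_zpow, show y * ⟨h.jj v, h.J_le_Cv v (h.jj_mem v)⟩ * y⁻¹ =
      ⟨h.jj v, h.J_le_Cv v (h.jj_mem v)⟩ from Subtype.ext (mul_inv_eq_iff_eq_mul.2 (h.mem_Cv.1 y.2))]
  exact Subgroup.zpow_mem _ (Subgroup.mem_zpowers _) _⟩

variable [Finite G]

theorem act_fix_of_Cv {v : V3} {g : h.H} (hg : (g : G) ∈ h.Cv v) : h.act g v = v :=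
  h.act_eq (mul_inv_eq_iff_eq_mul.2 (h.mem_Cv.1 hg))

theorem mem_Cv_of_act {v : V3} {g : h.H} (hg : h.act g v = v) : (g : G) ∈ h.Cv v := by
  have := h.jj_act g v
  rw [hg] at this
  exact h.mem_Cv.2 (mul_inv_eq_iff_eq_mul.1 this.symm)

theorem mem_Uv {v : V3} {y : h.Cv v} (hy : y ∈ h.Uv v) :
    ∃ n : ZMod 3, (y : G) = h.jj (n.val • v) := by
  obtain ⟨i, rfl⟩ := Subgroup.mem_zpowers_iff.1 hy
  refine ⟨(i : ZMod 3), ?_⟩
  push_cast
  rw [← h.jj_pow, ← zpow_natCast, ZMod.val_intCast, Int.emod_def, _root_.zpow_sub, _root_.zpow_mul]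
  simp [zpow_natCast, h.J_exp (h.jj_mem v)]

/-- The local structure of `C(v)/⟨v⟩`. -/
theorem quotient_local (hO : ∀ p, h.O p ↔ p ∈ eight 0) {v : V3} {Γ : Type*} [Group Γ]
    {M : Γ → V3 → V3} (hv : VHyp v M) :
    ∃ T : Sylow 3 (h.Cv v ⧸ h.Uv v), Nat.card (T : Subgroup (h.Cv v ⧸ h.Uv v)) = 9 ∧
      Cfsg.IsElementaryAbelian 3 (T : Subgroup (h.Cv v ⧸ h.Uv v)) ∧
      Subgroup.centralizer ((T : Subgroup (h.Cv v ⧸ h.Uv v)) : Set (h.Cv v ⧸ h.Uv v)) = T ∧
      Nonempty (↥(Subgroup.normalizer ((T : Subgroup (h.Cv v ⧸ h.Uv v)) : Set (h.Cv v ⧸ h.Uv v))) ⧸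
        (T : Subgroup (h.Cv v ⧸ h.Uv v)).subgroupOf
          (Subgroup.normalizer ((T : Subgroup (h.Cv v ⧸ h.Uv v)) : Set (h.Cv v ⧸ h.Uv v))) ≃* Γ) ∧
      (∀ x ∈ (T : Subgroup (h.Cv v ⧸ h.Uv v)), x ≠ 1 →
        Subgroup.centralizer ({x} : Set (h.Cv v ⧸ h.Uv v)) ≤
          Subgroup.normalizer ((T : Subgroup (h.Cv v ⧸ h.Uv v)) : Set (h.Cv v ⧸ h.Uv v))) ∧
      (Subgroup.normalizer ((T : Subgroup (h.Cv v ⧸ h.Uv v)) : Set (h.Cv v ⧸ h.Uv v)) = ⊤ →
        h.Cv v ≤ h.H) := by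
  classical
  haveI : Fact (Nat.Prime 3) := ⟨Nat.prime_three⟩
  obtain ⟨P, hP⟩ := h.sylow_J (X := h.Cv v) (h.J_le_Cv v) (Zs := {h.jj v})
    (Set.singleton_subset_iff.2 (h.jj_mem v))
    (fun g hg z hz => by rw [Set.mem_singleton_iff.1 hz]; exact h.mem_Cv.1 hg)
    (fun g hg => ⟨h.jj v, rfl, fun hm => by
      haveI : Fact (Nat.Prime 3) := ⟨Nat.prime_three⟩
      rw [show g = ((⟨g, hg⟩ : h.H) : G) from rfl, ← h.jj_act] at hm
      have hOv : ¬ h.O (h.act ⟨g, hg⟩ v) := fun e => hv.notO ((hO v).1 (h.O_act.1 e))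
      rcases PSpAmalgam84.zpowers_three h.orderOf_a hm with e | e | e
      · rw [← h.jj_zero] at e
        exact hv.ne (h.act_inj ⟨g, hg⟩ ((h.jj_inj e).trans (h.act_zero _).symm))
      · rw [← show h.jj va = h.a from h.jj_a] at e
        exact hOv (by rw [h.jj_inj e]; exact h.O_a)
      · rw [← show h.jj va = h.a from h.jj_a, h.jj_inv] at e
        exact hOv (by rw [h.jj_inj e]; exact (hO _).2 va_mem_eight.2)⟩)
  set q := QuotientGroup.mk' (h.Uv v) with hq
  let T : Sylow 3 (h.Cv v ⧸ h.Uv v) := P.mapSurjective (QuotientGroup.mk'_surjective _)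
  have hT : (T : Subgroup (h.Cv v ⧸ h.Uv v)) = (h.J.subgroupOf (h.Cv v)).map q := by rw [← hP]; rfl
  have hrep : ∀ y : h.Cv v, q y ∈ (T : Subgroup (h.Cv v ⧸ h.Uv v)) ↔ (y : G) ∈ h.J := fun y => by
    rw [hT]
    constructor
    · rintro ⟨j, hj, hjy⟩
      obtain ⟨n, hn⟩ := h.mem_Uv (QuotientGroup.eq.1 hjy)
      push_cast at hn
      have := mul_mem (Subgroup.mem_subgroupOf.1 hj) (hn ▸ h.jj_mem (n.val • v))
      simpa using this
    · exact fun hy => ⟨y, Subgroup.mem_subgroupOf.2 hy, rfl⟩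
  set NT := Subgroup.normalizer ((T : Subgroup (h.Cv v ⧸ h.Uv v)) : Set (h.Cv v ⧸ h.Uv v)) with hNT
  have hNiff : ∀ y : h.Cv v, q y ∈ NT ↔ (y : G) ∈ h.H := fun y => by
    constructor
    · intro hy
      refine h.mem_H_of_conj fun j hj => ?_
      have := (Subgroup.mem_normalizer_iff.1 hy (q ⟨j, h.J_le_Cv v hj⟩)).1 ((hrep _).2 hj)
      rw [← map_inv, ← map_mul, ← map_mul, hrep] at this
      exact this
    · intro hy
      refine Subgroup.mem_normalizer_fintype fun e he => ?_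
      obtain ⟨w, rfl⟩ := QuotientGroup.mk'_surjective _ e
      rw [SetLike.mem_coe] at he ⊢
      rw [← map_inv, ← map_mul, ← map_mul, hrep]
      exact h.conj_mem hy ((hrep w).1 he)
  have hcard : Nat.card (T : Subgroup (h.Cv v ⧸ h.Uv v)) = 9 := by
    have hUJ : h.Uv v ≤ h.J.subgroupOf (h.Cv v) :=
      Subgroup.zpowers_le.2 (Subgroup.mem_subgroupOf.2 (h.jj_mem v))
    have hUc : Nat.card (h.Uv v) = 3 := by
      rw [Uv, Nat.card_zpowers, Subgroup.orderOf_mk]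
      refine h.orderOf_mem (h.jj_mem v) fun e => hv.ne ?_
      rw [← h.jj_zero] at e
      exact h.jj_inj e
    have hh := Subgroup.card_mul_index (q.comp (h.J.subgroupOf (h.Cv v)).subtype).ker
    rw [Subgroup.index_ker, MonoidHom.range_comp, Subgroup.range_subtype, ← hT,
      show (q.comp (h.J.subgroupOf (h.Cv v)).subtype).ker =
        (h.Uv v).subgroupOf (h.J.subgroupOf (h.Cv v)) from Subgroup.ext fun j => by
          rw [MonoidHom.mem_ker, MonoidHom.comp_apply, hq, QuotientGroup.mk'_apply,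
            QuotientGroup.eq_one_iff, Subgroup.mem_subgroupOf]; rfl,
      Nat.card_congr (Subgroup.subgroupOfEquivOfLe hUJ).toEquiv, hUc,
      Nat.card_congr (Subgroup.subgroupOfEquivOfLe (h.J_le_Cv v)).toEquiv, h.card_J] at hh
    omega
  have hea : Cfsg.IsElementaryAbelian 3 (T : Subgroup (h.Cv v ⧸ h.Uv v)) := by
    refine ⟨⟨⟨fun x z => ?_⟩⟩, fun x hx => ?_⟩
    · obtain ⟨x', hx'⟩ := QuotientGroup.mk'_surjective _ (x : h.Cv v ⧸ h.Uv v)
      obtain ⟨z', hz'⟩ := QuotientGroup.mk'_surjective _ (z : h.Cv v ⧸ h.Uv v)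
      refine Subtype.ext ?_
      show (x : h.Cv v ⧸ h.Uv v) * z = z * x
      rw [← hx', ← hz', ← map_mul, ← map_mul]
      congr 1
      exact Subtype.ext (h.J_comm ((hrep x').1 (by rw [hq, hx']; exact x.2))
        ((hrep z').1 (by rw [hq, hz']; exact z.2)))
    · obtain ⟨y, rfl⟩ := QuotientGroup.mk'_surjective _ x
      rw [← map_pow, show y ^ 3 = 1 from Subtype.ext (by push_cast; exact h.J_exp ((hrep y).1 hx)),
        map_one]
  have hmodv : ∀ (y : h.Cv v) {x : G} (hx : x ∈ h.Cv v), q (y * ⟨x, hx⟩ * y⁻¹) = q ⟨x, hx⟩ →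
      ∃ n : ZMod 3, (y : G) * x * (y : G)⁻¹ = x * h.jj (n.val • v) := by
    intro y x hx e
    obtain ⟨n, hn⟩ := h.mem_Uv (QuotientGroup.eq.1 e.symm)
    refine ⟨n, ?_⟩
    rw [← hn]
    push_cast
    group
  have hC : Subgroup.centralizer ((T : Subgroup (h.Cv v ⧸ h.Uv v)) : Set (h.Cv v ⧸ h.Uv v)) = T := by
    refine le_antisymm (fun e he => ?_) fun e he => Subgroup.mem_centralizer_iff.2 fun e' he' =>
      congrArg Subtype.val (hea.1.is_comm.comm ⟨e', he'⟩ ⟨e, he⟩)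
    obtain ⟨y, rfl⟩ := QuotientGroup.mk'_surjective _ e
    have hyH : (y : G) ∈ h.H := (hNiff y).1 (Subgroup.centralizer_le_normalizer _ he)
    refine (hrep y).2 (h.mem_J_of_act (g := ⟨_, hyH⟩) fun p => ?_)
    rw [lmap_spec _ (h.act_add _)]
    refine hv.self _ (h.tr_act_mem hO _) ?_ (fun r => ?_) p
    · rw [← lmap_spec _ (h.act_add _)]
      exact h.act_fix_of_Cv y.2
    · rw [← lmap_spec _ (h.act_add _)]
      obtain ⟨n, hn⟩ := hmodv y (h.J_le_Cv v (h.jj_mem r)) (by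
        rw [map_mul, map_mul, map_inv,
          ← Subgroup.mem_centralizer_iff.1 he _ ((hrep _).2 (h.jj_mem r)), mul_inv_cancel_right])
      exact ⟨n, h.act_eq (by rw [hn, h.jj_mul])⟩
  have hloc : ∀ x ∈ (T : Subgroup (h.Cv v ⧸ h.Uv v)), x ≠ 1 →
      Subgroup.centralizer ({x} : Set (h.Cv v ⧸ h.Uv v)) ≤ NT := by
    intro x hx hx1 e he
    obtain ⟨w, rfl⟩ := QuotientGroup.mk'_surjective _ x
    obtain ⟨y, rfl⟩ := QuotientGroup.mk'_surjective _ e
    rw [hNiff]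
    have hwJ : (w : G) ∈ h.J := (hrep w).1 hx
    have hwU : w ∉ h.Uv v := fun hm => hx1 ((QuotientGroup.eq_one_iff _).2 hm)
    have hwv : (w : G) ∉ Subgroup.zpowers (h.jj v) := fun hm => hwU (by
      obtain ⟨i, hi⟩ := Subgroup.mem_zpowers_iff.1 hm
      exact Subgroup.mem_zpowers_iff.2 ⟨i, Subtype.ext (by push_cast; exact hi)⟩)
    obtain ⟨n, hn⟩ := hmodv y w.2 (by
      rw [map_mul, map_mul, map_inv]
      exact mul_inv_eq_iff_eq_mul.2 (Subgroup.mem_centralizer_singleton_iff.1 he))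
    refine h.mem_H_of_conj fun j hj => ?_
    set d := (y : G) * j * (y : G)⁻¹ with hd
    have hdv : d * h.jj v = h.jj v * d := by
      have h1 : (y : G) * h.jj v * (y : G)⁻¹ = h.jj v := mul_inv_eq_iff_eq_mul.2 (h.mem_Cv.1 y.2)
      calc d * h.jj v = d * ((y : G) * h.jj v * (y : G)⁻¹) := by rw [h1]
        _ = (y : G) * (j * h.jj v) * (y : G)⁻¹ := by rw [hd]; group
        _ = (y : G) * h.jj v * (y : G)⁻¹ * d := by rw [h.J_comm hj (h.jj_mem v), hd]; group
        _ = _ := by rw [h1]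
    have hdw : d * (w : G) = (w : G) * d := by
      have h1 : Commute d ((w : G) * h.jj (n.val • v)) := by
        show _ = _
        rw [← hn, hd]
        calc (y : G) * j * (y : G)⁻¹ * ((y : G) * w * (y : G)⁻¹) = (y : G) * (j * w) * (y : G)⁻¹ := by group
          _ = (y : G) * (w * j) * (y : G)⁻¹ := by rw [h.J_comm hj hwJ]
          _ = _ := by group
      have h2 : Commute d (h.jj (n.val • v))⁻¹ := by
        rw [← h.jj_pow]
        exact ((show Commute d (h.jj v) from hdv).pow_right _).inv_right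
      have := h1.mul_right h2
      rwa [mul_inv_cancel_right] at this
    have hdH : d ∈ h.H := h.cent_plane_le (h.jj_mem v) hwJ
      (fun e => hv.ne (by rw [← h.jj_zero] at e; exact h.jj_inj e)) hwv hdv hdw
    refine h.mem_J_of_act (g := ⟨d, hdH⟩) fun p => ?_
    rw [lmap_spec _ (h.act_add _)]
    refine hv.cube _ (h.tr_act_mem hO _) ?_ (fun r => ?_) p
    · rw [← lmap_spec _ (h.act_add _)]
      exact h.act_fix_of_Cv (h.mem_Cv.2 hdv)
    · rw [← lmap_spec _ (h.act_add _), ← lmap_spec _ (h.act_add _), ← lmap_spec _ (h.act_add _),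
        ← h.act_mul, ← h.act_mul]
      refine h.act_of_mem ?_ r
      rw [Subgroup.coe_mul, Subgroup.coe_mul]
      show d * d * d ∈ h.J
      rw [hd,
        show (y : G) * j * (y : G)⁻¹ * ((y : G) * j * (y : G)⁻¹) * ((y : G) * j * (y : G)⁻¹) =
          (y : G) * j ^ 3 * (y : G)⁻¹ by rw [pow_succ, pow_two]; group, h.J_exp hj]
      simp
  have hlift : ∀ d, ∃ g : h.H, ∀ p, h.act g p = M d p := fun d => by
    obtain ⟨g, hg⟩ := h.exists_act_good hO (hv.good d).1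
    exact ⟨g, fun p => (hg p).trans ((hv.good d).2.1 p).symm⟩
  choose g hg using hlift
  have hgC : ∀ d, (g d : G) ∈ h.Cv v := fun d => h.mem_Cv_of_act (by rw [hg, (hv.good d).2.2])
  let K := (T : Subgroup (h.Cv v ⧸ h.Uv v)).subgroupOf NT
  let φ0 : Γ → NT ⧸ K := fun d =>
    QuotientGroup.mk ⟨q ⟨g d, hgC d⟩, (hNiff _).2 (g d).2⟩
  have heq : ∀ (d : Γ) (y : h.Cv v) (hy : q y ∈ NT),
      φ0 d = (QuotientGroup.mk (⟨q y, hy⟩ : NT) : NT ⧸ K) ↔
        ∀ p, h.act ⟨(y : G), (hNiff y).1 hy⟩ p = M d p := by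
    intro d y hy
    have hyH := (hNiff y).1 hy
    rw [QuotientGroup.eq, Subgroup.mem_subgroupOf]
    push_cast
    rw [← map_inv, ← map_mul, hrep]
    have key : (((g d)⁻¹ * ⟨(y : G), hyH⟩ : h.H) : G) ∈ h.J ↔
        ∀ p, h.act ⟨(y : G), hyH⟩ p = M d p := by
      constructor
      · intro hm p
        have := h.act_of_mem hm p
        rw [← hg, ← mul_inv_cancel_left (g d) (⟨(y : G), hyH⟩ : h.H), h.act_mul, this]
      · intro hm
        refine h.mem_J_of_act fun p => ?_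
        rw [h.act_mul, hm, ← hg, ← h.act_mul, inv_mul_cancel, h.act_one]
    push_cast at key ⊢
    exact key
  let φ : Γ →* NT ⧸ K := MonoidHom.mk' φ0 fun d e => by
    have hm : q (⟨g d, hgC d⟩ * ⟨g e, hgC e⟩) ∈ NT := (hNiff _).2 (mul_mem (g d).2 (g e).2)
    rw [(heq (d * e) _ hm).2 fun p => by
      rw [show (⟨((⟨g d, hgC d⟩ * ⟨g e, hgC e⟩ : h.Cv v) : G), _⟩ : h.H) = g d * g e from
        Subtype.ext rfl, h.act_mul, hg, hg, hv.mul]]
    show _ = QuotientGroup.mk (_ : NT) * QuotientGroup.mk (_ : NT)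
    rw [← QuotientGroup.mk_mul]
    congr 1
  have hφ : Function.Bijective φ := by
    constructor
    · rw [injective_iff_map_eq_one]
      intro d hd
      have h1 : q (1 : h.Cv v) ∈ NT := by rw [map_one]; exact one_mem _
      refine hv.inj d fun p => ?_
      have := (heq d 1 h1).1 (by
        show φ d = _
        rw [hd, eq_comm, QuotientGroup.eq_one_iff, Subgroup.mem_subgroupOf]
        show q 1 ∈ (T : Subgroup (h.Cv v ⧸ h.Uv v))
        rw [map_one]
        exact one_mem _) p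
      rw [← this]
      exact h.act_of_mem h.J.one_mem p
    · intro x
      obtain ⟨⟨e, he⟩, rfl⟩ := QuotientGroup.mk_surjective x
      obtain ⟨y, rfl⟩ := QuotientGroup.mk'_surjective _ e
      have hyH := (hNiff y).1 he
      obtain ⟨d, hd⟩ := hv.complete _ (h.tr_act_mem hO ⟨_, hyH⟩)
        (by rw [← lmap_spec _ (h.act_add _)]; exact h.act_fix_of_Cv y.2)
      refine ⟨d, (heq d y he).2 fun p => ?_⟩
      rw [lmap_spec _ (h.act_add _), hd]
  exact ⟨T, hcard, hea, hC, ⟨(MulEquiv.ofBijective φ hφ).symm⟩, hloc, fun htop g hg' =>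
    (hNiff ⟨g, hg'⟩).1 (by rw [show NT = ⊤ from htop]; exact Subgroup.mem_top _)⟩

/-- The centralizer of the sum of two basis vectors normalizes `J`. -/
theorem cent_vs_le (hO : ∀ p, h.O p ↔ p ∈ eight 0) : h.Cv vs ≤ h.H := by
  obtain ⟨T, hc, hea, hC, ⟨e⟩, hloc, htop⟩ := h.quotient_local hO vhyp_s
  refine htop (Cfsg.Agent.S3805.result T hea hc hC ?_ hloc)
  exact ⟨by rw [Nat.card_congr e.toEquiv]; exact IsKleinFour.card_four,
    by rw [Monoid.exponent_eq_of_mulEquiv e]; exact IsKleinFour.exponent_two⟩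

/-- The centralizer of a basis vector normalizes `J` or has quotient the symmetric group of
degree six. -/
theorem cent_vc_cases (hO : ∀ p, h.O p ↔ p ∈ eight 0) :
    h.Cv vc ≤ h.H ∨ Nonempty (h.Cv vc ⧸ h.Uv vc ≃* Equiv.Perm (Fin 6)) := by
  obtain ⟨T, hc, -, hC, ⟨e⟩, hloc, htop⟩ := h.quotient_local hO vhyp_c
  rcases Cfsg.Agent.S3333.result T (T : Subgroup (h.Cv vc ⧸ h.Uv vc)) rfl hc hC e hloc with hn | hs
  · exact Or.inl (htop (Subgroup.normalizer_eq_top_iff.2 hn))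
  · exact Or.inr hs

end Hyp

end CfsgLib.Hayden48
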