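import Cfsg.Agent.Hayden48.Mono
import Cfsg.Agent.PLocal.Cores
import Cfsg.Agent.Hayden48.Local
import Cfsg.Agent.Forms.PSpTransport
import Cfsg.Agent.Forms4.SymplecticSimple
import Cfsg.Prelude.Def_CaseTheorems

/-!
# Eight conjugates: identification of `Sp(6,2)` from the centralizer of a 2-central involution

Of the groups with an involution centralizer of this shape only `Sp(6,2)` is possible: the
alternating groups have Sylow 3-subgroups which are too large, and an abelian normal subgroup of
odd order would make `J` normal.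
-/

set_option autoImplicit false
set_option maxRecDepth 100000

namespace CfsgLib.Hayden48

open Matrix
open CfsgLib.HeisenbergSL (SL23 det2 upper negOne)

theorem eight_spans : ∀ p : V3, ∃ l m n : Fin 3,
    p = l.val • va + m.val • ((0, 0, 1) : V3) + n.val • ((2, 2, 1) : V3) := by decide +kernel

/-- `Sp(6,2)` is `PSp(6,2)`. -/
theorem nonempty_sp_equiv_psp {F₂ : Type*} [Field F₂] [Fintype F₂] (hF₂ : Fintype.card F₂ = 2)
    {F : Type*} [Field F] [Fintype F] (hF : Fintype.card F = 2) :
    Nonempty (Cfsg.PSp 3 F ≃* Matrix.symplecticGroup (Fin 3) F₂) := by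
  have hcen : Subgroup.center (Matrix.symplecticGroup (Fin 3) F₂) = ⊥ :=
    Subgroup.eq_bot_of_card_eq _ (by rw [Forms4.card_center_Sp (by norm_num), hF₂]; rfl)
  obtain ⟨e⟩ := Forms.nonempty_psp_equiv
    ((ZMod.ringEquivOfPrime F Nat.prime_two hF).symm.trans
      (ZMod.ringEquivOfPrime F₂ Nat.prime_two hF₂)) 3
  exact ⟨e.trans ((QuotientGroup.quotientMulEquivOfEq hcen).trans QuotientGroup.quotientBot)⟩

theorem card_alternating_large {n : ℕ} (hn : 12 ≤ n) :
    3 ^ 5 ∣ Nat.card (alternatingGroup (Fin n)) := by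
  haveI : Nontrivial (Fin n) := Fin.nontrivial_iff_two_le.2 (by omega)
  have h := two_mul_nat_card_alternatingGroup (α := Fin n)
  rw [Nat.card_perm, Nat.card_fin] at h
  have h12 : 3 ^ 5 ∣ n.factorial :=
    ((show 3 ^ 5 ∣ (12 : ℕ).factorial by decide +kernel)).trans (Nat.factorial_dvd_factorial hn)
  rw [← h] at h12
  exact (show Nat.Coprime (3 ^ 5) 2 by norm_num).dvd_of_dvd_mul_left h12

namespace Hyp

variable {G : Type*} [Group G] [Finite G] (h : Hyp G)

include h in
theorem not_243_dvd : ¬ 3 ^ 5 ∣ Nat.card G := by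
  haveI : Fact (Nat.Prime 3) := ⟨Nat.prime_three⟩
  obtain ⟨T, hT⟩ := h.exists_sylow
  intro hd
  have := T.pow_dvd_card_of_pow_dvd_card (n := 5) hd
  rw [hT, h.card_S] at this
  norm_num at this

/-- There is no nontrivial normal 3-subgroup when `a` has its eight conjugates in `J` and the
order of the group is divisible by 64. -/
theorem eq_bot_of_normal_three (hO : ∀ p, h.O p ↔ p ∈ eight 0) (h64 : 64 ∣ Nat.card G)
    (hH : Nat.card h.H = 1296) (O : Subgroup G) [hn : O.Normal] (h3 : IsPGroup 3 O)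
    (hc : IsMulCommutative O) : O = ⊥ := by
  haveI : Fact (Nat.Prime 3) := ⟨Nat.prime_three⟩
  by_contra hne
  obtain ⟨T, hT⟩ := h.exists_sylow
  have hOS : O ≤ h.S := by
    obtain ⟨U, hU⟩ := h3.exists_le_sylow
    obtain ⟨g, hg⟩ := MulAction.exists_smul_eq G U T
    intro x hx
    rw [← hT, ← hg, Sylow.coe_subgroup_smul, Subgroup.mem_pointwise_smul_iff_inv_smul_mem]
    refine hU ?_
    simpa [MulAut.smul_def] using hn.conj_mem x hx g⁻¹
  -- `O` contains a nontrivial central element of `S`
  have haO : h.a ∈ O := by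
    letI : MulAction h.S O :=
      { smul := fun s x => ⟨(s : G) * x * (s : G)⁻¹, hn.conj_mem _ x.2 _⟩
        one_smul := fun x => Subtype.ext (show (1 : G) * x * (1 : G)⁻¹ = x by group)
        mul_smul := fun s u x => Subtype.ext (show ((s : G) * u) * x * ((s : G) * u)⁻¹ =
          (s : G) * ((u : G) * x * (u : G)⁻¹) * (s : G)⁻¹ by group) }
    have hdvd : 3 ∣ Nat.card O := by
      obtain ⟨k, hk⟩ := IsPGroup.iff_card.1 h3
      rcases Nat.eq_zero_or_pos k with rfl | hk0
      · rw [pow_zero] at hk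
        exact absurd (Subgroup.eq_bot_of_card_eq _ hk) hne
      · exact hk ▸ dvd_pow_self 3 hk0.ne'
    obtain ⟨x, hx, hx1⟩ := h.isPGroup_S.exists_fixed_point_of_prime_dvd_card_of_fixed_point O hdvd
      (a := 1) (fun s => Subtype.ext (show (s : G) * 1 * (s : G)⁻¹ = 1 by group))
    have hcen : (x : G) ∈ Subgroup.zpowers h.a := h.centre_S (hOS x.2) fun s hs =>
      (mul_inv_eq_iff_eq_mul.1 (congrArg Subtype.val (hx ⟨s, hs⟩))).symm
    rcases PSpAmalgam84.zpowers_three h.orderOf_a hcen with e | e | e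
    · exact absurd (Subtype.ext e : x = 1) hx1.symm
    · exact e ▸ x.2
    · have := O.inv_mem x.2
      rwa [e, inv_inv] at this
  have hall : ∀ p ∈ eight 0, h.jj p ∈ O := fun p hp => by
    obtain ⟨g, hg⟩ := isConj_iff.1 ((hO p).2 hp)
    rw [← hg]
    exact hn.conj_mem _ haO g
  have hJO : h.J ≤ O := fun x hx => by
    obtain ⟨p, rfl⟩ := h.exists_jj hx
    obtain ⟨l, m, n, e⟩ := eight_spans p
    rw [e, ← h.jj_mul, ← h.jj_mul, ← h.jj_pow, ← h.jj_pow, ← h.jj_pow]
    exact mul_mem (mul_mem (pow_mem (hall _ basis_mem.1) _)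
      (pow_mem (hall _ basis_mem.2.1) _)) (pow_mem (hall _ basis_mem.2.2) _)
  have hOJ : O ≤ h.J := fun x hx => h.mem_J_of_comm fun y hy =>
    congrArg Subtype.val (hc.is_comm.comm ⟨x, hx⟩ ⟨y, hJO hy⟩)
  have e : O = h.J := le_antisymm hOJ hJO
  have htop : h.H = ⊤ := by
    rw [Hyp.H, ← e]
    exact Subgroup.normalizer_eq_top_iff.2 hn
  rw [← Subgroup.card_top (G := G), ← htop, hH] at h64
  norm_num at h64

/-- The identification, given the recognition theorem by the centralizer. -/
theorem nonempty_sp_six_of_centralizer (hO : ∀ p, h.O p ↔ p ∈ eight 0) (hH : Nat.card h.H = 1296)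
    {ρ : G} (h64 : 64 ∣ Nat.card (Subgroup.centralizer ({ρ} : Set G)))
    (hrec : Nonempty (G ≃* alternatingGroup (Fin 12)) ∨ Nonempty (G ≃* alternatingGroup (Fin 13)) ∨
      (∃ (F : Type) (_ : Field F) (_ : Fintype F), Fintype.card F = 2 ∧
        Nonempty (G ≃* Cfsg.PSp 3 F)) ∨
      (Cfsg.oddCore G ⊔ Subgroup.centralizer ({ρ} : Set G) = ⊤ ∧
        IsMulCommutative (Cfsg.oddCore G)))
    (hρ : ¬ ∀ g : G, g * ρ = ρ * g)
    {F₂ : Type*} [Field F₂] [Fintype F₂] (hF₂ : Fintype.card F₂ = 2) :
    Nonempty (G ≃* Matrix.symplecticGroup (Fin 3) F₂) := by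
  rcases hrec with ⟨⟨e⟩⟩ | ⟨⟨e⟩⟩ | ⟨F, _, _, hF, ⟨e⟩⟩ | ⟨hsup, hc⟩
  · exact absurd (Nat.card_congr e.toEquiv ▸ card_alternating_large le_rfl) h.not_243_dvd
  · exact absurd (Nat.card_congr e.toEquiv ▸ card_alternating_large (by norm_num)) h.not_243_dvd
  · obtain ⟨f⟩ := nonempty_sp_equiv_psp hF₂ hF
    exact ⟨e.trans f⟩
  · exfalso
    haveI : Fact (Nat.Prime 3) := ⟨Nat.prime_three⟩
    set O := Cfsg.oddCore G with hOdef
    have hOch : O.Characteristic :=
      Subgroup.characteristic_iff_map_eq.mpr fun φ => PLocal.map_pPrimeCore_equiv φ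
    -- the part prime to three is killed by `J`
    set K := (Cfsg.pPrimeCore 3 O).map O.subtype with hK
    have hKb : K = ⊥ := h.sig K
      (by rw [hK, Subgroup.card_map_of_injective O.subtype_injective]
          exact PLocal.coprime_card_pPrimeCore 3 O)
      (fun j _ => norm_map_char O _ (Subgroup.characteristic_iff_map_eq.mpr fun φ =>
        PLocal.map_pPrimeCore_equiv φ) (by rw [Subgroup.normalizer_eq_top_iff.2 inferInstance]; trivial))
    rw [hK, Subgroup.map_eq_bot_iff_of_injective _ O.subtype_injective] at hKb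
    -- so it is a 3-group
    obtain ⟨T⟩ : Nonempty (Sylow 3 O) := inferInstance
    have h3 : IsPGroup 3 O := by
      haveI := hc
      have hTn : ∀ p, ∀ (_ : Fact p.Prime) (U : Sylow p O), p ≠ 3 → (U : Subgroup O) = ⊥ := by
        intro p hp U hp3
        haveI : (U : Subgroup O).Normal := ⟨fun x hx g => by
          rwa [show g * x * g⁻¹ = x by rw [hc.is_comm.comm g x, mul_inv_cancel_right]]⟩
        have hle := PLocal.le_pPrimeCore (p := 3) (N := (U : Subgroup O)) (by
          obtain ⟨n, hn⟩ := IsPGroup.iff_card.1 U.isPGroup'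
          rw [hn]
          exact Nat.Coprime.pow_left n ((Nat.coprime_primes hp.out Nat.prime_three).2 hp3))
        rw [hKb] at hle
        exact le_bot_iff.1 hle
      refine IsPGroup.of_card (n := (Nat.card O).factorization 3) ?_
      refine Nat.eq_of_factorization_eq Nat.card_pos.ne' (by positivity) fun p => ?_
      rw [Nat.factorization_pow, Finsupp.smul_apply, Nat.Prime.factorization Nat.prime_three,
        smul_eq_mul]
      by_cases hp3 : p = 3
      · subst hp3; rw [Finsupp.single_eq_same, mul_one]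
      · rw [Finsupp.single_eq_of_ne hp3, mul_zero]
        by_cases hp : p.Prime
        · haveI := Fact.mk hp
          obtain ⟨U⟩ : Nonempty (Sylow p O) := inferInstance
          have := U.card_eq_multiplicity
          rw [hTn p ⟨hp⟩ U hp3, Subgroup.card_bot] at this
          by_contra h0
          have hlt := Nat.one_lt_pow h0 hp.one_lt
          omega
        · exact Nat.factorization_eq_zero_of_not_prime _ hp
    have hd : 64 ∣ Nat.card G := h64.trans (Subgroup.card_subgroup_dvd_card _)
    have hb := h.eq_bot_of_normal_three hO hd hH O h3 hc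
    rw [hb, bot_sup_eq] at hsup
    exact hρ fun g => Subgroup.mem_centralizer_singleton_iff.1 (hsup ▸ Subgroup.mem_top g)

end Hyp

end CfsgLib.Hayden48
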