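import Cfsg.Agent.AltTwelveCentraliser.Frame
import Mathlib.GroupTheory.Sylow
import Mathlib.GroupTheory.Nilpotent

/-!
# An involution with the centralizer of `A₁₂` is central in a Sylow subgroup

In the Sylow subgroup of the model the involution is the only central element apart from the
identity that is not a square, so the normalizer of that subgroup centralizes the involution.
-/

set_option autoImplicit false
set_option maxRecDepth 100000

namespace CfsgLib.Hayden48

open CfsgLib.AltTwelveCentraliser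

theorem sylow_center_check :
    (sList.all fun c => !(sList.all fun d => commC c d) || Nat.beq c oneC || Nat.beq c alC ||
      sList.any fun d => Nat.beq (mulP d d) c) = true := by decide +kernel

theorem sylow_square_check : (sList.all fun d => !Nat.beq (mulP d d) alC) = true := by
  decide +kernel

theorem alC_mem_sylow : inS alC = true ∧ (sList.all fun d => commC alC d) = true := by
  decide +kernel

/-- The involution of the frame lies in the centre of some Sylow subgroup. -/
theorem exists_sylow_central {G : Type*} [Group G] [Finite G] {z : G} (F : Frame z) :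
    ∃ S : Sylow 2 G, z ∈ (S : Subgroup G) ⊓ Subgroup.centralizer ((S : Subgroup G) : Set G) := by
  haveI : Fact (Nat.Prime 2) := ⟨Nat.prime_two⟩
  let T : Subgroup G := (sylSub.subgroupOf Cen).map F.φ
  have hmemT : ∀ x, x ∈ T ↔ ∃ c ∈ sList, F.el c = x := by
    intro x
    constructor
    · rintro ⟨σ, hσ, rfl⟩
      exact ⟨enc σ, mem_sList σ.2 hσ.2, by rw [Frame.el, permC_enc]⟩
    · rintro ⟨c, hc, rfl⟩
      obtain ⟨σ, hσ, rfl⟩ := enc_sylSub_iff.1 hc
      exact ⟨⟨σ, hσ.1⟩, hσ, by rw [Frame.el, show permC (enc σ) = ⟨σ, hσ.1⟩ from permC_enc ⟨σ, hσ.1⟩]⟩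
  have hok : ∀ c ∈ sList, okC c = true := fun c hc => by
    obtain ⟨σ, hσ, rfl⟩ := enc_sylSub_iff.1 hc
    exact okC_enc hσ.1
  have hcard : Nat.card T = 512 := by
    rw [Subgroup.card_map_of_injective F.inj,
      Nat.card_congr (Subgroup.subgroupOfEquivOfLe (fun σ (h : σ ∈ sylSub) => h.1)).toEquiv,
      card_sylSub]
  have hTC : T ≤ Subgroup.centralizer ({z} : Set G) := fun x hx => by
    obtain ⟨c, -, rfl⟩ := (hmemT x).1 hx
    exact F.el_mem c
  have hzT : z ∈ T := by
    refine (hmemT z).2 ⟨alC, ?_, F.el_alC⟩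
    rw [← enc_alP]
    exact mem_sList alP_mem (enc_alP ▸ alC_mem_sylow.1)
  have hzc : ∀ y ∈ T, y * z = z * y := fun y hy =>
    Subgroup.mem_centralizer_singleton_iff.1 (hTC hy)
  have huniq : ∀ x ∈ T, (∀ y ∈ T, x * y = y * x) → x ≠ 1 → (∀ y ∈ T, y * y ≠ x) → x = z := by
    intro x hx hcomm h1 hsq
    obtain ⟨c, hc, rfl⟩ := (hmemT x).1 hx
    have h := List.all_eq_true.1 sylow_center_check c hc
    simp only [Bool.or_eq_true, Bool.not_eq_true', Nat.beq_eq, List.any_eq_true] at h
    rcases h with ((h | h) | h) | ⟨d, hd, h⟩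
    · have hall : (sList.all fun d => commC c d) = true := List.all_eq_true.2 fun d hd =>
        (F.el_comm_iff (hok c hc) (hok d hd)).2 (hcomm _ ((hmemT _).2 ⟨d, hd, rfl⟩))
      rw [hall] at h
      exact Bool.noConfusion h
    · exact absurd (by rw [h, F.el_oneC]) h1
    · rw [h, F.el_alC]
    · exact absurd (by rw [← F.el_mul (hok d hd) (hok d hd), h]) (hsq _ ((hmemT _).2 ⟨d, hd, rfl⟩))
  have hzsq : ∀ y ∈ T, y * y ≠ z := by
    intro y hy e
    obtain ⟨d, hd, rfl⟩ := (hmemT y).1 hy
    have h := List.all_eq_true.1 sylow_square_check d hd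
    have e' : F.el (mulP d d) = F.el alC := by
      rw [F.el_mul (hok d hd) (hok d hd)]; exact e.trans F.el_alC.symm
    rw [F.el_inj (okC_mulP (hok d hd) (hok d hd)) okC_alC e', Bool.not_eq_true', ← Bool.not_eq_true,
      Nat.beq_eq] at h
    exact h rfl
  have hT2 : IsPGroup 2 T := IsPGroup.of_card (n := 9) (by rw [hcard]; norm_num)
  obtain ⟨S, hTS⟩ := hT2.exists_le_sylow
  suffices hST : (S : Subgroup G) = T by
    refine ⟨S, ?_⟩
    rw [hST]
    exact ⟨hzT, Subgroup.mem_centralizer_iff.2 fun y hy => hzc y hy⟩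
  by_contra hne
  -- the normalizer grows, and centralizes the involution
  haveI : Group.IsNilpotent (S : Subgroup G) := S.isPGroup'.isNilpotent
  have hlt : T.subgroupOf (S : Subgroup G) < ⊤ := lt_top_iff_ne_top.2 fun e =>
    hne (le_antisymm (Subgroup.subgroupOf_eq_top.1 e) hTS)
  obtain ⟨g, hgn, hgT⟩ := SetLike.exists_of_lt (Group.normalizerCondition_of_isNilpotent _ hlt)
  have hconj : ∀ y, y ∈ T ↔ (g : G) * y * (g : G)⁻¹ ∈ T := by
    intro y
    constructor
    · intro hy
      exact (Subgroup.mem_normalizer_iff.1 hgn ⟨y, hTS hy⟩).1 hy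
    · intro hy
      have hyS : y ∈ (S : Subgroup G) := by
        have := mul_mem (mul_mem (inv_mem g.2) (hTS hy)) g.2
        rwa [show (g : G)⁻¹ * ((g : G) * y * (g : G)⁻¹) * g = y by group] at this
      exact (Subgroup.mem_normalizer_iff.1 hgn ⟨y, hyS⟩).2 hy
  have hfix : (g : G) * z * (g : G)⁻¹ = z := by
    refine huniq _ ((hconj z).1 hzT) (fun y hy => ?_) ?_ fun y hy e => ?_
    · have hy' : (g : G)⁻¹ * y * g ∈ T :=
        (hconj _).2 (by rwa [show (g : G) * ((g : G)⁻¹ * y * g) * (g : G)⁻¹ = y by group])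
      have h := congrArg (fun t => (g : G) * t * (g : G)⁻¹) (hzc _ hy')
      rw [show (g : G) * ((g : G)⁻¹ * y * g * z) * (g : G)⁻¹ = y * ((g : G) * z * (g : G)⁻¹) by group,
        show (g : G) * (z * ((g : G)⁻¹ * y * g)) * (g : G)⁻¹ = (g : G) * z * (g : G)⁻¹ * y by group] at h
      exact h.symm
    · intro e
      exact F.z_ne_one (conj_eq_one_iff.1 e)
    · refine hzsq ((g : G)⁻¹ * y * g)
        ((hconj _).2 (by rwa [show (g : G) * ((g : G)⁻¹ * y * g) * (g : G)⁻¹ = y by group])) ?_
      rw [show (g : G)⁻¹ * y * g * ((g : G)⁻¹ * y * g) = (g : G)⁻¹ * (y * y) * g by group, e]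
      group
  -- so it lies in a 2-subgroup of the centralizer, of order at most 512
  set U := (S : Subgroup G) ⊓ Subgroup.centralizer ({z} : Set G) with hU
  have hgU : (g : G) ∈ U :=
    ⟨g.2, Subgroup.mem_centralizer_singleton_iff.2 (mul_inv_eq_iff_eq_mul.1 hfix)⟩
  have hTU : T ≤ U := le_inf hTS hTC
  obtain ⟨n, hn⟩ := IsPGroup.iff_card.1 (S.isPGroup'.to_le (inf_le_left : U ≤ (S : Subgroup G)))
  have hd : 2 ^ n ∣ 23040 := by
    rw [← hn, ← card_Cen, show Nat.card Cen = Nat.card (Subgroup.centralizer ({z} : Set G)) by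
      rw [← F.range_eq]; exact Nat.card_congr (MonoidHom.ofInjective F.inj).toEquiv]
    exact Subgroup.card_dvd_of_le inf_le_right
  have hn9 : n ≤ 9 := by
    by_contra hc
    exact absurd ((pow_dvd_pow 2 (show 10 ≤ n by omega)).trans hd) (by norm_num)
  have hUT : T = U := Subgroup.eq_of_le_of_card_ge hTU (by
    rw [hn, hcard, show 512 = 2 ^ 9 by norm_num]
    exact Nat.pow_le_pow_right (by norm_num) hn9)
  exact hgT (show (g : G) ∈ T by rw [hUT]; exact hgU)

end CfsgLib.Hayden48
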