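import Cfsg.Agent.Hayden48.SpSixFinal
import Cfsg.Agent.Hayden48.SpSixSylow

/-!
# The symplectic group from the centralizer of an involution
-/

set_option autoImplicit false

namespace CfsgLib.Hayden48

open CfsgLib.AltTwelveCentraliser

/-- The recognition theorem by the centralizer, as a hypothesis. -/
def RecByCentralizer (G : Type*) [Group G] [Finite G] : Prop :=
  ∀ (α : G), orderOf α = 2 → ∀ S : Sylow 2 G,
    α ∈ (S : Subgroup G) ⊓ Subgroup.centralizer ((S : Subgroup G) : Set G) →
    Nonempty (↥(Subgroup.centralizer ({α} : Set G)) ≃* ↥Cen) →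
    Nonempty (G ≃* ↥(alternatingGroup (Fin 12))) ∨ Nonempty (G ≃* ↥(alternatingGroup (Fin 13))) ∨
      (∃ (F : Type) (_ : Field F) (_ : Fintype F), Fintype.card F = 2 ∧
        Nonempty (G ≃* Cfsg.PSp 3 F)) ∨
      (Cfsg.oddCore G ⊔ Subgroup.centralizer ({α} : Set G) = ⊤ ∧
        IsMulCommutative ↥(Cfsg.oddCore G))

namespace Hyp

variable {G : Type*} [Group G] [Finite G] (h : Hyp G)

/-- The identification from an involution with the centralizer of `A₁₂`. -/
theorem nonempty_sp_six_of_model (hrec : RecByCentralizer G)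
    (hO : ∀ p, h.O p ↔ p ∈ eight 0) {ρ : G} (hρ : orderOf ρ = 2)
    (hC : Nonempty (↥(Subgroup.centralizer ({ρ} : Set G)) ≃* ↥Cen))
    {F₂ : Type*} [Field F₂] [Fintype F₂] (hF₂ : Fintype.card F₂ = 2) :
    Nonempty (G ≃* Matrix.symplecticGroup (Fin 3) F₂) := by
  obtain ⟨Fr⟩ := Frame.exists_of_equiv hρ hC
  obtain ⟨S, hS⟩ := exists_sylow_central Fr
  have hcard : Nat.card (Subgroup.centralizer ({ρ} : Set G)) = 23040 :=
    (Nat.card_congr hC.some.toEquiv).trans card_Cen
  refine h.nonempty_sp_six_of_centralizer hO (h.card_H_eight hO) (by rw [hcard]; norm_num)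
    (hrec ρ hρ S hS hC) (fun hc => ?_) hF₂
  have htop : Subgroup.centralizer ({ρ} : Set G) = ⊤ :=
    eq_top_iff.2 fun g _ => Subgroup.mem_centralizer_singleton_iff.2 (hc g)
  have hd := Subgroup.card_subgroup_dvd_card h.H
  rw [h.card_H_eight hO, ← Subgroup.card_top (G := G), ← htop, hcard] at hd
  norm_num at hd

end Hyp

end CfsgLib.Hayden48
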