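import Cfsg.Agent.AltTwelveCentraliser.Frame
import Mathlib.GroupTheory.Perm.Sign
import Mathlib.GroupTheory.Index

/-!
# The centralizer of a fixed-point-free involution in `A₁₂`

A split extension of an elementary group of order 32 by `S₆` in which the two kinds of 3-cycles
of a Sylow subgroup fix eight elements each, and with no character moving the central involution,
is the centralizer in `A₁₂`: the module is that of the even subsets of the six points.
-/

set_option autoImplicit false
set_option maxRecDepth 100000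

namespace CfsgLib.Hayden48

open Equiv CfsgLib.AltTwelveCentraliser

/-- Points of the six pairs. -/
def pairEquiv : Fin 6 × Fin 2 ≃ Fin 12 where
  toFun x := ⟨(x.2 : ℕ) + 2 * x.1, by omega⟩
  invFun y := (⟨(y : ℕ) / 2, by omega⟩, ⟨(y : ℕ) % 2, by omega⟩)
  left_inv x := Prod.ext (Fin.ext (by simp only; omega)) (Fin.ext (by simp only; omega))
  right_inv y := Fin.ext (by simp only; omega)

/-- The flip of a pair. -/
def flipPerm (x : ZMod 2) : Perm (Fin 2) := if x = 1 then Equiv.swap 0 1 else 1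

theorem flipPerm_add : ∀ x y : ZMod 2, flipPerm (x + y) = flipPerm x * flipPerm y := by
  decide +kernel

theorem sign_flipPerm : ∀ x : ZMod 2, Perm.sign (flipPerm x) = if x = 1 then -1 else 1 := by
  decide +kernel

theorem flip_comm : ∀ x : ZMod 2, flipPerm x * Equiv.swap 0 1 = Equiv.swap 0 1 * flipPerm x := by
  decide +kernel

theorem flip_zero : ∀ x : ZMod 2, flipPerm x 0 = 0 → x = 0 := by decide +kernel

theorem two_cases : ∀ x : ZMod 2, x = 0 ∨ x = 1 := by decide

theorem one_add_one : (1 : ZMod 2) + 1 = 0 := by decide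

theorem zero_ne_one_two : ¬ (0 : ZMod 2) = 1 := by decide

theorem ofAdd_one_sq : (1 : Multiplicative (ZMod 2)) =
    Multiplicative.ofAdd 1 * Multiplicative.ofAdd 1 := by decide

theorem ofAdd_one_ne : ¬ Multiplicative.ofAdd (1 : ZMod 2) = 1 := by decide

/-- Vectors of even weight. -/
def Even6 : Type := {a : Fin 6 → ZMod 2 // ∑ i, a i = 0}

instance : Fintype Even6 := inferInstanceAs (Fintype {a : Fin 6 → ZMod 2 // ∑ i, a i = 0})

theorem card_even6 : Fintype.card Even6 = 32 := by decide +kernel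

/-- The action on vectors. -/
def smulV (σ : Perm (Fin 6)) (a : Fin 6 → ZMod 2) : Fin 6 → ZMod 2 := fun i => a (σ.symm i)

theorem sum_smulV (σ : Perm (Fin 6)) (a : Fin 6 → ZMod 2) : ∑ i, smulV σ a i = ∑ i, a i :=
  Equiv.sum_comp σ.symm a

/-- The product on the model. -/
def mulM (p q : Even6 × Perm (Fin 6)) : Even6 × Perm (Fin 6) :=
  (⟨p.1.1 + smulV p.2 q.1.1, by
    simp only [Pi.add_apply]
    rw [Finset.sum_add_distrib, sum_smulV, p.1.2, q.1.2, add_zero]⟩, p.2 * q.2)

/-- The monomial permutation of a vector and a permutation. -/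
def monPerm (a : Fin 6 → ZMod 2) (σ : Perm (Fin 6)) : Perm (Fin 12) :=
  pairEquiv.permCongr (Equiv.prodCongrRight (fun b => flipPerm (a b)) *
    Equiv.prodCongrLeft fun _ : Fin 2 => σ)

theorem monPerm_apply (a : Fin 6 → ZMod 2) (σ : Perm (Fin 6)) (b : Fin 6) (j : Fin 2) :
    monPerm a σ (pairEquiv (b, j)) = pairEquiv (σ b, flipPerm (a (σ b)) j) := by
  rw [monPerm, Equiv.permCongr_apply, Equiv.symm_apply_apply]
  rfl

theorem monPerm_mul (a b : Fin 6 → ZMod 2) (σ π : Perm (Fin 6)) :
    monPerm a σ * monPerm b π = monPerm (a + smulV σ b) (σ * π) := by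
  refine Equiv.ext fun x => ?_
  obtain ⟨⟨i, j⟩, rfl⟩ := pairEquiv.surjective x
  rw [Perm.mul_apply, monPerm_apply, monPerm_apply, monPerm_apply]
  simp [smulV, flipPerm_add]

theorem alP_apply : ∀ b : Fin 6, ∀ j : Fin 2,
    alP (pairEquiv (b, j)) = pairEquiv (b, Equiv.swap 0 1 j) := by decide +kernel

theorem sign_monPerm (a : Fin 6 → ZMod 2) (σ : Perm (Fin 6)) :
    Perm.sign (monPerm a σ) = if ∑ i, a i = 1 then -1 else 1 := by
  have h2 : ∀ u : ℤˣ, u * u = 1 := fun u => Int.units_mul_self u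
  have hs : ∀ s : Finset (Fin 6), ∏ k ∈ s, (if a k = 1 then (-1 : ℤˣ) else 1) =
      if ∑ k ∈ s, a k = 1 then -1 else 1 := by
    intro s
    induction s using Finset.induction with
    | empty => simp
    | insert k s hk ih =>
      rw [Finset.prod_insert hk, Finset.sum_insert hk, ih]
      exact (show ∀ x y : ZMod 2, ((if x = 1 then (-1 : ℤˣ) else 1) * if y = 1 then -1 else 1) =
        if x + y = 1 then -1 else 1 by decide) _ _
  rw [monPerm, Perm.sign_permCongr, map_mul, Perm.sign_prodCongrRight, Perm.sign_prodCongrLeft,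
    Fin.prod_univ_two, h2, mul_one]
  simp only [sign_flipPerm]
  exact hs _

theorem monPerm_mem (p : Even6 × Perm (Fin 6)) : monPerm p.1.1 p.2 ∈ Cen := by
  refine ⟨?_, mem_centralizer_alP.2 ?_⟩
  · show Perm.sign _ = 1
    rw [sign_monPerm, p.1.2]
    exact if_neg (by decide)
  · refine Equiv.ext fun x => ?_
    obtain ⟨⟨i, j⟩, rfl⟩ := pairEquiv.surjective x
    rw [Perm.mul_apply, Perm.mul_apply, alP_apply, monPerm_apply, monPerm_apply, alP_apply]
    exact congrArg pairEquiv (Prod.ext rfl (DFunLike.congr_fun (flip_comm _) j))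

theorem monPerm_bijective :
    Function.Bijective fun p : Even6 × Perm (Fin 6) => (⟨_, monPerm_mem p⟩ : ↥Cen) := by
  refine (Nat.bijective_iff_injective_and_card _).2 ⟨fun p q e => ?_, ?_⟩
  · have e' := congrArg Subtype.val e
    have h : ∀ i j, (p.2 i, flipPerm (p.1.1 (p.2 i)) j) = (q.2 i, flipPerm (q.1.1 (q.2 i)) j) := by
      intro i j
      have := DFunLike.congr_fun e' (pairEquiv (i, j))
      rw [monPerm_apply, monPerm_apply] at this
      exact pairEquiv.injective this
    have hσ : p.2 = q.2 := Equiv.ext fun i => congrArg Prod.fst (h i 0)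
    refine Prod.ext (Subtype.ext (funext fun b => ?_)) hσ
    obtain ⟨i, rfl⟩ := p.2.surjective b
    have h0 : flipPerm (p.1.1 (p.2 i)) 0 = flipPerm (q.1.1 (p.2 i)) 0 := by
      have := congrArg Prod.snd (h i 0)
      rw [← hσ] at this
      exact this
    have := flip_zero (p.1.1 (p.2 i) + q.1.1 (p.2 i)) (by
      rw [flipPerm_add, Perm.mul_apply, ← h0, ← Perm.mul_apply, ← flipPerm_add,
        (show ∀ x : ZMod 2, x + x = 0 by decide)]
      rfl)
    exact (show ∀ x y : ZMod 2, x + y = 0 → x = y by decide) _ _ this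
  · rw [card_Cen, Nat.card_eq_fintype_card, Fintype.card_prod, card_even6, Fintype.card_perm,
      Fintype.card_fin]
    rfl

/-- A three-cycle. -/
def cyc : Perm (Fin 6) := Equiv.swap 0 1 * Equiv.swap 1 2

/-- The complementary three-cycle. -/
def cyc' : Perm (Fin 6) := Equiv.swap 3 4 * Equiv.swap 4 5

theorem perm_rels : Equiv.swap 0 1 * cyc * Equiv.swap 0 1 = cyc⁻¹ ∧
    Equiv.swap 0 1 * cyc' = cyc' * Equiv.swap 0 1 ∧ cyc * cyc' = cyc' * cyc ∧
    cyc * cyc * cyc = 1 ∧ cyc' * cyc' * cyc' = 1 := by decide +kernel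

theorem exists_triple : ∀ i j l : Fin 6, i ≠ j → i ≠ l → j ≠ l →
    ∃ σ : Perm (Fin 6), σ 0 = i ∧ σ 1 = j ∧ σ 2 = l := by
  intro i j l hij hil hjl
  obtain ⟨σ, hσ⟩ := Equiv.Perm.exists_extending_pair (![0, 1, 2] : Fin 3 → Fin 6) ![i, j, l]
    (by decide) (by
      intro a b hab
      fin_cases a <;> fin_cases b <;> simp_all)
  exact ⟨σ, hσ 0, hσ 1, hσ 2⟩

section Module

variable {D : Type*} [Group D] [Finite D] (W K : Subgroup D) [hW : W.Normal]
  (h32 : Nat.card W = 32) (hsq : ∀ w ∈ W, w * w = 1) (ρ : D) (hρW : ρ ∈ W) (hρ1 : ρ ≠ 1)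
  (hρc : ∀ g : D, g * ρ = ρ * g) (hWK : W ⊓ K = ⊥) (hD : W ⊔ K = ⊤) (φ : K ≃* Perm (Fin 6))
  (hc : Nat.card (W ⊓ Subgroup.centralizer ({(φ.symm cyc : D)} : Set D) : Subgroup D) = 8)
  (hc' : Nat.card (W ⊓ Subgroup.centralizer ({(φ.symm cyc' : D)} : Set D) : Subgroup D) = 8)
  (hcc : W ⊓ Subgroup.centralizer ({(φ.symm cyc : D)} : Set D) ⊓
    Subgroup.centralizer ({(φ.symm cyc' : D)} : Set D) = Subgroup.zpowers ρ)
  (hχ : ∀ χ : D →* Multiplicative (ZMod 2), χ ρ = 1)

include h32 hsq hρW hρ1 hρc hWK hD hc hc' hcc hχ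

/-- The extension is the centralizer in `A₁₂`. -/
theorem nonempty_equiv_cen : Nonempty (D ≃* ↥Cen) := by
  classical
  haveI : Fact (Nat.Prime 2) := ⟨Nat.prime_two⟩
  letI : CommGroup W :=
    { (inferInstance : Group W) with
      mul_comm := fun a b => by
        have h1 : ∀ x : W, x⁻¹ = x := fun x =>
          inv_eq_of_mul_eq_one_right (Subtype.ext (hsq _ x.2))
        calc a * b = (a * b)⁻¹ := (h1 _).symm
          _ = b⁻¹ * a⁻¹ := _root_.mul_inv_rev a b
          _ = b * a := by rw [h1, h1] }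
  have hW2 : ∀ x : W, x * x = 1 := fun x => Subtype.ext (hsq _ x.2)
  have hinv : ∀ w ∈ W, w⁻¹ = w := fun w hw => inv_eq_of_mul_eq_one_right (hsq w hw)
  -- the action
  let k : Perm (Fin 6) → D := fun σ => (φ.symm σ : D)
  have hk : ∀ σ π, k (σ * π) = k σ * k π := fun σ π => by
    show ((φ.symm (σ * π) : K) : D) = _
    rw [map_mul]; rfl
  have hk1 : k 1 = 1 := by show ((φ.symm 1 : K) : D) = 1; rw [map_one]; rfl
  have hkinv : ∀ σ, k σ⁻¹ = (k σ)⁻¹ := fun σ => by
    show ((φ.symm σ⁻¹ : K) : D) = _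
    rw [map_inv]; rfl
  let act : Perm (Fin 6) → W →* W := fun σ =>
    { toFun := fun w => ⟨k σ * w * (k σ)⁻¹, hW.conj_mem _ w.2 _⟩
      map_one' := Subtype.ext (by simp)
      map_mul' := fun a b => Subtype.ext (by simp [mul_assoc]) }
  have hact : ∀ σ π (w : W), act (σ * π) w = act σ (act π w) := fun σ π w =>
    Subtype.ext (show k (σ * π) * w * (k (σ * π))⁻¹ = _ by rw [hk]; simp [act, mul_assoc])
  have hact1 : ∀ w : W, act 1 w = w := fun w => Subtype.ext (show k 1 * w * (k 1)⁻¹ = w by
    rw [hk1]; simp)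
  set r : W := ⟨ρ, hρW⟩ with hr
  have hr1 : r ≠ 1 := fun e => hρ1 (congrArg Subtype.val e)
  have hrfix : ∀ σ, act σ r = r := fun σ =>
    Subtype.ext (show k σ * ρ * (k σ)⁻¹ = ρ by rw [hρc, mul_inv_cancel_right])
  -- fixed subgroups
  let Fx : Perm (Fin 6) → Subgroup W := fun σ =>
    { carrier := {w | act σ w = w}
      one_mem' := map_one _
      mul_mem' := fun {a b} (ha : act σ a = a) (hb : act σ b = b) => by
        show act σ (a * b) = a * b
        rw [map_mul, ha, hb]
      inv_mem' := fun {a} (ha : act σ a = a) => by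
        show act σ a⁻¹ = a⁻¹
        rw [map_inv, ha] }
  have hFx : ∀ σ (w : W), w ∈ Fx σ ↔ act σ w = w := fun σ w => Iff.rfl
  have hFcent : ∀ σ (w : W), w ∈ Fx σ ↔ (w : D) ∈ Subgroup.centralizer ({k σ} : Set D) := by
    intro σ w
    rw [hFx, Subgroup.mem_centralizer_singleton_iff, Subtype.ext_iff]
    show k σ * w * (k σ)⁻¹ = w ↔ _
    rw [mul_inv_eq_iff_eq_mul, eq_comm]
  set A := Fx cyc with hA
  set B := Fx cyc' with hB
  have hcardF : ∀ σ, Nat.card (Fx σ) =
      Nat.card (W ⊓ Subgroup.centralizer ({k σ} : Set D) : Subgroup D) := fun σ =>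
    Nat.card_congr
      { toFun := fun w => ⟨(w.1 : D), w.1.2, (hFcent σ _).1 w.2⟩
        invFun := fun w => ⟨⟨w.1, w.2.1⟩, (hFcent σ _).2 w.2.2⟩
        left_inv := fun _ => rfl
        right_inv := fun _ => rfl }
  have hA8 : Nat.card A = 8 := (hcardF cyc).trans hc
  have hB8 : Nat.card B = 8 := (hcardF cyc').trans hc'
  have hAB : ∀ w : W, w ∈ A → w ∈ B → w = 1 ∨ w = r := by
    intro w ha hb
    have : (w : D) ∈ Subgroup.zpowers ρ := by
      rw [← hcc]
      exact ⟨⟨w.2, (hFcent _ _).1 ha⟩, (hFcent _ _).1 hb⟩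
    obtain ⟨i, hi⟩ := Subgroup.mem_zpowers_iff.1 this
    rcases Int.even_or_odd' i with ⟨j, rfl | rfl⟩
    · left
      refine Subtype.ext (hi.symm.trans ?_)
      rw [zpow_mul, zpow_two, hsq _ hρW, one_zpow]
      rfl
    · right
      refine Subtype.ext (hi.symm.trans ?_)
      rw [zpow_add, zpow_mul, zpow_two, hsq _ hρW, one_zpow, one_mul, zpow_one]
  let ψ : ↥A × ↥B →* W :=
    { toFun := fun p => (p.1 : W) * p.2
      map_one' := by simp
      map_mul' := fun p q => mul_mul_mul_comm (p.1 : W) q.1 p.2 q.2 }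
  have hψk : Nat.card ψ.ker ≤ 2 := by
    let f : ψ.ker → ({1, r} : Set W) := fun p => ⟨(p.1.1 : W), by
      have e : (p.1.1 : W) * p.1.2 = 1 := p.2
      have e' : (p.1.1 : W) = p.1.2 := by
        rw [eq_inv_of_mul_eq_one_left e, inv_eq_of_mul_eq_one_right (hW2 _)]
      exact hAB _ p.1.1.2 (e' ▸ p.1.2.2)⟩
    have hf : Function.Injective f := by
      intro p q e
      have e1 : (p.1.1 : W) = q.1.1 := congrArg (fun u : ({1, r} : Set W) => u.1) e
      have hp : (p.1.1 : W) * p.1.2 = 1 := p.2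
      have hq : (q.1.1 : W) * q.1.2 = 1 := q.2
      exact Subtype.ext (Prod.ext (Subtype.ext e1)
        (Subtype.ext (mul_left_cancel (hp.trans (by rw [e1, hq])))))
    refine (Nat.card_le_card_of_injective f hf).trans ?_
    rw [Nat.card_coe_set_eq, Set.ncard_pair (Ne.symm hr1)]
  have hψsurj : Function.Surjective ψ := by
    have h1 := ψ.ker.index_mul_card
    rw [Subgroup.index_ker, Nat.card_prod, hA8, hB8] at h1
    have h2 : Nat.card ψ.range ≤ 32 := h32 ▸ Subgroup.card_le_card_group _
    have h3 : Nat.card ψ.range = 32 := by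
      rcases Nat.lt_or_ge (Nat.card ψ.range) 32 with hlt | hge
      · exfalso
        have := Nat.mul_le_mul (Nat.le_of_lt_succ hlt : Nat.card ψ.range ≤ 31) hψk
        omega
      · omega
    exact MonoidHom.range_eq_top.1 (Subgroup.eq_top_of_card_eq _ (h3.trans h32.symm))
  set τ : Perm (Fin 6) := Equiv.swap 0 1 with hτ
  have hτ2 : ∀ w : W, act τ (act τ w) = w := fun w => by
    rw [← hact, hτ, Equiv.swap_mul_self, hact1]
  obtain ⟨hr1', hr2', hr3', hr4', hr5'⟩ := perm_rels
  rw [← hτ] at hr1' hr2'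
  have hnormA : ∀ {σ}, σ * cyc = cyc * σ ∨ σ * cyc * σ = cyc⁻¹ ∧ σ * σ = 1 →
      ∀ w ∈ A, act σ w ∈ A := by
    intro σ hσ w hw
    have hw' : act cyc⁻¹ w = w := by
      conv_lhs => rw [← (hFx _ _).1 hw, ← hact, inv_mul_cancel, hact1]
    rw [hFx]
    rcases hσ with e | ⟨e, e2⟩
    · rw [← hact, ← e, hact, (hFx _ _).1 hw]
    · rw [← hact, show cyc * σ = σ * cyc⁻¹ by rw [← e, ← mul_assoc, ← mul_assoc, e2, one_mul], hact, hw']
  -- `τ` centralizes `A`
  have hτA : ∀ w ∈ A, act τ w = w := by
    let δ : A →* A :=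
      { toFun := fun w => ⟨(w : W) * act τ w,
          mul_mem w.2 (hnormA (Or.inr ⟨hr1', Equiv.swap_mul_self _ _⟩) _ w.2)⟩
        map_one' := Subtype.ext (by simp)
        map_mul' := fun a b => Subtype.ext (by
          show ((a : W) * b) * act τ ((a : W) * b) = _
          rw [map_mul, mul_mul_mul_comm]; rfl) }
    have hker : ∀ w : A, w ∈ δ.ker ↔ act τ (w : W) = w := fun w => by
      rw [MonoidHom.mem_ker, Subtype.ext_iff]
      show (w : W) * act τ w = 1 ↔ _
      rw [mul_eq_one_iff_inv_eq, inv_eq_of_mul_eq_one_right (hW2 _), eq_comm]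
    obtain ⟨x, hxf, hx1, hxr⟩ : ∃ x : A, act τ (x : W) = x ∧ (x : W) ≠ 1 ∧ (x : W) ≠ r := by
      by_contra hnone
      push Not at hnone
      have hsmall : ∀ x : A, x ∈ δ.ker → (x : W) = 1 ∨ (x : W) = r := fun x hx =>
        or_iff_not_imp_left.2 (hnone x ((hker x).1 hx))
      have hk2 : Nat.card δ.ker ≤ 2 := by
        refine (Nat.card_le_card_of_injective
          (fun x : δ.ker => (⟨(x.1 : W), hsmall _ x.2⟩ : ({1, r} : Set W)))
          fun x y e => Subtype.ext (Subtype.ext (congrArg (fun u : ({1, r} : Set W) => u.1) e))).trans ?_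
        rw [Nat.card_coe_set_eq, Set.ncard_pair (Ne.symm hr1)]
      have hr2 : Nat.card δ.range ≤ Nat.card δ.ker := by
        refine Subgroup.card_le_of_le ?_
        rintro _ ⟨a, rfl⟩
        rw [hker]
        show act τ ((a : W) * act τ a) = (a : W) * act τ a
        rw [map_mul, hτ2, mul_comm]
      have h1 := δ.ker.index_mul_card
      rw [Subgroup.index_ker, hA8] at h1
      nlinarith
    have hF : A ≤ Fx τ := by
      set y := act cyc' (x : W) with hy
      have hyA : y ∈ A := hnormA (Or.inl hr3'.symm) _ x.2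
      have hyf : act τ y = y := by rw [hy, ← hact, hr2', hact, hxf]
      have hrA : r ∈ A := hrfix cyc
      have hlt : 4 < Nat.card (A ⊓ Fx τ : Subgroup W) := by
        have hmem : ∀ z ∈ ({1, r, (x : W), r * x, y} : Finset W), z ∈ A ⊓ Fx τ := by
          intro z hz
          simp only [Finset.mem_insert, Finset.mem_singleton] at hz
          rcases hz with rfl | rfl | rfl | rfl | rfl
          · exact one_mem _
          · exact ⟨hrA, hrfix τ⟩
          · exact ⟨x.2, hxf⟩
          · exact mul_mem ⟨hrA, hrfix τ⟩ ⟨x.2, hxf⟩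
          · exact ⟨hyA, hyf⟩
        have hy1 : y ≠ 1 := fun e => hx1 (by
          have h3 := congrArg (act cyc'⁻¹) e
          rwa [hy, ← hact, inv_mul_cancel, hact1, map_one] at h3)
        have hyr : y ≠ r := fun e => hxr (by
          have h3 := congrArg (act cyc'⁻¹) e
          rwa [hy, ← hact, inv_mul_cancel, hact1, hrfix] at h3)
        have hyx : y ≠ x := fun e => (hAB _ x.2 ((hFx cyc' _).2 e)).elim hx1 hxr
        have hyrx : y ≠ r * x := fun e => by
          have e3 : act cyc' (act cyc' (act cyc' (x : W))) = r * x := by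
            rw [← hy, e, map_mul, hrfix, ← hy, e, ← mul_assoc, hW2, one_mul, ← hy, e]
          rw [← hact, ← hact, hr5', hact1] at e3
          exact hr1 (mul_eq_right.1 e3.symm)
        have hcard : ({1, r, (x : W), r * x, y} : Finset W).card = 5 := by
          rw [Finset.card_insert_of_notMem, Finset.card_insert_of_notMem,
            Finset.card_insert_of_notMem, Finset.card_insert_of_notMem, Finset.card_singleton]
          · simp only [Finset.mem_singleton]; exact hyrx.symm
          · simp only [Finset.mem_insert, Finset.mem_singleton, not_or]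
            exact ⟨fun e => hr1 (mul_eq_right.1 e.symm), hyx.symm⟩
          · simp only [Finset.mem_insert, Finset.mem_singleton, not_or]
            exact ⟨hxr.symm, fun e => hx1 (mul_eq_left.1 e.symm), hyr.symm⟩
          · simp only [Finset.mem_insert, Finset.mem_singleton, not_or]
            exact ⟨hr1.symm, hx1.symm, fun e => hxr (by
              rw [eq_inv_of_mul_eq_one_right e.symm, inv_eq_of_mul_eq_one_right (hW2 r)]), hy1.symm⟩
        have h5 := Nat.card_le_card_of_injective
          (fun z : ({1, r, (x : W), r * x, y} : Finset W) =>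
            (⟨z.1, hmem z.1 z.2⟩ : (A ⊓ Fx τ : Subgroup W)))
          fun z z' e => Subtype.ext (congrArg (fun u : (A ⊓ Fx τ : Subgroup W) => u.1) e)
        rw [Nat.card_eq_finsetCard, hcard] at h5
        omega
      have hd : Nat.card (A ⊓ Fx τ : Subgroup W) ∣ 2 ^ 3 := by
        have := Subgroup.card_dvd_of_le (inf_le_left : A ⊓ Fx τ ≤ A)
        rwa [hA8] at this
      obtain ⟨m, hm, hm'⟩ := (Nat.dvd_prime_pow Nat.prime_two).1 hd
      have h8 : Nat.card (A ⊓ Fx τ : Subgroup W) = 8 := by
        rw [hm'] at hlt ⊢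
        interval_cases m <;> omega
      exact inf_eq_left.1 (Subgroup.eq_of_le_of_card_ge inf_le_left (by rw [h8, hA8]))
    exact fun w hw => hF hw
  have hnormB : ∀ {σ}, σ * cyc' = cyc' * σ → ∀ w ∈ B, act σ w ∈ B := by
    intro σ e w hw
    rw [hFx, ← hact, ← e, hact, (hFx _ _).1 hw]
  -- `τ` is a transvection
  let δ : W →* W :=
    { toFun := fun w => w * act τ w
      map_one' := by simp
      map_mul' := fun a b => by
        show a * b * act τ (a * b) = a * act τ a * (b * act τ b)
        rw [map_mul, mul_mul_mul_comm] }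
  have hδ0 : ∀ w, δ w = 1 ↔ act τ w = w := fun w => by
    show w * act τ w = 1 ↔ _
    rw [mul_eq_one_iff_inv_eq, inv_eq_of_mul_eq_one_right (hW2 _), eq_comm]
  have hδfix : ∀ w, act τ (δ w) = δ w := fun w => by
    show act τ (w * act τ w) = w * act τ w
    rw [map_mul, hτ2, mul_comm]
  have hδB : ∀ w, δ w ∈ B := by
    intro w
    obtain ⟨⟨a, b⟩, rfl⟩ := hψsurj w
    have : δ ((a : W) * b) = δ b := by
      rw [map_mul, (hδ0 a).2 (hτA _ a.2), one_mul]
    show δ ((a : W) * b) ∈ B
    rw [this]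
    exact mul_mem b.2 (hnormB hr2' _ b.2)
  have hτnot : ¬ ∀ w, δ w = 1 ∨ δ w = r := by
    intro hall
    have hmod : ∀ w, act τ w = w ∨ act τ w = w * r := fun w => by
      rcases hall w with e | e
      · exact Or.inl ((hδ0 w).1 e)
      · right
        rw [← e]
        show _ = w * (w * act τ w)
        rw [← mul_assoc, hW2, one_mul]
    have hsq' : ∀ w, act cyc⁻¹ w = act cyc w ∨ act cyc⁻¹ w = act cyc w * r := fun w => by
      rw [← hr1', hact, hact]
      rcases hmod w with e | e <;> rcases hmod (act cyc w) with e' | e'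
      · left; rw [e, e']
      · right; rw [e, e']
      · right; rw [e, map_mul, hrfix, map_mul, hrfix, e']
      · left; rw [e, map_mul, hrfix, map_mul, hrfix, e', mul_assoc, hW2, mul_one]
    have hall' : ∀ w, act cyc w = w := by
      intro w
      have h4 := hsq' (act cyc w)
      rw [← hact, inv_mul_cancel, hact1] at h4
      have h5 : act cyc (act cyc (act cyc (act cyc w))) = w := by
        rcases h4 with e | e
        · rw [← e, ← e]
        · have e' : act cyc (act cyc w) = w * r := by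
            nth_rewrite 2 [e]
            rw [mul_assoc, hW2, mul_one]
          rw [e', map_mul, map_mul, hrfix, hrfix, e', mul_assoc, hW2, mul_one]
      rwa [← hact cyc cyc, ← hact, ← hact, hr4', one_mul] at h5
    have htop : (⊤ : Subgroup W) ≤ A := fun w _ => hall' w
    have := Subgroup.card_le_of_le htop
    rw [Subgroup.card_top, h32, hA8] at this
    omega
  push Not at hτnot
  obtain ⟨w₀, hw₀1, hw₀r⟩ := hτnot
  set e₀ := δ w₀ with he₀
  have htwo : ∀ w, δ w = 1 ∨ δ w = e₀ := by
    intro w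
    -- the image lies in the fixed points in `B`, of which there are four
    let P : Subgroup W := B ⊓ Fx τ
    have hP : Nat.card P ≤ 4 := by
      have hne : P ≠ B := fun e => by
        refine hw₀1 ?_
        obtain ⟨⟨a, b⟩, hab⟩ := hψsurj w₀
        rw [he₀, ← hab]
        refine (hδ0 _).2 ?_
        show act τ ((a : W) * b) = (a : W) * b
        have hb : (b : W) ∈ P := by rw [e]; exact b.2
        rw [map_mul, hτA _ a.2, hb.2]
      have hd := Subgroup.card_dvd_of_le (inf_le_left : P ≤ B)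
      rw [hB8, show 8 = 2 ^ 3 by norm_num] at hd
      obtain ⟨m, hm, hm'⟩ := (Nat.dvd_prime_pow Nat.prime_two).1 hd
      rw [hm']
      by_contra hlt
      refine hne (Subgroup.eq_of_le_of_card_ge inf_le_left ?_)
      rw [hB8, hm']
      interval_cases m <;> omega
    let δB : B →* W := δ.comp B.subtype
    have hker : Nat.card δB.ker ≤ 4 := by
      refine le_trans (Nat.card_le_card_of_injective
        (fun x : δB.ker => (⟨(x.1 : W), x.1.2, (hδ0 _).1 x.2⟩ : P))
        fun x y e => Subtype.ext (Subtype.ext (congrArg (fun u : P => u.1) e))) hP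
    have hrange : ∀ w, δ w ∈ δB.range := fun w => by
      obtain ⟨⟨a, b⟩, rfl⟩ := hψsurj w
      exact ⟨b, by
        show δ (b : W) = δ ((a : W) * b)
        rw [map_mul, (hδ0 a).2 (hτA _ a.2), one_mul]⟩
    have hkerge : Nat.card δB.range ≤ Nat.card P / 2 := by
      have hrP : r ∈ P := ⟨hrfix cyc', hrfix τ⟩
      have hrn : r ∉ δB.range := by
        rintro ⟨b, hb⟩
        have hone : δ (b : W) = r := hb
        -- then `c` moves `b` only modulo `r`
        have hτb : act τ (b : W) = b * r := by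
          rw [← hone]
          show _ = (b : W) * (b * act τ b)
          rw [← mul_assoc, hW2, one_mul]
        have hcr : act cyc⁻¹ (b : W) = act τ (act cyc ((b : W) * r)) := by
          rw [← hr1', hact, hact, hτb]
        have hδc := hδfix (act cyc (b : W))
        have hcc2 : ∀ x y : W, act cyc x * act cyc y = act cyc (x * y) := fun x y => (map_mul _ _ _).symm
        -- the orbit sum of `b` is fixed
        set y := (b : W) * act cyc b * act cyc (act cyc b) with hy
        have hyA : y ∈ A := by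
          rw [hFx, hy, map_mul, map_mul, ← hact cyc cyc (act cyc (b : W)), ← hact (cyc * cyc) cyc,
            hr4', hact1, mul_comm (act cyc (b : W) * act cyc (act cyc b)), mul_assoc]
        have hyB : y ∈ B := mul_mem (mul_mem b.2 (hnormB hr3' _ b.2)) (hnormB hr3' _ (hnormB hr3' _ b.2))
        have e1 : δ y = δ b * δ (act cyc b) * δ (act cyc (act cyc b)) := by rw [hy, map_mul, map_mul]
        have e2 : δ y = 1 := (hδ0 y).2 (hτA y hyA)
        have hinv2 : act cyc⁻¹ (b : W) = act cyc (act cyc b) := by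
          rw [← hact, show cyc⁻¹ = cyc * cyc from inv_eq_of_mul_eq_one_right (by rw [← mul_assoc, hr4'])]
        have e3 : δ (act cyc (act cyc b)) = δ (act cyc (b : W)) := by
          rw [← hinv2, hcr, map_mul, hrfix, map_mul, hrfix, map_mul]
          have h1 : δ (act τ (act cyc (b : W))) = δ (act cyc (b : W)) := by
            show _ * act τ (act τ _) = _ * act τ _
            rw [hτ2, mul_comm]
          rw [h1, (hδ0 r).2 (hrfix τ), mul_one]
        rw [e1, e3, mul_assoc, hW2, mul_one, hone] at e2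
        exact hr1 e2
      have hle : δB.range ≤ P := by
        rintro _ ⟨b, rfl⟩
        exact ⟨hδB _, hδfix _⟩
      let f : δB.range × ({1, r} : Set W) → P := fun p => ⟨(p.1 : W) * p.2, by
        refine mul_mem (hle p.1.2) ?_
        rcases p.2.2 with e | e
        · rw [e]; exact one_mem _
        · rw [Set.mem_singleton_iff.1 e]; exact hrP⟩
      have hf : Function.Injective f := by
        rintro ⟨⟨u, hu⟩, ⟨s, hs⟩⟩ ⟨⟨u', hu'⟩, ⟨s', hs'⟩⟩ e
        have e' : u * s = u' * s' := congrArg (fun z : P => z.1) e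
        have hd : u⁻¹ * u' ∈ δB.range := mul_mem (inv_mem hu) hu'
        have e2 : u⁻¹ * u' = s * s' := by
          rw [inv_mul_eq_iff_eq_mul, ← mul_assoc, e', mul_assoc, hW2, mul_one]
        rw [e2] at hd
        have hss : s = s' := by
          rcases hs with rfl | hs <;> rcases hs' with rfl | hs'
          · rfl
          · rw [Set.mem_singleton_iff.1 hs', one_mul] at hd; exact absurd hd hrn
          · rw [Set.mem_singleton_iff.1 hs, mul_one] at hd; exact absurd hd hrn
          · rw [Set.mem_singleton_iff.1 hs, Set.mem_singleton_iff.1 hs']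
        subst hss
        exact Prod.ext (Subtype.ext (mul_right_cancel e')) rfl
      have h2 := Nat.card_le_card_of_injective f hf
      rw [Nat.card_prod, Nat.card_coe_set_eq ({1, r} : Set W), Set.ncard_pair (Ne.symm hr1)] at h2
      omega
    have h1 := δB.ker.index_mul_card
    rw [Subgroup.index_ker, hB8] at h1
    have hle2 : Nat.card δB.range ≤ 2 := by omega
    by_contra hne
    push Not at hne
    have h3 : ({1, e₀, δ w} : Finset W).card = 3 := by
      rw [Finset.card_insert_of_notMem, Finset.card_insert_of_notMem, Finset.card_singleton]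
      · simp only [Finset.mem_singleton]; exact hne.2.symm
      · simp only [Finset.mem_insert, Finset.mem_singleton, not_or]
        exact ⟨Ne.symm hw₀1, Ne.symm hne.1⟩
    have hmem : ∀ z ∈ ({1, e₀, δ w} : Finset W), z ∈ δB.range := by
      intro z hz
      simp only [Finset.mem_insert, Finset.mem_singleton] at hz
      rcases hz with rfl | rfl | rfl
      · exact one_mem _
      · exact hrange _
      · exact hrange _
    have h4 := Nat.card_le_card_of_injective
      (fun z : ({1, e₀, δ w} : Finset W) => (⟨z.1, hmem z.1 z.2⟩ : δB.range))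
      fun z z' e => Subtype.ext (congrArg (fun u : δB.range => u.1) e)
    rw [Nat.card_eq_finsetCard, h3] at h4
    omega
  -- the centres of the transpositions
  let IsE : Fin 6 → Fin 6 → W → Prop := fun i j x =>
    x ≠ 1 ∧ ∃ w, x = w * act (Equiv.swap i j) w
  have hconj : ∀ (σ : Perm (Fin 6)) i j x, IsE i j x → IsE (σ i) (σ j) (act σ x) := by
    rintro σ i j x ⟨hx, w, rfl⟩
    refine ⟨fun e => hx ?_, act σ w, ?_⟩
    · have := congrArg (act σ⁻¹) e
      rwa [← hact, inv_mul_cancel, hact1, map_one] at this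
    · rw [map_mul, ← hact, ← hact, Equiv.swap_apply_apply, inv_mul_cancel_right]
  have hE01 : ∀ x, IsE 0 1 x ↔ x = e₀ := fun x =>
    ⟨fun ⟨hx, w, e⟩ => by
      rcases htwo w with h1 | h1
      · exact absurd (e.trans h1) hx
      · exact e.trans h1, fun e => ⟨e ▸ hw₀1, w₀, e⟩⟩
  have hperm2 : ∀ i j : Fin 6, i ≠ j → ∃ σ : Perm (Fin 6), σ 0 = i ∧ σ 1 = j := by
    intro i j hij
    obtain ⟨l, hl1, hl2⟩ : ∃ l, i ≠ l ∧ j ≠ l :=
      (show ∀ i j : Fin 6, ∃ l, i ≠ l ∧ j ≠ l by decide) i j
    obtain ⟨σ, h1, h2, -⟩ := exists_triple i j l hij hl1 hl2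
    exact ⟨σ, h1, h2⟩
  have hEex : ∀ i j, i ≠ j → ∃! x, IsE i j x := by
    intro i j hij
    obtain ⟨σ, rfl, rfl⟩ := hperm2 i j hij
    refine ⟨act σ e₀, hconj σ 0 1 e₀ ((hE01 _).2 rfl), fun y hy => ?_⟩
    have h1 := hconj σ⁻¹ _ _ _ hy
    rw [show σ⁻¹ (σ 0) = 0 from σ.symm_apply_apply 0, show σ⁻¹ (σ 1) = 1 from σ.symm_apply_apply 1,
      hE01] at h1
    rw [← h1, ← hact, mul_inv_cancel, hact1]
  let ee : Fin 6 → Fin 6 → W := fun i j => if h : i ≠ j then (hEex i j h).choose else 1
  have hee : ∀ i j, i ≠ j → IsE i j (ee i j) := fun i j h => by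
    simp only [ee, dif_pos h]
    exact (hEex i j h).choose_spec.1
  have heu : ∀ i j, i ≠ j → ∀ x, IsE i j x → x = ee i j := fun i j h x hx =>
    (hEex i j h).unique hx (hee i j h)
  have heq : ∀ σ i j, act σ (ee i j) = ee (σ i) (σ j) := by
    intro σ i j
    by_cases h : i = j
    · subst h; simp [ee]
    · exact heu _ _ (fun e => h (σ.injective e)) _ (hconj σ i j _ (hee i j h))
  have hsymm : ∀ i j, ee i j = ee j i := by
    intro i j
    by_cases h : i = j
    · rw [h]
    · refine heu j i (Ne.symm h) _ ?_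
      obtain ⟨h1, w, h2⟩ := hee i j h
      exact ⟨h1, w, by rw [Equiv.swap_comm]; exact h2⟩
  have h01 : ee 0 1 = e₀ := (heu 0 1 (by decide) _ ((hE01 _).2 rfl)).symm
  have htri : ∀ i j l, i ≠ j → i ≠ l → j ≠ l → ee i l = ee i j * ee j l := by
    intro i j l hij hil hjl
    obtain ⟨σ, rfl, rfl, rfl⟩ := exists_triple i j l hij hil hjl
    rw [← heq, ← heq, ← heq, ← map_mul]
    congr 1
    have h12 : act τ (ee 1 2) = ee 0 2 := by
      rw [heq, hτ, Equiv.swap_apply_right, Equiv.swap_apply_of_ne_of_ne (by decide) (by decide)]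
    have hne : act τ (ee 1 2) ≠ ee 1 2 := by
      intro e
      rw [h12] at e
      have h := congrArg (act cyc) e
      rw [heq, heq, show cyc 0 = 1 by decide, show cyc 2 = 0 by decide, show cyc 1 = 2 by decide,
        hsymm 1 0, hsymm 2 0, e] at h
      -- `e₀` would be fixed by both three-cycles
      have hA' : e₀ ∈ A := by
        rw [hFx, ← h01, heq, show cyc 0 = 1 by decide, show cyc 1 = 2 by decide, h]
      rcases hAB _ hA' (hδB w₀) with e' | e'
      · exact hw₀1 e'
      · exact hw₀r e'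
    have hd : δ (ee 1 2) = e₀ := (htwo _).resolve_left fun e => hne ((hδ0 _).1 e)
    have hd' : ee 1 2 * ee 0 2 = e₀ := by rw [← h12]; exact hd
    rw [h01, ← hd', mul_right_comm, hW2, one_mul]
  -- coordinates on `W`
  let X : Fin 6 → W := fun i => ee 0 i
  have hX : ∀ i j, ee i j = X i * X j := by
    intro i j
    show ee i j = ee 0 i * ee 0 j
    by_cases hij : i = j
    · subst hij; rw [hW2]; simp [ee]
    by_cases hi : i = 0
    · subst hi; simp [ee]
    by_cases hj : j = 0
    · subst hj; rw [show ee 0 0 = 1 by simp [ee], mul_one, hsymm]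
    rw [htri i 0 j hi hij (Ne.symm hj), hsymm i 0]
  let Fv : (Fin 6 → ZMod 2) → W := fun a => ∏ i, if a i = 1 then X i else 1
  have hFadd : ∀ a b, Fv (a + b) = Fv a * Fv b := by
    intro a b
    simp only [Fv, ← Finset.prod_mul_distrib]
    refine Finset.prod_congr rfl fun i _ => ?_
    rcases two_cases (a i) with ha | ha <;>
      rcases two_cases (b i) with hb | hb <;>
      simp [Pi.add_apply, ha, hb, one_add_one, hW2]
  have hFact : ∀ σ a, ∑ i, a i = 0 → act σ (Fv a) = Fv (smulV σ a) := by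
    intro σ a ha
    have hs : ∀ s : Finset (Fin 6), ∏ i ∈ s, (if a i = 1 then X (σ 0) else 1) =
        if ∑ i ∈ s, a i = 1 then X (σ 0) else 1 := by
      intro s
      induction s using Finset.induction with
      | empty => simp
      | insert i s hi ih =>
        rw [Finset.prod_insert hi, Finset.sum_insert hi, ih]
        rcases two_cases (a i) with h1 | h1 <;>
          rcases two_cases (∑ j ∈ s, a j) with h2 | h2 <;>
          simp [h1, h2, one_add_one, hW2]
    have e1 : act σ (Fv a) =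
        ∏ i, ((if a i = 1 then X (σ 0) else 1) * if a i = 1 then X (σ i) else 1) := by
      simp only [Fv, map_prod]
      refine Finset.prod_congr rfl fun i _ => ?_
      split_ifs
      · show act σ (ee 0 i) = _
        rw [heq, hX]
      · rw [map_one, mul_one]
    rw [e1, Finset.prod_mul_distrib, hs, ha, if_neg zero_ne_one_two, one_mul]
    show _ = ∏ i, if smulV σ a i = 1 then X i else 1
    rw [← Equiv.prod_comp σ (fun i => if smulV σ a i = 1 then X i else 1)]
    simp [smulV]
  have hF0 : Fv 0 = 1 := by simp [Fv]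
  let Im : Subgroup W :=
    { carrier := {x | ∃ a : Fin 6 → ZMod 2, ∑ i, a i = 0 ∧ Fv a = x}
      one_mem' := ⟨0, by simp, hF0⟩
      mul_mem' := by
        rintro _ _ ⟨a, ha, rfl⟩ ⟨b, hb, rfl⟩
        exact ⟨a + b, by simp [Finset.sum_add_distrib, ha, hb], hFadd a b⟩
      inv_mem' := by
        rintro _ ⟨a, ha, rfl⟩
        exact ⟨a, ha, (inv_eq_of_mul_eq_one_right (hW2 _)).symm⟩ }
  have heeIm : ∀ i j, ee i j ∈ Im := by
    intro i j
    refine ⟨Pi.single i 1 + Pi.single j 1, ?_, ?_⟩
    · simp only [Pi.add_apply]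
      rw [Finset.sum_add_distrib, Finset.sum_pi_single', Finset.sum_pi_single']
      simp [one_add_one]
    · rw [hFadd, hX]
      have h1 : ∀ i, Fv (Pi.single i 1) = X i := fun i => by
        show (∏ j, if (Pi.single i (1 : ZMod 2) : Fin 6 → ZMod 2) j = 1 then X j else 1) = X i
        rw [Finset.prod_eq_single i]
        · simp
        · intro j _ hj; simp [hj]
        · simp
      rw [h1, h1]
  have hImact : ∀ σ, ∀ x ∈ Im, act σ x ∈ Im := by
    rintro σ _ ⟨a, ha, rfl⟩
    exact ⟨smulV σ a, by rw [sum_smulV, ha], (hFact σ a ha).symm⟩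
  -- the span of the centres has index at most two
  have hspan : ∀ x : W, x ∈ Im ∨ x * r ∈ Im := by
    let Q : Subgroup W :=
      { carrier := {x | x ∈ Im ∨ x * r ∈ Im}
        one_mem' := Or.inl Im.one_mem
        mul_mem' := by
          rintro a b (ha | ha) (hb | hb)
          · exact Or.inl (mul_mem ha hb)
          · exact Or.inr (by rw [mul_assoc]; exact mul_mem ha hb)
          · exact Or.inr (by rw [mul_right_comm]; exact mul_mem ha hb)
          · refine Or.inl ?_
            have := mul_mem ha hb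
            rwa [mul_mul_mul_comm, hW2, mul_one] at this
        inv_mem' := fun {a} ha => by rwa [inv_eq_of_mul_eq_one_right (hW2 a)] }
    have hbig : ∀ (F : Subgroup W) (x y : W), Nat.card F = 8 → r ∈ F → x ∈ F → y ∈ F → x ∈ Im →
        y ∈ Im → x ≠ 1 → x ≠ r → y ∉ ({1, r, x, x * r} : Set W) → F ≤ Q := by
      intro F x y hF hrF hxF hyF hxI hyI hx1 hxr hy z hz
      have hrQ : r ∈ Q := Or.inr (by rw [hW2]; exact Im.one_mem)
      have hd : Nat.card (F ⊓ Q : Subgroup W) ∣ 2 ^ 3 := by
        have := Subgroup.card_dvd_of_le (inf_le_left : F ⊓ Q ≤ F)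
        rwa [hF] at this
      obtain ⟨m, hm, hm'⟩ := (Nat.dvd_prime_pow Nat.prime_two).1 hd
      simp only [Set.mem_insert_iff, Set.mem_singleton_iff, not_or] at hy
      have hcard : ({1, r, x, x * r, y} : Finset W).card = 5 := by
        rw [Finset.card_insert_of_notMem, Finset.card_insert_of_notMem,
          Finset.card_insert_of_notMem, Finset.card_insert_of_notMem, Finset.card_singleton]
        · simp only [Finset.mem_singleton]; exact Ne.symm hy.2.2.2
        · simp only [Finset.mem_insert, Finset.mem_singleton, not_or]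
          exact ⟨fun e => hr1 (mul_eq_left.1 e.symm), Ne.symm hy.2.2.1⟩
        · simp only [Finset.mem_insert, Finset.mem_singleton, not_or]
          exact ⟨Ne.symm hxr, fun e => hx1 (mul_eq_right.1 e.symm), Ne.symm hy.2.1⟩
        · simp only [Finset.mem_insert, Finset.mem_singleton, not_or]
          exact ⟨hr1.symm, Ne.symm hx1, fun e => hxr (by
            rw [eq_inv_of_mul_eq_one_left e.symm, inv_eq_of_mul_eq_one_right (hW2 r)]), Ne.symm hy.1⟩
      have hmem : ∀ u ∈ ({1, r, x, x * r, y} : Finset W), u ∈ F ⊓ Q := by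
        intro u hu
        simp only [Finset.mem_insert, Finset.mem_singleton] at hu
        rcases hu with rfl | rfl | rfl | rfl | rfl
        · exact one_mem _
        · exact ⟨hrF, hrQ⟩
        · exact ⟨hxF, Or.inl hxI⟩
        · exact mul_mem ⟨hxF, Or.inl hxI⟩ ⟨hrF, hrQ⟩
        · exact ⟨hyF, Or.inl hyI⟩
      have h5 := Nat.card_le_card_of_injective
        (fun u : ({1, r, x, x * r, y} : Finset W) => (⟨u.1, hmem u.1 u.2⟩ : (F ⊓ Q : Subgroup W)))
        fun u u' e => Subtype.ext (congrArg (fun v : (F ⊓ Q : Subgroup W) => v.1) e)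
      rw [Nat.card_eq_finsetCard, hcard, hm'] at h5
      have h8 : Nat.card (F ⊓ Q : Subgroup W) = 8 := by
        rw [hm']
        interval_cases m <;> omega
      have e := Subgroup.eq_of_le_of_card_ge (inf_le_left : F ⊓ Q ≤ F) (by rw [h8, hF])
      exact (e.ge hz).2
    have hfixA : ∀ i j, cyc i = i → cyc j = j → ee i j ∈ A := fun i j hi hj => by
      rw [hFx, heq, hi, hj]
    have hfixB : ∀ i j, cyc' i = i → cyc' j = j → ee i j ∈ B := fun i j hi hj => by
      rw [hFx, heq, hi, hj]
    have hnr : ∀ i j, i ≠ j → ee i j ≠ r := by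
      intro i j hij e
      obtain ⟨σ, rfl, rfl⟩ := hperm2 i j hij
      rw [← heq, h01, ← hrfix σ] at e
      refine hw₀r ?_
      have := congrArg (act σ⁻¹) e
      rwa [← hact, ← hact, inv_mul_cancel, hact1, hact1] at this
    have hmove : ∀ i j l, i ≠ j → i ≠ l → j ≠ l →
        ee j l ∉ ({1, r, ee i j, ee i j * r} : Set W) := by
      intro i j l hij hil hjl hmem
      simp only [Set.mem_insert_iff, Set.mem_singleton_iff] at hmem
      rcases hmem with e | e | e | e
      · exact (hee j l hjl).1 e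
      · exact hnr j l hjl e
      · have := htri i j l hij hil hjl
        rw [e, hW2] at this
        exact (hee i l hil).1 this
      · have := htri i j l hij hil hjl
        rw [e, ← mul_assoc, hW2, one_mul] at this
        exact hnr i l hil this
    intro x
    obtain ⟨⟨a, b⟩, rfl⟩ := hψsurj x
    refine Q.mul_mem ?_ ?_
    · exact hbig A (ee 3 4) (ee 4 5) hA8 (hrfix _) (hfixA _ _ (by decide) (by decide))
        (hfixA _ _ (by decide) (by decide)) (heeIm _ _) (heeIm _ _) (hee 3 4 (by decide)).1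
        (hnr _ _ (by decide)) (hmove 3 4 5 (by decide) (by decide) (by decide)) a.2
    · exact hbig B (ee 0 1) (ee 1 2) hB8 (hrfix _) (hfixB _ _ (by decide) (by decide))
        (hfixB _ _ (by decide) (by decide)) (heeIm _ _) (heeIm _ _) (hee 0 1 (by decide)).1
        (hnr _ _ (by decide)) (hmove 0 1 2 (by decide) (by decide) (by decide)) b.2
  have hdec : ∀ d : D, ∃ w : W, ∃ σ, d = (w : D) * k σ := fun d => by
    have hd : d ∈ W ⊔ K := hD ▸ Subgroup.mem_top d
    rw [Subgroup.mem_sup_of_normal_left] at hd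
    obtain ⟨w, hw, x, hx, rfl⟩ := hd
    exact ⟨⟨w, hw⟩, φ ⟨x, hx⟩, by simp [k]⟩
  have hkmem : ∀ σ, k σ ∈ K := fun σ => (φ.symm σ).2
  have hkinj : ∀ σ π, k σ = k π → σ = π := fun σ π e => φ.symm.injective (Subtype.ext e)
  have huniq : ∀ (w w' : W) σ π, (w : D) * k σ = (w' : D) * k π → w = w' ∧ σ = π := by
    intro w w' σ π e
    have h1 : (w' : D)⁻¹ * w = k π * (k σ)⁻¹ := by
      rw [eq_mul_inv_iff_mul_eq, mul_assoc, e, inv_mul_cancel_left]
    have h2 : (w' : D)⁻¹ * w = 1 := by
      have : (w' : D)⁻¹ * w ∈ W ⊓ K :=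
        ⟨W.mul_mem (W.inv_mem w'.2) w.2, h1 ▸ K.mul_mem (hkmem π) (K.inv_mem (hkmem σ))⟩
      rwa [hWK, Subgroup.mem_bot] at this
    rw [h2, eq_comm, mul_inv_eq_one] at h1
    exact ⟨Subtype.ext (inv_mul_eq_one.1 h2).symm, hkinj _ _ h1.symm⟩
  -- a character would vanish on `r`
  have hrIm : r ∈ Im := by
    by_contra hrn
    choose wd sd hwd using hdec
    let χ0 : D → Multiplicative (ZMod 2) := fun d => if wd d ∈ Im then 1 else Multiplicative.ofAdd 1
    have hχ0 : ∀ x y : W, (x * y ∈ Im ↔ (x ∈ Im ↔ y ∈ Im)) := by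
      intro x y
      constructor
      · intro hxy
        exact ⟨fun hx => (Im.mul_mem_cancel_left hx).1 hxy,
          fun hy => (Im.mul_mem_cancel_right hy).1 hxy⟩
      · intro hiff
        by_cases hx : x ∈ Im
        · exact mul_mem hx (hiff.1 hx)
        · have hy : y ∉ Im := fun hy => hx (hiff.2 hy)
          have := mul_mem ((hspan x).resolve_left hx) ((hspan y).resolve_left hy)
          rwa [mul_mul_mul_comm, hW2, mul_one] at this
    have hmul : ∀ d d', χ0 (d * d') = χ0 d * χ0 d' := by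
      intro d d'
      have e : d * d' = ((wd d * act (sd d) (wd d') : W) : D) * k (sd d * sd d') := by
        rw [hk]
        conv_lhs => rw [hwd d, hwd d']
        show _ = (wd d : D) * (k (sd d) * (wd d') * (k (sd d))⁻¹) * (k (sd d) * k (sd d'))
        group
      obtain ⟨hw, -⟩ := huniq _ _ _ _ ((hwd (d * d')).symm.trans e)
      have hiff : act (sd d) (wd d') ∈ Im ↔ wd d' ∈ Im := by
        refine ⟨fun hm => ?_, hImact _ _⟩
        have := hImact (sd d)⁻¹ _ hm
        rwa [← hact, inv_mul_cancel, hact1] at this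
      simp only [χ0, hw]
      have hkey := hχ0 (wd d) (act (sd d) (wd d'))
      rw [hiff] at hkey
      by_cases h1 : wd d ∈ Im <;> by_cases h2 : wd d' ∈ Im
      · rw [if_pos (hkey.2 (iff_of_true h1 h2)), if_pos h1, if_pos h2]; rfl
      · rw [if_neg (fun hm => h2 ((hkey.1 hm).1 h1)), if_pos h1, if_neg h2]; rfl
      · rw [if_neg (fun hm => h1 ((hkey.1 hm).2 h2)), if_neg h1, if_pos h2]; rfl
      · rw [if_pos (hkey.2 (iff_of_false h1 h2)), if_neg h1, if_neg h2]; exact ofAdd_one_sq
    have h0 := hχ (MonoidHom.mk' χ0 hmul)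
    obtain ⟨hw, -⟩ := huniq (wd ρ) r (sd ρ) 1 (by rw [← hwd ρ, hk1, mul_one])
    rw [MonoidHom.mk'_apply] at h0
    simp only [χ0, hw, if_neg hrn] at h0
    exact absurd h0 ofAdd_one_ne
  have hImtop : ∀ x : W, x ∈ Im := fun x => (hspan x).elim id fun hx => by
    have := mul_mem hx hrIm
    rwa [mul_assoc, hW2, mul_one] at this
  let FE : Even6 → W := fun a => Fv a.1
  have hFEb : Function.Bijective FE := by
    rw [Nat.bijective_iff_surjective_and_card]
    refine ⟨fun x => ?_, by rw [h32, Nat.card_eq_fintype_card, card_even6]⟩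
    obtain ⟨a, ha, e⟩ := hImtop x
    exact ⟨⟨a, ha⟩, e⟩
  let Θ : Even6 × Perm (Fin 6) → D := fun p => (FE p.1 : D) * k p.2
  have hΘ : Function.Bijective Θ := by
    refine ⟨fun p q e => ?_, fun d => ?_⟩
    · obtain ⟨h1, h2⟩ := huniq _ _ _ _ e
      exact Prod.ext (hFEb.1 h1) h2
    · obtain ⟨w, σ, rfl⟩ := hdec d
      obtain ⟨a, rfl⟩ := hFEb.2 w
      exact ⟨(a, σ), rfl⟩
  have hΘmul : ∀ p q, Θ p * Θ q = Θ (mulM p q) := by
    intro p q
    show (Fv p.1.1 : D) * k p.2 * ((Fv q.1.1 : D) * k q.2) =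
      (Fv (p.1.1 + smulV p.2 q.1.1) : D) * k (p.2 * q.2)
    rw [hFadd, ← hFact p.2 q.1.1 q.1.2, hk]
    show _ = (Fv p.1.1 : D) * (k p.2 * (Fv q.1.1 : D) * (k p.2)⁻¹) * (k p.2 * k q.2)
    group
  let eΨ := Equiv.ofBijective _ monPerm_bijective
  let eΘ := Equiv.ofBijective Θ hΘ
  refine ⟨MulEquiv.mk (eΘ.symm.trans eΨ) fun x y => ?_⟩
  obtain ⟨p, rfl⟩ := hΘ.2 x
  obtain ⟨q, rfl⟩ := hΘ.2 y
  have hs : ∀ p, (eΘ.symm.trans eΨ) (Θ p) = ⟨_, monPerm_mem p⟩ := fun p => by
    rw [Equiv.trans_apply, show Θ p = eΘ p from rfl, Equiv.symm_apply_apply]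
    rfl
  show (eΘ.symm.trans eΨ) (Θ p * Θ q) = (eΘ.symm.trans eΨ) (Θ p) * (eΘ.symm.trans eΨ) (Θ q)
  rw [hΘmul, hs, hs, hs]
  exact Subtype.ext (monPerm_mul _ _ _ _).symm

end Module

end CfsgLib.Hayden48
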