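import Cfsg.Agent.Hayden48.SpSixModel
import Mathlib.GroupTheory.Perm.Sign

/-!
# The centralizer of the reflection from its parts

Two commuting elementary groups of order eight through the reflection, each centralized by one of
the two 3-cycles and moved by the other, and normalized by a complement `S₆`, give the centralizer
of a fixed-point-free involution in `A₁₂`.
-/

set_option autoImplicit false
set_option maxRecDepth 100000

namespace CfsgLib.Hayden48

open Equiv CfsgLib.AltTwelveCentraliser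

theorem perm_six_no_normal_two : ∀ σ : Perm (Fin 6), σ * σ = 1 →
    (∀ π : Perm (Fin 6), σ * (π * σ * π⁻¹) = π * σ * π⁻¹ * σ) → σ = 1 := by decide +kernel

theorem zmod_two_sq : ∀ x : Multiplicative (ZMod 2), x * x = 1 := by decide

theorem zmod_two_prod : ∀ x y z : Multiplicative (ZMod 2), x * x = z * (y * y) → z = 1 := by decide

/-- The centralizer of `r` assembled from its parts. -/
theorem nonempty_cen_of_parts {G : Type*} [Group G] [Finite G] (r : G) (K W₂ W₃ : Subgroup G)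
    (φ : K ≃* Perm (Fin 6)) (hr1 : r ≠ 1) (hr2 : r * r = 1) (hK : ∀ x ∈ K, x * r = r * x)
    (h2 : Nat.card W₂ = 8) (h3 : Nat.card W₃ = 8) (hsq2 : ∀ w ∈ W₂, w * w = 1)
    (hsq3 : ∀ w ∈ W₃, w * w = 1) (hr₂ : r ∈ W₂) (hr₃ : r ∈ W₃)
    (hcomm : ∀ a ∈ W₂, ∀ b ∈ W₃, a * b = b * a)
    (hc2 : ∀ w ∈ W₂, w * (φ.symm cyc : G) = (φ.symm cyc : G) * w)
    (hc3 : ∀ w ∈ W₃, w * (φ.symm cyc' : G) = (φ.symm cyc' : G) * w)
    (hf2 : ∀ w ∈ W₂, w * (φ.symm cyc' : G) = (φ.symm cyc' : G) * w → w = 1 ∨ w = r)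
    (hf3 : ∀ w ∈ W₃, w * (φ.symm cyc : G) = (φ.symm cyc : G) * w → w = 1 ∨ w = r)
    (hnorm : ∀ i : Fin 5, ∀ w ∈ W₂ ⊔ W₃, (φ.symm (Equiv.swap i.castSucc i.succ) : G) * w *
      (φ.symm (Equiv.swap i.castSucc i.succ) : G)⁻¹ ∈ W₂ ⊔ W₃)
    (htop : ∀ g : G, g * r = r * g → g ∈ W₂ ⊔ W₃ ⊔ K)
    (hsq : ∃ x w : G, x * r = r * x ∧ w ∈ W₃ ∧
      x * x = r * (w * ((φ.symm cyc : G) * w * (φ.symm cyc : G)⁻¹))) :
    Nonempty (↥(Subgroup.centralizer ({r} : Set G)) ≃* ↥Cen) := by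
  classical
  have hinv2 : ∀ w ∈ W₂, w⁻¹ = w := fun w hw => inv_eq_of_mul_eq_one_right (hsq2 w hw)
  have hinv3 : ∀ w ∈ W₃, w⁻¹ = w := fun w hw => inv_eq_of_mul_eq_one_right (hsq3 w hw)
  have hab2 : ∀ a ∈ W₂, ∀ b ∈ W₂, a * b = b * a := fun a ha b hb => by
    rw [← hinv2 _ (mul_mem ha hb), _root_.mul_inv_rev, hinv2 a ha, hinv2 b hb]
  have hab3 : ∀ a ∈ W₃, ∀ b ∈ W₃, a * b = b * a := fun a ha b hb => by
    rw [← hinv3 _ (mul_mem ha hb), _root_.mul_inv_rev, hinv3 a ha, hinv3 b hb]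
  let W : Subgroup G :=
    { carrier := {x | ∃ a ∈ W₂, ∃ b ∈ W₃, a * b = x}
      one_mem' := ⟨1, one_mem _, 1, one_mem _, one_mul 1⟩
      mul_mem' := by
        rintro _ _ ⟨a, ha, b, hb, rfl⟩ ⟨a', ha', b', hb', rfl⟩
        refine ⟨a * a', mul_mem ha ha', b * b', mul_mem hb hb', ?_⟩
        rw [mul_assoc a a', ← mul_assoc a', hcomm a' ha' b hb]; simp only [mul_assoc]
      inv_mem' := by
        rintro _ ⟨a, ha, b, hb, rfl⟩
        refine ⟨a, ha, b, hb, ?_⟩
        rw [_root_.mul_inv_rev, hinv2 a ha, hinv3 b hb, hcomm a ha b hb] }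
  have hW : W₂ ⊔ W₃ = W := le_antisymm
    (sup_le (fun a ha => ⟨a, ha, 1, one_mem _, mul_one a⟩)
      fun b hb => ⟨1, one_mem _, b, hb, one_mul b⟩)
    (by rintro _ ⟨a, ha, b, hb, rfl⟩; exact Subgroup.mul_mem_sup ha hb)
  rw [hW] at hnorm htop
  have hWr : ∀ x ∈ W, x * r = r * x := by
    rintro _ ⟨a, ha, b, hb, rfl⟩
    rw [mul_assoc, hab3 b hb r hr₃, ← mul_assoc, hab2 a ha r hr₂, mul_assoc]
  have hWsq : ∀ x ∈ W, x * x = 1 := by
    rintro _ ⟨a, ha, b, hb, rfl⟩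
    rw [mul_assoc a b, ← mul_assoc b, ← hcomm a ha b hb]
    rw [mul_assoc a b b, hsq3 b hb, mul_one, hsq2 a ha]
  have hWab : ∀ x ∈ W, ∀ y ∈ W, x * y = y * x := fun x hx y hy => by
    rw [← inv_eq_of_mul_eq_one_right (hWsq _ (mul_mem hx hy)), _root_.mul_inv_rev,
      inv_eq_of_mul_eq_one_right (hWsq x hx), inv_eq_of_mul_eq_one_right (hWsq y hy)]
  -- the complement normalizes `W`
  let N : Submonoid (Perm (Fin 6)) :=
    { carrier := {σ | ∀ w ∈ W, (φ.symm σ : G) * w * (φ.symm σ : G)⁻¹ ∈ W}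
      one_mem' := fun w hw => by simpa using hw
      mul_mem' := fun {σ π} hσ hπ w hw => by
        have := hσ _ (hπ w hw)
        rwa [map_mul, Subgroup.coe_mul, _root_.mul_inv_rev, ← mul_assoc, mul_assoc _ (φ.symm π : G) w,
          mul_assoc (φ.symm σ : G) ((φ.symm π : G) * w)] }
  have hN : N = ⊤ := by
    rw [eq_top_iff, ← Equiv.Perm.mclosure_swap_castSucc_succ 5, Submonoid.closure_le]
    rintro _ ⟨i, rfl⟩
    exact hnorm i
  have hKW : ∀ k ∈ K, ∀ w ∈ W, k * w * k⁻¹ ∈ W := by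
    intro k hk w hw
    have h := (show φ ⟨k, hk⟩ ∈ N by rw [hN]; trivial) w hw
    simpa using h
  -- inside the centralizer
  set D := Subgroup.centralizer ({r} : Set G) with hD
  have hWD : W ≤ D := fun x hx => Subgroup.mem_centralizer_singleton_iff.2 (hWr x hx)
  have hKD : K ≤ D := fun x hx => Subgroup.mem_centralizer_singleton_iff.2 (hK x hx)
  have hDle : D ≤ W ⊔ K := fun g hg => htop g (Subgroup.mem_centralizer_singleton_iff.1 hg)
  have hnormal : (W.subgroupOf D).Normal := by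
    refine ⟨fun x hx d => ?_⟩
    have hle : W ⊔ K ≤ Subgroup.normalizer (W : Set G) :=
      sup_le Subgroup.le_normalizer fun k hk => Subgroup.mem_normalizer_fintype fun w hw => hKW k hk w hw
    exact (Subgroup.mem_normalizer_iff.1 (hle (hDle d.2)) x).1 hx
  have hsup : W.subgroupOf D ⊔ K.subgroupOf D = ⊤ := by
    refine eq_top_iff.2 fun d _ => ?_
    obtain ⟨w, hw, k, hk, e⟩ : ∃ w ∈ W, ∃ k ∈ K, w * k = (d : G) := by
      have hd := hDle d.2
      rw [← SetLike.mem_coe, Subgroup.coe_mul_of_right_le_normalizer_left] at hd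
      · exact hd
      · exact fun k hk => Subgroup.mem_normalizer_fintype fun w hw => hKW k hk w hw
    rw [show d = (⟨w, hWD hw⟩ : D) * ⟨k, hKD hk⟩ from Subtype.ext e.symm]
    exact Subgroup.mul_mem_sup hw hk
  have hinf : W.subgroupOf D ⊓ K.subgroupOf D = ⊥ := by
    refine eq_bot_iff.2 fun x ⟨hxW, hxK⟩ => ?_
    have hσ : φ ⟨(x : G), hxK⟩ = 1 := by
      refine perm_six_no_normal_two _ ?_ fun π => ?_
      · rw [← map_mul]
        exact (congrArg φ (Subtype.ext (hWsq _ hxW))).trans (map_one φ)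
      · rw [show π = φ (φ.symm π) from (φ.apply_symm_apply π).symm, ← map_inv, ← map_mul,
          ← map_mul, ← map_mul, ← map_mul]
        exact congrArg φ (Subtype.ext (hWab _ hxW _ (hKW _ (φ.symm π).2 _ hxW)))
    rw [Subgroup.mem_bot]
    have h1 := φ.injective (hσ.trans (map_one φ).symm)
    exact Subtype.ext (show (x : G) = 1 from congrArg Subtype.val h1)
  let φD : K.subgroupOf D ≃* Perm (Fin 6) := (Subgroup.subgroupOfEquivOfLe hKD).trans φ
  have hφD : ∀ σ, ((φD.symm σ : D) : G) = (φ.symm σ : G) := fun σ => rfl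
  set ρ : D := ⟨r, Subgroup.mem_centralizer_singleton_iff.2 rfl⟩ with hρ
  have h32 : Nat.card (W.subgroupOf D) = 32 := by
    rw [Nat.card_congr (Subgroup.subgroupOfEquivOfLe hWD).toEquiv]
    let ψ : ↥W₂ × ↥W₃ →* G :=
      { toFun := fun p => (p.1 : G) * p.2
        map_one' := one_mul 1
        map_mul' := fun p q => by
          show (p.1 : G) * q.1 * (p.2 * q.2) = p.1 * p.2 * (q.1 * q.2)
          rw [mul_assoc (p.1 : G), ← mul_assoc (q.1 : G), hcomm _ q.1.2 _ p.2.2]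
          simp only [mul_assoc] }
    have hker : Nat.card ψ.ker = 2 := by
      have e : ψ.ker = Subgroup.zpowers ((⟨r, hr₂⟩, ⟨r, hr₃⟩) : ↥W₂ × ↥W₃) := by
        refine le_antisymm (fun p hp => ?_) (Subgroup.zpowers_le.2 ?_)
        · have hp' : (p.1 : G) = p.2 := by
            rw [eq_inv_of_mul_eq_one_left (hp : (p.1 : G) * p.2 = 1), hinv3 _ p.2.2]
          rcases hf2 _ p.1.2 (hp' ▸ hc3 _ p.2.2) with e | e
          · rw [show p = 1 from Prod.ext (Subtype.ext e) (Subtype.ext (hp'.symm.trans e))]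
            exact one_mem _
          · rw [show p = (⟨r, hr₂⟩, ⟨r, hr₃⟩) from
              Prod.ext (Subtype.ext e) (Subtype.ext (hp'.symm.trans e))]
            exact Subgroup.mem_zpowers _
        · exact hr2
      rw [e, Nat.card_zpowers]
      refine orderOf_eq_prime ?_ ?_
      · rw [pow_two]; exact Prod.ext (Subtype.ext hr2) (Subtype.ext hr2)
      · exact fun e => hr1 (congrArg (fun p : ↥W₂ × ↥W₃ => (p.1 : G)) e)
    have hrange : ψ.range = W := Subgroup.ext fun x =>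
      ⟨fun ⟨p, hp⟩ => ⟨p.1, p.1.2, p.2, p.2.2, hp⟩,
        fun ⟨a, ha, b, hb, e⟩ => ⟨(⟨a, ha⟩, ⟨b, hb⟩), e⟩⟩
    have h1 := ψ.ker.index_mul_card
    rw [Subgroup.index_ker, hrange, hker, Nat.card_prod, h2, h3] at h1
    omega
  have hfix : ∀ (σ : Perm (Fin 6)) (V V' : Subgroup G), V ≤ W → (∀ x ∈ W, ∃ a ∈ V, ∃ b ∈ V', a * b = x) →
      r ∈ V → (∀ a ∈ V, a * (φ.symm σ : G) = (φ.symm σ : G) * a) →
      (∀ b ∈ V', b * (φ.symm σ : G) = (φ.symm σ : G) * b → b = 1 ∨ b = r) →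
      ∀ x : D, x ∈ W.subgroupOf D ⊓ Subgroup.centralizer ({(φD.symm σ : D)} : Set D) ↔ (x : G) ∈ V := by
    intro σ V V' hVW hsplit hrV hcV hfV x
    rw [Subgroup.mem_inf, Subgroup.mem_subgroupOf, Subgroup.mem_centralizer_singleton_iff,
      Subtype.ext_iff, Subgroup.coe_mul, Subgroup.coe_mul, hφD]
    constructor
    · rintro ⟨hxW, hxc⟩
      obtain ⟨a, ha, b, hb, e⟩ := hsplit _ hxW
      have hb' : b * (φ.symm σ : G) = (φ.symm σ : G) * b := by
        refine mul_left_cancel (a := a) ?_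
        rw [← mul_assoc, e, hxc, ← e, ← mul_assoc, ← mul_assoc, hcV a ha]
      rw [← e]
      rcases hfV b hb hb' with rfl | rfl
      · rwa [mul_one]
      · exact mul_mem ha hrV
    · exact fun hx => ⟨hVW hx, hcV _ hx⟩
  have hfixA := hfix cyc W₂ W₃ (hW ▸ le_sup_left) (fun x hx => hx) hr₂ hc2 hf3
  have hfixB := hfix cyc' W₃ W₂ (hW ▸ le_sup_right)
    (by rintro _ ⟨a, ha, b, hb, rfl⟩; exact ⟨b, hb, a, ha, (hcomm a ha b hb).symm⟩) hr₃ hc3 hf2
  have hcard : ∀ (S : Subgroup D) (V : Subgroup G), V ≤ D → (∀ x : D, x ∈ S ↔ (x : G) ∈ V) →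
      Nat.card S = Nat.card V := fun S V hV hS => by
    rw [show S = V.subgroupOf D from Subgroup.ext hS,
      Nat.card_congr (Subgroup.subgroupOfEquivOfLe hV).toEquiv]
  refine nonempty_equiv_cen (W.subgroupOf D) (K.subgroupOf D) (hW := hnormal) h32
    (fun w hw => Subtype.ext (hWsq _ hw)) ρ (hW ▸ Subgroup.mem_sup_left hr₂ : r ∈ W)
    (fun e => hr1 (congrArg Subtype.val e))
    (fun g => Subtype.ext (Subgroup.mem_centralizer_singleton_iff.1 g.2)) hinf hsup φD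
    ((hcard _ _ (fun x hx => hWD (hW ▸ Subgroup.mem_sup_left hx)) hfixA).trans h2)
    ((hcard _ _ (fun x hx => hWD (hW ▸ Subgroup.mem_sup_right hx)) hfixB).trans h3) ?_ ?_
  · refine le_antisymm ?_ (Subgroup.zpowers_le.2 ⟨(hfixA ρ).2 hr₂, ((hfixB ρ).2 hr₃).2⟩)
    rintro x ⟨hxA, hxB⟩
    have h3' := (hfixA x).1 hxA
    have hB := (hfixB x).1 ⟨hxA.1, hxB⟩
    rcases hf2 _ h3' (hc3 _ hB) with e | e
    · rw [show x = 1 from Subtype.ext e]; exact one_mem _
    · rw [show x = ρ from Subtype.ext e]; exact Subgroup.mem_zpowers _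
  · intro χ
    obtain ⟨x, w, hx, hw, e⟩ := hsq
    set ed : D := ((φD.symm cyc : K.subgroupOf D) : D) with hed
    set wd : D := ⟨w, hWD (hW ▸ Subgroup.mem_sup_right hw)⟩ with hwd
    have he : (⟨x, Subgroup.mem_centralizer_singleton_iff.2 hx⟩ : D) *
        ⟨x, Subgroup.mem_centralizer_singleton_iff.2 hx⟩ = ρ * (wd * (ed * wd * ed⁻¹)) :=
      Subtype.ext (by push_cast; rw [hed, hφD]; exact e)
    have h1 := congrArg χ he
    simp only [map_mul, map_inv] at h1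
    refine zmod_two_prod _ (χ wd) _ (h1.trans ?_)
    rw [mul_comm (χ ed) (χ wd), mul_inv_cancel_right]

end CfsgLib.Hayden48
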