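import Cfsg.Agent.Hayden48.Transfer

/-!
# A subgroup of index two from a character of the centralizer of a 2-central involution
-/

set_option autoImplicit false

namespace CfsgLib.Hayden48

/-- If an involution `ρ` is fixed by the normalizer of a Sylow 2-subgroup of its centralizer and of
the group, and a character of the centralizer does not vanish on it, the group has a subgroup of
index two. -/
theorem exists_index_two_of_hom {G : Type*} [Group G] [Finite G] {ρ : G} (hρ : ρ * ρ = 1)
    (T : Sylow 2 G) (hT : (T : Subgroup G) ≤ Subgroup.centralizer ({ρ} : Set G))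
    (hN : ∀ n ∈ Subgroup.normalizer ((T : Subgroup G) : Set G), n * ρ * n⁻¹ = ρ)
    (χ : Subgroup.centralizer ({ρ} : Set G) →* Multiplicative (ZMod 2))
    (hχ : χ ⟨ρ, Subgroup.mem_centralizer_singleton_iff.2 rfl⟩ ≠ 1) :
    ∃ K : Subgroup G, K.index = 2 := by
  classical
  haveI : Fact (Nat.Prime 2) := ⟨Nat.prime_two⟩
  haveI : Fintype (G ⧸ (Subgroup.centralizer ({ρ} : Set G))) := Fintype.ofFinite _
  have huniq : ∀ g : G, (∀ j ∈ (T : Subgroup G), g⁻¹ * j * g ∈ (Subgroup.centralizer ({ρ} : Set G))) → g ∈ (Subgroup.centralizer ({ρ} : Set G)) := by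
    intro g hg
    let T₀ : Sylow 2 (Subgroup.centralizer ({ρ} : Set G)) := T.subtype hT
    have hp : IsPGroup 2 (((T : Subgroup G).map (MulAut.conj g⁻¹).toMonoidHom).subgroupOf (Subgroup.centralizer ({ρ} : Set G))) :=
      (T.isPGroup'.map _).comap_subtype
    obtain ⟨U, hU⟩ := hp.exists_le_sylow
    obtain ⟨d, hd⟩ := MulAction.exists_smul_eq (Subgroup.centralizer ({ρ} : Set G)) U T₀
    set n := (d : G) * g⁻¹ with hn
    have hnT : n ∈ Subgroup.normalizer ((T : Subgroup G) : Set G) := by
      refine Subgroup.mem_normalizer_fintype fun j hj => ?_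
      have hmem : g⁻¹ * j * g ∈ (Subgroup.centralizer ({ρ} : Set G)) := hg j hj
      have h1 : (MulAut.conj d) (⟨_, hmem⟩ : (Subgroup.centralizer ({ρ} : Set G))) ∈ (d • U : Sylow 2 (Subgroup.centralizer ({ρ} : Set G))).toSubgroup :=
        Subgroup.smul_mem_pointwise_smul _ _ _ (hU ⟨j, hj, by simp⟩)
      rw [hd] at h1
      have h2 : ((MulAut.conj d) (⟨_, hmem⟩ : (Subgroup.centralizer ({ρ} : Set G))) : G) ∈ (T : Subgroup G) := h1
      rw [hn]
      simp [mul_assoc] at h2 ⊢
      exact h2
    have hfix := mul_inv_eq_iff_eq_mul.1 (hN n hnT)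
    have hnC : n ∈ (Subgroup.centralizer ({ρ} : Set G)) := Subgroup.mem_centralizer_singleton_iff.2 hfix
    have h3 := Subgroup.inv_mem _ (Subgroup.mul_mem _ (Subgroup.inv_mem _ d.2) hnC)
    rwa [hn, inv_mul_cancel_left, inv_inv] at h3
  have hρC : ρ ∈ (Subgroup.centralizer ({ρ} : Set G)) := Subgroup.mem_centralizer_singleton_iff.2 rfl
  have htr := transfer_eq_of_unique_fixed (p := 2) (A := Multiplicative (ZMod 2))
    (fun c => (show ∀ c : Multiplicative (ZMod 2), c ^ 2 = 1 by decide) c) χ T.isPGroup' hρC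
    (by rw [pow_two, hρ]) (fun j hj => Subgroup.mem_centralizer_singleton_iff.1 (hT hj)) hT huniq
  set f := MonoidHom.transfer χ with hf
  refine ⟨f.ker, ?_⟩
  have hsurj : Function.Surjective f := by
    intro c
    rcases (show ∀ c : Multiplicative (ZMod 2), c = 1 ∨ c = Multiplicative.ofAdd 1 by decide) c with
      rfl | rfl
    · exact ⟨1, map_one f⟩
    · refine ⟨ρ, ?_⟩
      rcases (show ∀ c : Multiplicative (ZMod 2), c = 1 ∨ c = Multiplicative.ofAdd 1 by decide)
        (f ρ) with e | e
      · exact absurd (htr.symm.trans e) hχ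
      · exact e
  rw [Subgroup.index_ker, MonoidHom.range_eq_top.2 hsurj, Subgroup.card_top]
  simp

end CfsgLib.Hayden48
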