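import Cfsg.Agent.Hayden48.Mono
import Mathlib.GroupTheory.SpecificGroups.Dihedral

/-!
# The stabilizers of two kinds of vectors in the monomial group
-/

set_option autoImplicit false
set_option maxRecDepth 100000

namespace CfsgLib.Hayden48

/-- The first basis vector of the monomial group. -/
def vc : V3 := (0, 2, 1)

/-- The sum of the other two basis vectors. -/
def vs : V3 := (0, 2, 2)

/-- The rotation of the plane of the second and third basis vectors. -/
def fW (p : V3) : V3 := (-(p.2.1 + p.2.2), -p.1 - p.2.1 + p.2.2, p.2.1 - p.2.2 - p.1)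

/-- The stabilizer of `vc`. -/
def Mc : DihedralGroup 4 → V3 → V3
  | .r i => fW^[i.val]
  | .sr i => fT ∘ fW^[i.val]

/-- The stabilizer of `vs`. -/
def Ms : DihedralGroup 2 → V3 → V3
  | .r i => fR^[i.val]
  | .sr i => fT ∘ fR^[i.val]

/-- What is used about an element `v` and its stabilizer. -/
structure VHyp (v : V3) {Γ : Type*} [Group Γ] (M : Γ → V3 → V3) : Prop where
  ne : v ≠ 0
  notO : v ∉ eight 0
  good : ∀ d, tr (M d) ∈ goods ∧ (∀ p, M d p = lmap (tr (M d)) p) ∧ M d v = v
  mul : ∀ d e p, M (d * e) p = M d (M e p)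
  inj : ∀ d, (∀ p, M d p = p) → d = 1
  complete : ∀ T ∈ goods, lmap T v = v → ∃ d, ∀ p, lmap T p = M d p
  self : ∀ T ∈ goods, lmap T v = v → (∀ p, ∃ n : ZMod 3, lmap T p = p + n.val • v) →
    ∀ p, lmap T p = p
  cube : ∀ T ∈ goods, lmap T v = v → (∀ p, lmap T (lmap T (lmap T p)) = p) → ∀ p, lmap T p = p

theorem Mc_mem : ∀ d : DihedralGroup 4, tr (Mc d) ∈ goods := by decide +kernel

theorem Mc_lin : ∀ d : DihedralGroup 4, ∀ p, Mc d p = lmap (tr (Mc d)) p := by decide +kernel

theorem Mc_fix : ∀ d : DihedralGroup 4, Mc d vc = vc := by decide +kernel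

theorem vhyp_c : VHyp vc Mc where
  ne := by decide +kernel
  notO := by decide +kernel
  good d := ⟨Mc_mem d, Mc_lin d, Mc_fix d⟩
  mul := by decide +kernel
  inj := by decide +kernel
  complete := by decide +kernel
  self := by decide +kernel
  cube := by decide +kernel

theorem Ms_mem : ∀ d : DihedralGroup 2, tr (Ms d) ∈ goods := by decide +kernel

theorem Ms_lin : ∀ d : DihedralGroup 2, ∀ p, Ms d p = lmap (tr (Ms d)) p := by decide +kernel

theorem Ms_fix : ∀ d : DihedralGroup 2, Ms d vs = vs := by decide +kernel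

theorem vhyp_s : VHyp vs Ms where
  ne := by decide +kernel
  notO := by decide +kernel
  good d := ⟨Ms_mem d, Ms_lin d, Ms_fix d⟩
  mul := by decide +kernel
  inj := by decide +kernel
  complete := by decide +kernel
  self := by decide +kernel
  cube := by decide +kernel

theorem va_mem_eight : va ∈ eight 0 ∧ -va ∈ eight 0 := by decide +kernel

end CfsgLib.Hayden48
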