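import Cfsg.Agent.Hayden48.TwoSetup
import Cfsg.Agent.Transfer.Abelian
import Cfsg.Agent.TwoPrimeClasses.CharTools
import Cfsg.Agent.S3341

/-!
# Centralizers of elements of `J` normalize `⟨a⟩`

For `v ∈ J` outside `⟨a⟩` the Sylow 3-subgroup `J` of `X = C(v)` is abelian, and `E = J ∩ X'` is
inverted by the only nontrivial action of `N_X(J)`. The case `|E| = 9` would give a simple group
with the invariants of `A₆` but only two classes of normalizer, against the Sylow theorem.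
-/

set_option autoImplicit false

open scoped commutatorElement Pointwise

namespace CfsgLib.Hayden48

namespace TwoCtx

variable {G : Type*} [Group G] [Finite G] {h : Hyp G} (c : TwoCtx h)
include c

theorem conj_not_za {v g : G} (hva : v ∉ Subgroup.zpowers h.a) (hg : g ∈ h.H) :
    g * v * g⁻¹ ∉ Subgroup.zpowers h.a :=
  fun hm => hva ((Subgroup.mem_normalizer_iff.1 (c.H_le_N hg) v).2 hm)

/-- The context of a single `v`: `E` is inverted, its elements have centralizer `J` in `C(v)`. -/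
theorem cent_e {v e y : G} (hv : v ∈ h.J) (hva : v ∉ Subgroup.zpowers h.a) {m : G} (hm : m ∈ h.H)
    (hmv : m * v = v * m) (hm1 : m ∉ h.J) (he : e ∈ h.J) (he1 : e ≠ 1) (hei : m * e * m⁻¹ = e⁻¹)
    (hyv : y * v = v * y) (hye : y * e = e * y) : y ∈ h.J := by
  have hee : e⁻¹ ≠ e := PSpAmalgam84.inv_ne_self (h.orderOf_mem he he1)
  have hy : y ∈ h.H := by
    refine h.cent_plane_le hv he (fun e0 => hva (e0 ▸ one_mem _)) (fun hmem => hee ?_) hyv hye
    obtain ⟨k, rfl⟩ := Subgroup.mem_zpowers_iff.1 hmem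
    rw [← hei, ← conj_zpow, hmv, mul_inv_cancel_right]
  obtain ⟨-, hid | heq⟩ := c.dichotomy hv hva hm hy hmv hyv hm1
  · exact h.mem_J_of_comm fun x hx => mul_inv_eq_iff_eq_mul.1 (hid x hx)
  · refine absurd ?_ hee
    rw [← hei, ← heq e he, hye, mul_inv_cancel_right]

/-- An element of order dividing three of `H` commuting with `v` lies in `J`. -/
theorem cube_mem_J {v y : G} (hv : v ∈ h.J) (hva : v ∉ Subgroup.zpowers h.a) (hy : y ∈ h.H)
    (hyv : y * v = v * y) (h3 : y ^ 3 = 1) : y ∈ h.J := by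
  by_contra hyJ
  obtain ⟨hinv, -⟩ := c.dichotomy hv hva hy hy hyv hyv hyJ
  refine hyJ (h.mem_J_of_comm fun x hx => mul_inv_eq_iff_eq_mul.1 ?_)
  have e3 : y ^ 3 * x * (y ^ 3)⁻¹ = x := by rw [h3, one_mul, inv_one, mul_one]
  rw [show y ^ 3 * x * (y ^ 3)⁻¹ = y * (y * (y * x * y⁻¹) * y⁻¹) * y⁻¹ by
    simp only [pow_succ, pow_zero, one_mul]; group, hinv x hx] at e3
  exact e3

/-- An element of `C(v)` mapping an element of `E` to an inverted one normalizes `J`. -/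
theorem to_H {v m g e₁ : G} (hv : v ∈ h.J) (hva : v ∉ Subgroup.zpowers h.a) (hm : m ∈ h.H)
    (hmv : m * v = v * m) (hm1 : m ∉ h.J) (he1 : e₁ ∈ h.J) (hne : e₁ ≠ 1)
    (hgv : g * v = v * g) (hge : g * e₁ * g⁻¹ ∈ h.J)
    (hgi : m * (g * e₁ * g⁻¹) * m⁻¹ = (g * e₁ * g⁻¹)⁻¹) : g ∈ h.H := by
  refine h.mem_H_of_conj fun j hj => c.cent_e hv hva hm hmv hm1 hge
    (fun e0 => hne (conj_eq_one_iff.1 e0)) hgi ?_ ?_
  · calc g * j * g⁻¹ * v = g * (j * v) * g⁻¹ := by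
          rw [mul_assoc _ g⁻¹ v, (show Commute g v from hgv).inv_left.eq]; group
      _ = g * (v * j) * g⁻¹ := by rw [h.J_comm hj hv]
      _ = v * (g * j * g⁻¹) := by rw [← mul_assoc g v, hgv]; group
  · rw [show g * j * g⁻¹ * (g * e₁ * g⁻¹) = g * (j * e₁) * g⁻¹ by group, h.J_comm hj he1]
    group

/-- A `J`-invariant subgroup with elementary Sylow subgroup of order nine, self-centralizing
elements and normalizer quotient of order two is not simple. -/
theorem not_simple {M E : Subgroup G} [IsSimpleGroup M] {m : G} (hmM : m ∈ M) (hEM : E ≤ M)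
    (hE : Nat.card E = 9) (hcomm : ∀ x ∈ E, ∀ y ∈ E, x * y = y * x) (hexp : ∀ x ∈ E, x ^ 3 = 1)
    (hsyl : ∃ P : Sylow 3 M, (P : Subgroup M) = E.subgroupOf M)
    (hcent : ∀ s ∈ E, s ≠ 1 → ∀ y ∈ M, y * s = s * y → y ∈ E)
    (hinv : ∀ s ∈ E, m * s * m⁻¹ = s⁻¹)
    (hfus : ∀ g ∈ M, ∀ s ∈ E, s ≠ 1 → g * s * g⁻¹ ∈ E →
      g * s * g⁻¹ = s ∨ g * s * g⁻¹ = s⁻¹) : False := by
  haveI : Fact (Nat.Prime 3) := ⟨Nat.prime_three⟩
  obtain ⟨P, hP⟩ := hsyl
  have hord : ∀ s ∈ E, s ≠ 1 → orderOf s = 3 := fun s hs hs1 => orderOf_eq_prime (hexp s hs) hs1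
  obtain ⟨e₁, he₁, hne₁⟩ := (Subgroup.bot_or_exists_ne_one E).resolve_left fun e => by
    rw [e, Subgroup.card_bot] at hE
    norm_num at hE
  obtain ⟨e₂, he₂, hne₂⟩ : ∃ e₂ ∈ E, e₂ ∉ Subgroup.zpowers e₁ := by
    by_contra hcon
    push Not at hcon
    have := Subgroup.card_le_of_le hcon
    rw [hE, Nat.card_zpowers, hord e₁ he₁ hne₁] at this
    norm_num at this
  have hC : ∀ s ∈ E.subgroupOf M, s ≠ 1 →
      Subgroup.centralizer ({s} : Set M) = E.subgroupOf M := by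
    intro s hs hs1
    refine le_antisymm (fun (y : M) hy => Subgroup.mem_subgroupOf.2
      (hcent (s : G) (Subgroup.mem_subgroupOf.1 hs) (fun e => hs1 (Subtype.ext e)) (y : G) y.2
      (congrArg Subtype.val (Subgroup.mem_centralizer_singleton_iff.1 hy)))) fun (y : M) hy => ?_
    exact Subgroup.mem_centralizer_singleton_iff.2 (Subtype.ext
      (hcomm _ (Subgroup.mem_subgroupOf.1 hy) _ (Subgroup.mem_subgroupOf.1 hs)))
  have hcard : Nat.card (E.subgroupOf M) = 9 := by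
    rw [Nat.card_congr (Subgroup.subgroupOfEquivOfLe hEM).toEquiv, hE]
  obtain ⟨φ⟩ := Cfsg.Agent.S3341.result P (E.subgroupOf M) hP.symm
    ⟨⟨fun a b => Subtype.ext (Subtype.ext
      (hcomm _ (Subgroup.mem_subgroupOf.1 a.2) _ (Subgroup.mem_subgroupOf.1 b.2)))⟩⟩
    (fun a ha => Subtype.ext (by simpa using hexp _ (Subgroup.mem_subgroupOf.1 ha))) hcard
    ⟨⟨e₁, hEM he₁⟩, ⟨e₂, hEM he₂⟩, by rw [Subgroup.orderOf_mk, hord e₁ he₁ hne₁],
      by rw [Subgroup.orderOf_mk, hord e₂ he₂ fun e => hne₂ (e ▸ one_mem _)], fun g hg => by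
        have hg' : (g : G) * e₁ * (g : G)⁻¹ = e₂ := congrArg Subtype.val hg
        rcases hfus g g.2 e₁ he₁ hne₁ (hg' ▸ he₂) with e | e <;> rw [hg'] at e <;> refine hne₂ ?_ <;>
          rw [e]
        · exact Subgroup.mem_zpowers _
        · exact inv_mem (Subgroup.mem_zpowers _)⟩ hC
  have h360 : Nat.card M = 360 := by
    rw [Nat.card_congr φ.toEquiv]
    have e := two_mul_nat_card_alternatingGroup (α := Fin 6)
    rw [Nat.card_perm, Nat.card_fin, show Nat.factorial 6 = 720 from rfl] at e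
    omega
  set N := Subgroup.normalizer (P : Set M) with hN
  have hmN : (⟨m, hmM⟩ : M) ∈ N := by
    refine Subgroup.mem_normalizer_fintype fun x hx => ?_
    have hxE : (x : G) ∈ E := Subgroup.mem_subgroupOf.1 (hP ▸ hx)
    show _ ∈ (P : Subgroup M)
    rw [hP]
    exact Subgroup.mem_subgroupOf.2 (show m * (x : G) * m⁻¹ ∈ E by rw [hinv _ hxE]; exact E.inv_mem hxE)
  have hidx : ((P : Subgroup M).subgroupOf N).index = 2 := by
    rw [Subgroup.index_eq_two_iff_exists_notMem_and]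
    refine ⟨⟨_, hmN⟩, fun hm' => ?_, fun b => ?_⟩
    · have hmE : m ∈ E := Subgroup.mem_subgroupOf.1 (hP ▸ Subgroup.mem_subgroupOf.1 hm')
      have := hinv e₁ he₁
      rw [hcomm m hmE e₁ he₁, mul_inv_cancel_right] at this
      exact PSpAmalgam84.inv_ne_self (hord e₁ he₁ hne₁) this.symm
    · have hb : ((b : M) : G) * e₁ * ((b : M) : G)⁻¹ ∈ E := by
        have := (Subgroup.mem_normalizer_iff.1 b.2 ⟨e₁, hEM he₁⟩).1
          (hP ▸ Subgroup.mem_subgroupOf.2 he₁ : (⟨e₁, hEM he₁⟩ : M) ∈ (P : Subgroup M))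
        rw [hP] at this
        exact Subgroup.mem_subgroupOf.1 this
      rcases hfus _ (b : M).2 e₁ he₁ hne₁ hb with e | e
      · right
        rw [Subgroup.mem_subgroupOf, hP, Subgroup.mem_subgroupOf]
        exact hcent e₁ he₁ hne₁ _ (b : M).2 (mul_inv_eq_iff_eq_mul.1 e)
      · left
        rw [Subgroup.mem_subgroupOf, hP, Subgroup.mem_subgroupOf]
        refine hcent e₁ he₁ hne₁ _ (((b : M) * ⟨m, hmM⟩ : M)).2 (mul_inv_eq_iff_eq_mul.1 ?_)
        show (b : M).1 * m * e₁ * ((b : M).1 * m)⁻¹ = e₁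
        rw [show (b : M).1 * m * e₁ * ((b : M).1 * m)⁻¹ = (b : M).1 * (m * e₁ * m⁻¹) * (b : M).1⁻¹ by
          group, hinv e₁ he₁, ← conj_inv, e, inv_inv]
  have h18 := Subgroup.card_mul_index ((P : Subgroup M).subgroupOf N)
  rw [hidx, Nat.card_congr (Subgroup.subgroupOfEquivOfLe
    (show (P : Subgroup M) ≤ N from Subgroup.le_normalizer)).toEquiv, hP,
    hcard] at h18
  have h20 := Subgroup.card_mul_index N
  rw [← h18, h360, ← P.card_eq_index_normalizer] at h20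
  have hmod := card_sylow_modEq_one 3 M
  unfold Nat.ModEq at hmod
  omega

end TwoCtx

variable {G : Type*} [Group G] [Finite G] {h : Hyp G}

/-- A subgroup of order three is generated by any of its nontrivial elements. -/
theorem eq_zpowers_of_card_three {Y : Subgroup G} (hY : Nat.card Y = 3) {s : G} (hs : s ∈ Y)
    (hs1 : s ≠ 1) : Y = Subgroup.zpowers s := by
  refine (Subgroup.eq_of_le_of_card_ge (Subgroup.zpowers_le.2 hs) ?_).symm
  rw [hY, Nat.card_zpowers]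
  rcases (Nat.dvd_prime Nat.prime_three).1 (hY ▸ Subgroup.orderOf_dvd_natCard Y hs) with e | e
  · exact absurd (orderOf_eq_one_iff.1 e) hs1
  · rw [e]

/-- A nontrivial proper subgroup of a group of order nine has order three. -/
theorem card_three_of_lt_nine {Y E : Subgroup G} (hle : Y ≤ E) (hE : Nat.card E = 9)
    (hne : ¬ E ≤ Y) {s : G} (hs : s ∈ Y) (hs1 : s ≠ 1) : Nat.card Y = 3 := by
  obtain ⟨k, hk, hk'⟩ := (Nat.dvd_prime_pow Nat.prime_three (m := 2)).1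
    (show Nat.card Y ∣ 3 ^ 2 by
      rw [show (3 : ℕ) ^ 2 = 9 by norm_num, ← hE]; exact Subgroup.card_dvd_of_le hle)
  rw [hk']
  interval_cases k
  · exfalso
    rw [pow_zero, Subgroup.card_eq_one] at hk'
    exact hs1 (Subgroup.mem_bot.1 (hk' ▸ hs : s ∈ (⊥ : Subgroup G)))
  · norm_num
  · exfalso
    have := Subgroup.eq_of_le_of_card_ge hle (by rw [hk', hE]; norm_num)
    exact hne this.ge

/-- A normal subgroup of a group with Sylow subgroup `J` has Sylow subgroup its part in `J`. -/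
theorem Hyp.sylow_normal (h : Hyp G) {X M : Subgroup G} (hMX : M ≤ X)
    (hXM : X ≤ Subgroup.normalizer (M : Set G))
    (hT : ∃ T : Sylow 3 X, (T : Subgroup X) = h.J.subgroupOf X) :
    ∃ P : Sylow 3 M, (P : Subgroup M) = h.J.subgroupOf M := by
  haveI : Fact (Nat.Prime 3) := ⟨Nat.prime_three⟩
  obtain ⟨T, hT⟩ := hT
  have hp : IsPGroup 3 (h.J.subgroupOf M) := h.isPGroup_J.comap_subtype
  obtain ⟨P, hP⟩ := hp.exists_le_sylow
  refine ⟨P, (Subgroup.eq_of_le_of_card_ge hP ?_).symm⟩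
  set Q := (P : Subgroup M).map M.subtype with hQ
  have hQX : Q ≤ X := (Subgroup.map_subtype_le _).trans hMX
  obtain ⟨U, hU⟩ := ((P.isPGroup'.map M.subtype : IsPGroup 3 Q).comap_subtype (K := X)).exists_le_sylow
  obtain ⟨y, hy⟩ := MulAction.exists_smul_eq X U T
  refine Nat.card_le_card_of_injective (fun q => (⟨⟨(y : G) * ((q : M) : G) * (y : G)⁻¹,
    (Subgroup.mem_normalizer_iff.1 (hXM y.2) _).1 (q : M).2⟩, ?_⟩ : h.J.subgroupOf M)) ?_
  · refine Subgroup.mem_subgroupOf.2 ?_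
    have hm : MulAut.conj y • (⟨((q : M) : G), hQX ⟨q, q.2, rfl⟩⟩ : X) ∈
        MulAut.conj y • (U : Subgroup X) :=
      Subgroup.smul_mem_pointwise_smul _ _ _ (hU ⟨q, q.2, rfl⟩)
    rw [← Sylow.coe_subgroup_smul] at hm
    change MulAut.conj y • _ ∈ ((y • U : Sylow 3 X) : Subgroup X) at hm
    rw [hy, hT] at hm
    exact Subgroup.mem_subgroupOf.1 hm
  · intro q q' hq
    have := congrArg (fun z : h.J.subgroupOf M => ((z : M) : G)) hq
    exact Subtype.ext (Subtype.ext (mul_left_cancel (mul_right_cancel this)))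

/-- An invariant subgroup with Sylow subgroup in `J` centralized by its normalizer lies in `J`. -/
theorem Hyp.le_J_of_normalizer (h : Hyp G) {M : Subgroup G}
    (hJM : h.J ≤ Subgroup.normalizer (M : Set G))
    (hP : ∃ P : Sylow 3 M, (P : Subgroup M) = h.J.subgroupOf M)
    (hn : ∀ y ∈ M, (∀ x ∈ M, x ∈ h.J → y * x * y⁻¹ ∈ h.J) → y ∈ h.J) : M ≤ h.J := by
  haveI : Fact (Nat.Prime 3) := ⟨Nat.prime_three⟩
  obtain ⟨P, hP⟩ := hP
  have hmem : ∀ x : M, x ∈ (P : Subgroup M) ↔ (x : G) ∈ h.J := fun x => by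
    rw [hP]
    exact Subgroup.mem_subgroupOf
  have hcen : Subgroup.normalizer (P : Set M) ≤ Subgroup.centralizer (P : Set M) := by
    intro y hy
    have hyJ : (y : G) ∈ h.J := hn y y.2 fun x hx hxJ =>
      (hmem (y * ⟨x, hx⟩ * y⁻¹)).1 ((Subgroup.mem_normalizer_iff.1 hy ⟨x, hx⟩).1 ((hmem ⟨x, hx⟩).2 hxJ))
    exact Subgroup.mem_centralizer_iff.2 fun q hq => Subtype.ext (h.J_comm ((hmem q).1 hq) hyJ)
  have hcompl := MonoidHom.ker_transferSylow_isComplement' P hcen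
  have hnorm := MonoidHom.normal_ker (MonoidHom.transferSylow P hcen)
  generalize (MonoidHom.transferSylow P hcen).ker = U at hcompl hnorm
  have hco : (Nat.card U).Coprime 3 := by
    refine Nat.Coprime.symm ((Nat.Prime.coprime_iff_not_dvd Nat.prime_three).2 ?_)
    rw [← hcompl.index_eq_card]
    exact P.not_dvd_index
  have hUb : U.map M.subtype = ⊥ := by
    refine h.core_bot hJM le_rfl Subgroup.le_normalizer (Subgroup.map_subtype_le U)
      (fun y hy => Subgroup.mem_normalizer_fintype ?_)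
      (by rwa [Subgroup.card_map_of_injective M.subtype_injective])
    rintro _ ⟨u, hu, rfl⟩
    exact ⟨⟨y, hy⟩ * u * ⟨y, hy⟩⁻¹, hnorm.conj_mem u hu _, rfl⟩
  rw [Subgroup.map_eq_bot_iff_of_injective _ M.subtype_injective] at hUb
  have htop := hcompl.sup_eq_top
  rw [hUb, bot_sup_eq] at htop
  exact fun x hx => (hmem ⟨x, hx⟩).1 (htop ▸ Subgroup.mem_top _)

/-- An elementary subgroup of order nine acting freely on an `r`-group of order four or seven. -/
theorem no_free_nine {E W : Subgroup G} (hE : Nat.card E = 9)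
    (hEW : E ≤ Subgroup.normalizer (W : Set G)) (hW : Nat.card W = 4 ∨ Nat.card W = 7)
    (hfree : ∀ w ∈ W, ∀ s ∈ E, s ≠ 1 → s * w = w * s → w = 1) : False := by
  letI : MulAction E G := MulAction.compHom G (MulAut.conj.comp E.subtype)
  have hact : ∀ (s : E) (w : G), s • w = (s : G) * w * (s : G)⁻¹ := fun s w => rfl
  have hd := TwoPrimeClasses.card_dvd_ncard_of_free (H := E) ((W : Set G) \ {1})
    (fun s w hw => by
      rw [hact]
      refine ⟨(Subgroup.mem_normalizer_iff.1 (hEW s.2) w).1 hw.1, fun e => hw.2 ?_⟩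
      exact conj_eq_one_iff.1 e)
    (fun s w hw e => by
      rw [hact] at e
      by_contra hs
      exact hw.2 (hfree w hw.1 s s.2 (fun e0 => hs (Subtype.ext e0)) (mul_inv_eq_iff_eq_mul.1 e)))
  rw [Set.ncard_diff_singleton_of_mem W.one_mem, ← Nat.card_coe_set_eq, hE] at hd
  rcases hW with e | e <;> rw [show Nat.card (W : Set G) = Nat.card W from rfl, e] at hd <;>
    norm_num at hd

namespace TwoCtx

variable (c : TwoCtx h)
include c

/-- A nontrivial normal subgroup of the minimal `M` contains `E`. -/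
theorem le_of_normal {v m : G} (hv : v ∈ h.J) (hva : v ∉ Subgroup.zpowers h.a) (hm : m ∈ h.H)
    (hmv : m * v = v * m) (hm1 : m ∉ h.J) {X M L E : Subgroup G}
    (hXv : ∀ y ∈ X, y * v = v * y) (hMX : M ≤ X)
    (hJM : h.J ≤ Subgroup.normalizer (M : Set G)) (hE : Nat.card E = 9) (hEJ : E ≤ h.J)
    (hMJ : ∀ x ∈ M, x ∈ h.J → x ∈ E) (hEM : E ≤ M) (hEinv : ∀ s ∈ E, m * s * m⁻¹ = s⁻¹)
    (hP : ∃ P : Sylow 3 M, (P : Subgroup M) = h.J.subgroupOf M)
    (hMH : ¬ M ≤ h.H) (hLM : L ≤ M) (hL1 : L ≠ ⊥) (hML : M ≤ Subgroup.normalizer (L : Set G)) :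
    E ≤ L := by
  haveI : Fact (Nat.Prime 3) := ⟨Nat.prime_three⟩
  haveI : (L.subgroupOf M).Normal := (Subgroup.normal_subgroupOf_iff_le_normalizer hLM).2 hML
  obtain ⟨P, hP⟩ := hP
  obtain ⟨e₂, he₂, hne₂⟩ := (Subgroup.bot_or_exists_ne_one (L ⊓ h.J)).resolve_left fun e0 => hL1 (by
    refine h.core_bot hJM hLM hML le_rfl Subgroup.le_normalizer ?_
    have hPb : (P : Subgroup M) ⊓ L.subgroupOf M = ⊥ := by
      refine (Subgroup.eq_bot_iff_forall _).2 fun x hx => Subtype.ext ?_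
      exact Subgroup.mem_bot.1 (e0 ▸ (⟨Subgroup.mem_subgroupOf.1 hx.2,
        Subgroup.mem_subgroupOf.1 (hP ▸ hx.1 : x ∈ h.J.subgroupOf M)⟩ : (x : G) ∈ L ⊓ h.J))
    have := Transfer.not_dvd_card_of_sylow_inf_eq_bot P _ hPb
    rw [Nat.card_congr (Subgroup.subgroupOfEquivOfLe hLM).toEquiv] at this
    exact Nat.Coprime.symm ((Nat.Prime.coprime_iff_not_dvd Nat.prime_three).2 this))
  have he₂E : e₂ ∈ E := hMJ e₂ (hLM he₂.1) he₂.2
  have ho := h.orderOf_mem he₂.2 hne₂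
  have hle : L ⊓ h.J ≤ E := fun x hx => hMJ x (hLM hx.1) hx.2
  by_contra hEL
  have hLJe : L ⊓ h.J = Subgroup.zpowers e₂ := eq_zpowers_of_card_three
    (card_three_of_lt_nine hle hE (fun e => hEL fun s hs => (e hs).1) he₂ hne₂) he₂ hne₂
  have hcE : ∀ s ∈ E, s ≠ 1 → ∀ y ∈ M, y * s = s * y → y ∈ h.J := fun s hs hs1 y hy hys =>
    c.cent_e hv hva hm hmv hm1 (hEJ hs) hs1 (hEinv s hs) (hXv y (hMX hy)) hys
  have hc' : ∀ y ∈ L, y * e₂ = e₂ * y → y ∈ Subgroup.zpowers e₂ := fun y hy hye =>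
    hLJe ▸ ⟨hy, hcE e₂ he₂E hne₂ y (hLM hy) hye⟩
  rcases h.shape_cases hJM hLM hML he₂.1 ho hc' with hn | ⟨hs, hk⟩
  · refine hMH fun y hy => ?_
    have hmL : y * e₂ * y⁻¹ ∈ L := (Subgroup.mem_normalizer_iff.1 (hML hy) e₂).1 he₂.1
    have h3 : (y * e₂ * y⁻¹) ^ 3 = 1 := by rw [conj_pow, h.J_exp he₂.2, mul_one, mul_inv_cancel]
    have := hc' _ hmL (comm_of_cube ho h3 (hn _ hmL))
    rw [← hLJe] at this
    exact c.to_H hv hva hm hmv hm1 he₂.2 hne₂ (hXv y (hMX hy)) this.2 (hEinv _ (hle this))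
  · have hmain : ∀ r : ℕ, ∀ _ : Fact r.Prime, r ≠ 3 → ¬ 3 ∣ Nat.card (Sylow r L) →
        (∀ W : Sylow r L, Nat.card (W : Subgroup L) = 4 ∨ Nat.card (W : Subgroup L) = 7) → False := by
      intro r hr hr3 hn hcard
      obtain ⟨W, hW⟩ := exists_invariant_sylow (h.isPGroup_J.to_le hEJ) (hEM.trans hML) r hn
      refine no_free_nine (W := (W : Subgroup L).map L.subtype) hE hW
        (by rw [Subgroup.card_map_of_injective L.subtype_injective]; exact hcard W) ?_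
      rintro _ ⟨w, hw, rfl⟩ s hs hs1 hsw
      have hwJ : (w : G) ∈ h.J := hcE s hs hs1 _ (hLM w.2) hsw.symm
      obtain ⟨k, hk⟩ := W.isPGroup' ⟨w, hw⟩
      have hk' : (w : G) ^ r ^ k = 1 := congrArg (fun x : (W : Subgroup L) => ((x : L) : G)) hk
      have h2 := Nat.dvd_gcd (orderOf_dvd_of_pow_eq_one hk') (orderOf_dvd_of_pow_eq_one (h.J_exp hwJ))
      rw [Nat.coprime_iff_gcd_eq_one.1
        (Nat.Coprime.pow_left k ((Nat.coprime_primes hr.out Nat.prime_three).2 hr3)), Nat.dvd_one] at h2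
      exact orderOf_eq_one_iff.1 h2
    rcases hk with hk | hk
    · exact hmain 2 ⟨Nat.prime_two⟩ (by norm_num) (card_sylow_two_of_sixty hk) fun W => Or.inl (by
        haveI : Fact (Nat.Prime 2) := ⟨Nat.prime_two⟩
        rw [Small.card_sylow_eq (k := 2) (m := 15) (by rw [hk]; norm_num) (by norm_num) W]
        norm_num)
    · haveI : Fact (Nat.Prime 7) := ⟨by norm_num⟩
      exact hmain 7 ⟨by norm_num⟩ (by norm_num) (card_sylow_seven_of_168 hk) fun W => Or.inr (by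
        rw [Small.card_sylow_eq (k := 1) (m := 24) (by rw [hk]; norm_num) (by norm_num) W]
        norm_num)

omit c in
/-- A minimal invariant subgroup whose normal subgroups all contain `E` is simple. -/
theorem isSimple_of_minimal {X M E : Subgroup G} (hXM : X ≤ Subgroup.normalizer (M : Set G))
    (hMne : M ≠ ⊥) {e₁ : G} (he₁ : e₁ ∈ E) (hne₁ : e₁ ≠ 1) (hEM : E ≤ M)
    (hmin : ∀ L : Subgroup G, L ≤ M → L ≠ ⊥ → X ≤ Subgroup.normalizer (L : Set G) → M ≤ L)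
    (hnormal : ∀ L : Subgroup G, L ≤ M → L ≠ ⊥ → M ≤ Subgroup.normalizer (L : Set G) → E ≤ L) :
    IsSimpleGroup M := by
  haveI : Nontrivial M := (Subgroup.nontrivial_iff_ne_bot M).2 hMne
  refine ⟨fun L hL => ?_⟩
  by_contra hcon
  push Not at hcon
  obtain ⟨hL1, hL2⟩ := hcon
  set L' := L.map M.subtype with hL'
  have hne : L' ≠ ⊥ := fun e0 =>
    hL1 ((Subgroup.map_eq_bot_iff_of_injective _ M.subtype_injective).1 e0)
  set L0 : Subgroup G := M ⊓ ⨅ x : X, L'.comap (MulAut.conj (x : G)).toMonoidHom with hL0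
  have hconj : ∀ x ∈ X, E ≤ L'.comap (MulAut.conj x).toMonoidHom := by
    intro x hx s hs
    have hle : L'.map (MulAut.conj x⁻¹).toMonoidHom ≤ M := by
      rintro _ ⟨l, hl, rfl⟩
      exact (Subgroup.mem_normalizer_iff.1 (hXM (X.inv_mem hx)) l).1 (Subgroup.map_subtype_le _ hl)
    have := hnormal _ hle (fun e0 => hne ((Subgroup.map_eq_bot_iff_of_injective _
      (MulAut.conj x⁻¹).injective).1 e0)) (fun y hy => Subgroup.mem_normalizer_fintype (by
        rintro _ ⟨_, ⟨l, hl, rfl⟩, rfl⟩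
        have hyx : x * y * x⁻¹ ∈ M := (Subgroup.mem_normalizer_iff.1 (hXM hx) y).1 hy
        exact ⟨(x * y * x⁻¹) * (l : G) * (x * y * x⁻¹)⁻¹,
          ⟨⟨_, hyx⟩ * l * ⟨_, hyx⟩⁻¹, hL.conj_mem l hl _, rfl⟩, by simp [mul_assoc]⟩)) hs
    obtain ⟨l, hl, e⟩ := this
    show x * s * x⁻¹ ∈ L'
    rw [← e]
    simpa [mul_assoc] using hl
  have hEL0 : E ≤ L0 := le_inf hEM (le_iInf fun x => hconj x x.2)
  have hXL0 : X ≤ Subgroup.normalizer (L0 : Set G) := fun y hy =>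
    Subgroup.mem_normalizer_fintype fun s hs => by
      refine ⟨(Subgroup.mem_normalizer_iff.1 (hXM hy) s).1 hs.1, ?_⟩
      refine Subgroup.mem_iInf.2 fun x => ?_
      have := (Subgroup.mem_iInf.1 hs.2) (x * ⟨y, hy⟩)
      simpa [mul_assoc] using this
  have hge := hmin L0 inf_le_left
    (fun e0 => hne₁ (Subgroup.mem_bot.1 (e0 ▸ hEL0 he₁))) hXL0
  refine hL2 ((Subgroup.eq_top_iff' L).2 fun y => ?_)
  obtain ⟨l, hl, e⟩ := (Subgroup.mem_iInf.1 (hge y.2).2 (1 : X))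
  rw [show l = y from Subtype.ext (by simpa using e)] at hl
  exact hl

/-- The centralizer of an element of `J` outside `⟨a⟩` normalizes `J`. -/
theorem cent_le_H {v g : G} (hv : v ∈ h.J) (hva : v ∉ Subgroup.zpowers h.a)
    (hgv : g * v = v * g) : g ∈ h.H := by
  haveI : Fact (Nat.Prime 3) := ⟨Nat.prime_three⟩
  set X := Subgroup.centralizer ({v} : Set G) with hX
  have hXv : ∀ y ∈ X, y * v = v * y := fun y hy => Subgroup.mem_centralizer_singleton_iff.1 hy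
  have hgX : g ∈ X := Subgroup.mem_centralizer_singleton_iff.2 hgv
  have hJX : h.J ≤ X := fun j hj => Subgroup.mem_centralizer_singleton_iff.2 (h.J_comm hj hv)
  obtain ⟨T, hT⟩ := h.sylow_J hJX (Zs := {v}) (Set.singleton_subset_iff.2 hv)
    (fun y hy z hz => by rw [Set.mem_singleton_iff.1 hz]; exact hXv y hy)
    (fun k hk => ⟨v, rfl, c.conj_not_za hva hk⟩)
  rcases h.exists_mem_commutator_or_le hJX ⟨T, hT⟩ with hle | ⟨e, ⟨heK, heJ⟩, he1⟩
  · exact h.J_le_H (hle hgX)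
  set K := (commutator X).map X.subtype with hK
  have hcomT : IsMulCommutative (T : Subgroup X) := by
    rw [hT]
    exact ⟨⟨fun a b => Subtype.ext (Subtype.ext
      (h.J_comm (Subgroup.mem_subgroupOf.1 a.2) (Subgroup.mem_subgroupOf.1 b.2)))⟩⟩
  have hNT : ∀ y ∈ Subgroup.normalizer (T : Set X), (y : G) ∈ h.H := fun y hy =>
    h.mem_H_of_conj fun x hx => by
      have := (Subgroup.mem_normalizer_iff.1 hy ⟨x, hJX hx⟩).1
        (show (⟨x, hJX hx⟩ : X) ∈ (T : Subgroup X) from hT ▸ Subgroup.mem_subgroupOf.2 hx)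
      exact Subgroup.mem_subgroupOf.1 (show _ ∈ h.J.subgroupOf X from hT ▸ this)
  have hfoc : ∀ (D : Subgroup G), (∀ y ∈ h.H, y * v = v * y → ∀ x ∈ h.J,
      x * (y * x * y⁻¹)⁻¹ ∈ D) → ∀ x ∈ K, x ∈ h.J → x ∈ D := by
    rintro D hD _ ⟨x, hx, rfl⟩ hxJ
    have hmem : x ∈ commutator X ⊓ (T : Subgroup X) :=
      ⟨hx, hT ▸ Subgroup.mem_subgroupOf.2 hxJ⟩
    rw [Transfer.commutator_inf_eq_commutator_normalizer T hcomT] at hmem
    refine (Subgroup.commutator_le (H₃ := D.comap X.subtype)).2 (fun t ht y hy => ?_) hmem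
    have htJ : (t : G) ∈ h.J := Subgroup.mem_subgroupOf.1 (show t ∈ h.J.subgroupOf X from hT ▸ ht)
    show ((⁅t, y⁆ : X) : G) ∈ D
    rw [show ((⁅t, y⁆ : X) : G) = (t : G) * ((y : G) * t * (y : G)⁻¹)⁻¹ by
      simp [commutatorElement_def, mul_assoc]]
    exact hD y (hNT y hy) (hXv y y.2) t htJ
  obtain ⟨m, hm, hmv, hm1⟩ : ∃ m ∈ h.H, m * v = v * m ∧ m ∉ h.J := by
    by_contra hcon
    push Not at hcon
    refine he1 (Subgroup.mem_bot.1 (hfoc ⊥ (fun y hy hyv x hx => ?_) e heK heJ))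
    rw [Subgroup.mem_bot, h.J_comm (hcon y hy hyv) hx, mul_inv_cancel_right, mul_inv_cancel]
  obtain ⟨hinv2, -⟩ := c.dichotomy hv hva hm hm hmv hmv hm1
  let D : Subgroup G :=
    { carrier := {x | x ∈ h.J ∧ m * x * m⁻¹ = x⁻¹}
      one_mem' := ⟨one_mem _, by simp⟩
      mul_mem' := fun {x y} hx hy => ⟨mul_mem hx.1 hy.1, by
        rw [← conj_mul, hx.2, hy.2, mul_inv_rev, h.J_comm (inv_mem hx.1) (inv_mem hy.1)]⟩
      inv_mem' := fun {x} hx => ⟨inv_mem hx.1, by rw [← conj_inv, hx.2]⟩ }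
  have hKD : ∀ x ∈ K, x ∈ h.J → x ∈ D := hfoc D fun y hy hyv x hx => by
    refine ⟨mul_mem hx (inv_mem (h.conj_mem hy hx)), ?_⟩
    obtain ⟨-, hid | heq⟩ := c.dichotomy hv hva hm hy hmv hyv hm1
    · simp [hid x hx]
    · rw [heq x hx, ← conj_mul, ← conj_inv, hinv2 x hx, mul_inv_rev, inv_inv]
  have hXK : X ≤ Subgroup.normalizer (K : Set G) :=
    Subgroup.le_normalizer.trans (norm_map_char X (commutator X) inferInstance)
  set E := K ⊓ h.J with hE
  have hcE : ∀ s ∈ E, s ≠ 1 → ∀ y ∈ X, y * s = s * y → y ∈ h.J := fun s hs hs1 y hy hys =>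
    c.cent_e hv hva hm hmv hm1 hs.2 hs1 (hKD s hs.1 hs.2).2 (hXv y hy) hys
  have htoH : ∀ e₁ ∈ E, e₁ ≠ 1 → ∀ y ∈ X, y * e₁ * y⁻¹ ∈ E → y ∈ h.H := fun e₁ h1 hne y hy hye =>
    c.to_H hv hva hm hmv hm1 h1.2 hne (hXv y hy) hye.2 (hKD _ hye.1 hye.2).2
  have hvE : v ∉ E := fun hvm => by
    have hv1 : v ≠ 1 := fun e0 => hva (e0 ▸ one_mem _)
    have := (hKD v hvm.1 hvm.2).2
    rw [hmv, mul_inv_cancel_right] at this
    exact PSpAmalgam84.inv_ne_self (h.orderOf_mem hv hv1) this.symm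
  have hEle : Nat.card E = 3 ∨ Nat.card E = 9 := by
    obtain ⟨k, hk, hk'⟩ := (Nat.dvd_prime_pow Nat.prime_three (m := 3)).1
      (show Nat.card E ∣ 3 ^ 3 by
        have := Subgroup.card_dvd_of_le (inf_le_right : E ≤ h.J)
        rwa [h.card_J] at this)
    simp only [hk']
    interval_cases k
    · exfalso
      rw [pow_zero, Subgroup.card_eq_one] at hk'
      exact he1 (Subgroup.mem_bot.1 (hk' ▸ ⟨heK, heJ⟩ : e ∈ (⊥ : Subgroup G)))
    · exact Or.inl (pow_one 3)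
    · exact Or.inr (by norm_num)
    · exfalso
      have : E = h.J := Subgroup.eq_of_le_of_card_ge inf_le_right (by rw [hk', h.card_J]; norm_num)
      exact hvE (this ▸ hv)
  rcases hEle with hE3 | hE9
  · have he3 : orderOf e = 3 := h.orderOf_mem heJ he1
    have hEe := eq_zpowers_of_card_three hE3 (s := e) ⟨heK, heJ⟩ he1
    refine htoH e ⟨heK, heJ⟩ he1 g hgX (hEe ▸ h.self_three (hJX.trans hXK) heK he3
      (fun y hy hye => hEe ▸ ⟨hy, hcE e ⟨heK, heJ⟩ he1 y (Subgroup.map_subtype_le _ hy) hye⟩)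
      (hXK hgX))
  -- a minimal `X`-invariant subgroup of `K`
  classical
  have hex : ∃ n, ∃ M : Subgroup G, M ≤ K ∧ M ≠ ⊥ ∧ X ≤ Subgroup.normalizer (M : Set G) ∧
      Nat.card M = n :=
    ⟨_, K, le_rfl, fun e0 => he1 (Subgroup.mem_bot.1 (e0 ▸ heK)), hXK, rfl⟩
  obtain ⟨M, hMK, hMne, hXM, hMc⟩ := Nat.find_spec hex
  have hMX : M ≤ X := hMK.trans (Subgroup.map_subtype_le _)
  have hEJ : ∀ x ∈ M, x ∈ h.J → x ∈ E := fun x hx hxJ => ⟨hMK hx, hxJ⟩
  obtain ⟨P, hP⟩ := h.sylow_normal hMX hXM ⟨T, hT⟩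
  have hMJ : ∃ e₁ ∈ M ⊓ h.J, e₁ ≠ 1 := by
    refine (Subgroup.bot_or_exists_ne_one _).resolve_left fun e0 => hMne ?_
    refine h.core_bot (hJX.trans hXM) le_rfl Subgroup.le_normalizer le_rfl Subgroup.le_normalizer ?_
    have hPb : (P : Subgroup M) ⊓ ⊤ = ⊥ := by
      rw [inf_top_eq, hP, Subgroup.subgroupOf_eq_bot, disjoint_iff, inf_comm, e0]
    have := Transfer.not_dvd_card_of_sylow_inf_eq_bot P ⊤ hPb
    rw [Subgroup.card_top] at this
    exact Nat.Coprime.symm ((Nat.Prime.coprime_iff_not_dvd Nat.prime_three).2 this)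
  obtain ⟨e₁, ⟨he1M, he1J⟩, hne₁⟩ := hMJ
  have he₁E : e₁ ∈ E := hEJ e₁ he1M he1J
  by_cases hEM : E ≤ M
  swap
  · have hMJe : M ⊓ h.J = Subgroup.zpowers e₁ := eq_zpowers_of_card_three
      (card_three_of_lt_nine (Y := M ⊓ h.J) (fun x hx => hEJ x hx.1 hx.2) hE9
        (fun e => hEM fun s hs => (e hs).1)
        (s := e₁) ⟨he1M, he1J⟩ hne₁) ⟨he1M, he1J⟩ hne₁
    have hs := h.self_three (hJX.trans hXM) he1M (h.orderOf_mem he1J hne₁)
      (fun y hy hye => hMJe ▸ ⟨hy, hcE e₁ he₁E hne₁ y (hMX hy) hye⟩) (hXM hgX)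
    rw [← hMJe] at hs
    exact htoH e₁ he₁E hne₁ g hgX (hEJ _ hs.1 hs.2)
  by_cases hMH : M ≤ h.H
  · have hge := (Subgroup.mem_normalizer_iff.1 (hXM hgX) e₁).1 he1M
    exact htoH e₁ he₁E hne₁ g hgX (hEJ _ hge (c.cube_mem_J hv hva (hMH hge) (hXv _ (hMX hge))
      (by rw [conj_pow, h.J_exp he1J, mul_one, mul_inv_cancel])))
  by_cases hm' : ∃ m' ∈ M, m' ∈ h.H ∧ m' ∉ h.J
  swap
  · -- Burnside: `M` has a normal 3-complement, so `M = E`
    push Not at hm'
    have hMJ' := h.le_J_of_normalizer (hJX.trans hXM) ⟨P, hP⟩ fun y hy hyn =>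
      hm' y hy (htoH e₁ he₁E hne₁ y (hMX hy)
        (hEJ _ (M.mul_mem (M.mul_mem hy he1M) (M.inv_mem hy)) (hyn e₁ he1M he1J)))
    have hge := (Subgroup.mem_normalizer_iff.1 (hXM hgX) e₁).1 he1M
    exact htoH e₁ he₁E hne₁ g hgX (hEJ _ hge (hMJ' hge))
  exfalso
  obtain ⟨m', hm'M, hm'H, hm'J⟩ := hm'
  have hm'inv : ∀ s ∈ E, m' * s * m'⁻¹ = s⁻¹ := fun s hs => by
    obtain ⟨-, hid | heq⟩ := c.dichotomy hv hva hm hm'H hmv (hXv _ (hMX hm'M)) hm1
    · exact absurd (h.mem_J_of_comm fun x hx => mul_inv_eq_iff_eq_mul.1 (hid x hx)) hm'J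
    · rw [heq s hs.2, (hKD s hs.1 hs.2).2]
  have hPE : (P : Subgroup M) = E.subgroupOf M := by
    rw [hP]
    ext x
    simp only [Subgroup.mem_subgroupOf]
    exact ⟨fun hx => hEJ _ x.2 hx, fun hx => hx.2⟩
  have hfus : ∀ y ∈ X, ∀ s ∈ E, s ≠ 1 → y * s * y⁻¹ ∈ E →
      y * s * y⁻¹ = s ∨ y * s * y⁻¹ = s⁻¹ := fun y hy s hs hs1 hys => by
    obtain ⟨-, hid | heq⟩ := c.dichotomy hv hva hm (htoH s hs hs1 y hy hys) hmv (hXv y hy) hm1
    · exact Or.inl (hid s hs.2)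
    · exact Or.inr (by rw [heq s hs.2, (hKD s hs.1 hs.2).2])
  haveI : IsSimpleGroup M := isSimple_of_minimal hXM hMne he₁E hne₁ hEM
    (fun L hLM hL1 hXL => (Subgroup.eq_of_le_of_card_ge hLM (hMc ▸
      Nat.find_le (h := hex) ⟨L, hLM.trans hMK, hL1, hXL, rfl⟩)).ge)
    (fun L hLM hL1 hML => c.le_of_normal hv hva hm hmv hm1 hXv hMX (hJX.trans hXM) hE9 inf_le_right
      hEJ hEM (fun s hs => (hKD s hs.1 hs.2).2) ⟨P, hP⟩ hMH hLM hL1 hML)
  exact c.not_simple (E := E) hm'M hEM hE9 (fun x hx y hy => h.J_comm hx.2 hy.2)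
    (fun x hx => h.J_exp hx.2) ⟨P, hPE⟩
    (fun s hs hs1 y hy hys => hEJ y hy (hcE s hs hs1 y (hMX hy) hys)) hm'inv
    (fun y hy => hfus y (hMX hy))

end TwoCtx

end CfsgLib.Hayden48
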