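import Cfsg.Agent.Hayden48.Planes
import Mathlib.Data.ZMod.Basic

/-!
# The case where `N(J)` normalizes `⟨a⟩`: the inverting involution and the action on `J`
-/

set_option autoImplicit false

namespace CfsgLib.Hayden48

open CfsgLib.HeisenbergSL (SL23 det2 upper negOne)

/-- The linear map of `V3` with given images of the first and last basis vectors, negating the
middle one. -/
def lin (u w p : V3) : V3 := p.1 • u + p.2.1 • ((0, 2, 0) : V3) + p.2.2 • w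

theorem lin_cube : ∀ u w : V3, lin u w (wmap 1 1 (1, 0, 0)) = wmap 1 1 u →
    lin u w (wmap 1 1 (0, 0, 1)) = wmap 1 1 w → ∀ p, lin u w (lin u w (lin u w p)) = -p := by
  decide +kernel

theorem wmap_type : ∀ ε q : ZMod 3, ε ≠ 0 → (∀ p, wmap ε q (wmap ε q (wmap ε q p)) = p) →
    ε = 1 ∧ (q = 0 ∨ q = 1 ∨ q = 2) := by decide +kernel

theorem wmap_one_cube : ∀ p : V3, wmap 1 1 (wmap 1 1 (wmap 1 1 p)) = p := by decide +kernel

theorem wmap_one_zero : ∀ p : V3, wmap 1 0 p = p := by decide +kernel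

theorem wmap_one_one_ne : wmap 1 1 (1, 0, 0) ≠ (1, 0, 0) := by decide +kernel

theorem wmap_flip : ∀ p : V3, wmap (-1) 0 (wmap 1 2 p) = wmap 1 1 (wmap (-1) 0 p) := by
  decide +kernel

theorem wmap_neg_a : wmap (-1) 0 (0, 2, 0) = (0, 2, 0) := by decide +kernel

theorem v3_decomp : ∀ p : V3, p = p.1 • ((1, 0, 0) : V3) + p.2.1 • ((0, 1, 0) : V3) +
    p.2.2 • ((0, 0, 1) : V3) := by decide +kernel

/-- The maps by which `H` acts. -/
def act3 (s ε q : ZMod 3) (p : V3) : V3 := s • wmap ε q p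

theorem act3_one : ∀ ε q : ZMod 3, ∀ p : V3, act3 1 ε q p = wmap ε q p := by decide +kernel

theorem act3_neg : ∀ ε q : ZMod 3, ∀ p : V3, act3 2 ε q p = -wmap ε q p := by decide +kernel

/-- A map fixes the basis. -/
def FixBasis (s ε q : ZMod 3) : Prop :=
  act3 s ε q (1, 0, 0) = (1, 0, 0) ∧ act3 s ε q (0, 1, 0) = (0, 1, 0) ∧
    act3 s ε q (0, 0, 1) = (0, 0, 1)

/-- A map squares to the identity on the basis. -/
def SqBasis (s ε q : ZMod 3) : Prop :=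
  act3 s ε q (act3 s ε q (1, 0, 0)) = (1, 0, 0) ∧ act3 s ε q (act3 s ε q (0, 1, 0)) = (0, 1, 0) ∧
    act3 s ε q (act3 s ε q (0, 0, 1)) = (0, 0, 1)

/-- Two maps agree on the basis. -/
def EqBasis (s ε q s' ε' q' : ZMod 3) : Prop :=
  act3 s' ε' q' (1, 0, 0) = act3 s ε q (1, 0, 0) ∧ act3 s' ε' q' (0, 1, 0) = act3 s ε q (0, 1, 0) ∧
    act3 s' ε' q' (0, 0, 1) = act3 s ε q (0, 0, 1)

instance (s ε q : ZMod 3) : Decidable (FixBasis s ε q) := by unfold FixBasis; infer_instance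

instance (s ε q : ZMod 3) : Decidable (SqBasis s ε q) := by unfold SqBasis; infer_instance

instance (s ε q s' ε' q' : ZMod 3) : Decidable (EqBasis s ε q s' ε' q') := by
  unfold EqBasis; infer_instance

/-- `(s, ε, q)` fixes `p` and is not the identity. -/
def Moves (p : V3) (s ε q : ZMod 3) : Prop :=
  s ≠ 0 ∧ ε ≠ 0 ∧ act3 s ε q p = p ∧ ¬ FixBasis s ε q

instance (p : V3) (s ε q : ZMod 3) : Decidable (Moves p s ε q) := by unfold Moves; infer_instance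

theorem stab_sq : ∀ p : V3, (p.1 ≠ 0 ∨ p.2.2 ≠ 0) → ∀ s ε q : ZMod 3, Moves p s ε q →
    SqBasis s ε q := by decide +kernel

theorem stab_uniq : ∀ p : V3, (p.1 ≠ 0 ∨ p.2.2 ≠ 0) → ∀ s ε q : ZMod 3, Moves p s ε q →
    ∀ s' ε' q' : ZMod 3, Moves p s' ε' q' → EqBasis s ε q s' ε' q' := by decide +kernel

/-- Additive maps of `V3` agreeing on the basis are equal. -/
theorem ext_basis {f g : V3 → V3} (hf : ∀ p r, f (p + r) = f p + f r)
    (hg : ∀ p r, g (p + r) = g p + g r) (h1 : f (1, 0, 0) = g (1, 0, 0))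
    (h2 : f (0, 1, 0) = g (0, 1, 0)) (h3 : f (0, 0, 1) = g (0, 0, 1)) (p : V3) : f p = g p := by
  have e : ∀ φ : V3 → V3, (∀ p r, φ (p + r) = φ p + φ r) →
      φ p = p.1 • φ (1, 0, 0) + p.2.1 • φ (0, 1, 0) + p.2.2 • φ (0, 0, 1) := by
    intro φ hφ
    conv_lhs => rw [v3_decomp p]
    show AddMonoidHom.mk' φ hφ _ = _
    rw [map_add, map_add, ZMod.map_smul, ZMod.map_smul, ZMod.map_smul]
    rfl
  rw [e f hf, e g hg, h1, h2, h3]

variable {G : Type*} [Group G] [Finite G]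

/-- The data of the case: an involution inverting `J`, and `N(J) ≤ N(⟨a⟩)`. -/
structure TwoCtx (h : Hyp G) where
  i : G
  i_sq : i * i = 1
  i_inv : ∀ x ∈ h.J, i * x * i⁻¹ = x⁻¹
  hO : ∀ g ∈ h.H, g * h.a * g⁻¹ = h.a ∨ g * h.a * g⁻¹ = h.a⁻¹

theorem Hyp.exists_twoCtx (h : Hyp G)
    (hO : ∀ g ∈ h.H, g * h.a * g⁻¹ = h.a ∨ g * h.a * g⁻¹ = h.a⁻¹)
    (hr : ∃ g, g * h.a * g⁻¹ = h.a⁻¹) : Nonempty (TwoCtx h) := by
  have ha2 : h.a⁻¹ = h.jj (0, 2, 0) := by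
    rw [← h.jj_a, h.jj_inv]
    rfl
  obtain ⟨g, hg⟩ := hr
  obtain ⟨n₀, hn₀, e₀⟩ := h.fusion h.a_mem (g := g) (hg ▸ h.J.inv_mem h.a_mem)
  rw [hg] at e₀
  obtain ⟨n, hn, hna, hny⟩ : ∃ n ∈ h.H, n * h.a * n⁻¹ = h.a⁻¹ ∧
      ∀ p, n * h.y * n⁻¹ * h.jj p * (n * h.y * n⁻¹)⁻¹ = h.jj (wmap 1 1 p) := by
    have hc : n₀ * h.y * n₀⁻¹ * h.a = h.a * (n₀ * h.y * n₀⁻¹) := by
      have h1 : Commute (n₀ * h.y * n₀⁻¹) (n₀ * h.a * n₀⁻¹) := (Commute.conj_iff n₀).2 h.y_comm_a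
      rw [e₀] at h1
      exact Commute.inv_right_iff.1 h1
    obtain ⟨v, z, ε, β, hε, hP⟩ := h.exists_borel
      (h.H.mul_mem (h.H.mul_mem hn₀ h.y_mem_H) (h.H.inv_mem hn₀)) hc
    have hact : ∀ p, n₀ * h.y * n₀⁻¹ * h.jj p * (n₀ * h.y * n₀⁻¹)⁻¹ = h.jj (wmap ε (v 1) p) :=
      fun p => by rw [hP, h.P_conj v z ε β hε]
    obtain ⟨f, hf, -, finj⟩ := h.exists_act hn₀
    have hcomm : ∀ p, wmap ε (v 1) (f p) = f (wmap 1 1 p) := fun p => h.jj_inj (by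
      rw [← hact, ← hf, ← hf, ← h.y_conj]
      group)
    have hsurj : Function.Surjective f := Finite.surjective_of_injective finj
    obtain ⟨hε1, hq⟩ := wmap_type ε (v 1) hε fun p => by
      obtain ⟨r, rfl⟩ := hsurj p
      rw [hcomm, hcomm, hcomm, wmap_one_cube]
    subst hε1
    rcases hq with hq | hq | hq <;> rw [hq] at hact hcomm
    · exfalso
      have := hcomm (1, 0, 0)
      rw [wmap_one_zero] at this
      exact wmap_one_one_ne (finj this).symm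
    · exact ⟨n₀, hn₀, e₀, hact⟩
    · refine ⟨h.t * n₀, h.H.mul_mem h.t_mem_H hn₀, ?_, fun p => ?_⟩
      · rw [mul_inv_rev, show h.t * n₀ * h.a * (n₀⁻¹ * h.t⁻¹) = h.t * (n₀ * h.a * n₀⁻¹) * h.t⁻¹ by
          group, e₀, ha2, h.t_conj, wmap_neg_a]
      · have ht : h.t⁻¹ = h.t := inv_eq_of_mul_eq_one_right h.t_sq
        rw [show h.t * n₀ * h.y * (h.t * n₀)⁻¹ * h.jj p * (h.t * n₀ * h.y * (h.t * n₀)⁻¹)⁻¹ =
          h.t * (n₀ * h.y * n₀⁻¹ * (h.t⁻¹ * h.jj p * h.t) * (n₀ * h.y * n₀⁻¹)⁻¹) * h.t⁻¹ by group]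
        rw [show h.t⁻¹ * h.jj p * h.t = h.t * h.jj p * h.t⁻¹ by rw [ht], h.t_conj, hact, h.t_conj,
          wmap_flip]
        congr 1
        congr 1
        exact (show ∀ p : V3, wmap (-1) 0 (wmap (-1) 0 p) = p by decide +kernel) p
  obtain ⟨f, hf, fadd, -⟩ := h.exists_act hn
  have hfa : f (0, 1, 0) = (0, 2, 0) := h.jj_inj (by rw [← hf, h.jj_a, hna, ha2])
  have hlin : ∀ p, f p = lin (f (1, 0, 0)) (f (0, 0, 1)) p := fun p => by
    conv_lhs => rw [v3_decomp p]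
    show AddMonoidHom.mk' f fadd _ = _
    rw [map_add, map_add, ZMod.map_smul, ZMod.map_smul, ZMod.map_smul]
    show p.1 • f (1, 0, 0) + p.2.1 • f (0, 1, 0) + p.2.2 • f (0, 0, 1) = _
    rw [hfa]
    rfl
  have hcomm : ∀ p, f (wmap 1 1 p) = wmap 1 1 (f p) := fun p => h.jj_inj (by
    rw [← hny, ← hf, ← hf, ← h.y_conj]
    group)
  have h3 := lin_cube _ _ (by rw [← hlin, hcomm]) (by rw [← hlin, hcomm])
  set i := n * n * n with hi
  have hiact : ∀ p, i * h.jj p * i⁻¹ = h.jj (-p) := fun p => by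
    rw [show i * h.jj p * i⁻¹ = n * (n * (n * h.jj p * n⁻¹) * n⁻¹) * n⁻¹ by rw [hi]; group,
      hf, hf, hf]
    rw [hlin (f (f p)), hlin (f p), hlin p, h3]
  have hiinv : ∀ x ∈ h.J, i * x * i⁻¹ = x⁻¹ := fun x hx => by
    obtain ⟨p, rfl⟩ := h.exists_jj hx
    rw [hiact, h.jj_inv]
  have hi2 : i * i ∈ h.J := h.mem_J_of_fix fun p => by
    rw [show i * i * h.jj p * (i * i)⁻¹ = i * (i * h.jj p * i⁻¹) * i⁻¹ by group, hiact, hiact, neg_neg]
  refine ⟨i, ?_, hiinv, hO⟩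
  have e1 := hiinv _ hi2
  rw [show i * (i * i) * i⁻¹ = i * i by group] at e1
  have e2 := h.J_exp hi2
  rw [pow_succ, pow_two] at e2
  nth_rewrite 1 [e1] at e2
  rw [inv_mul_cancel, one_mul] at e2
  exact e2

namespace TwoCtx

variable {h : Hyp G} (c : TwoCtx h)
include c

theorem i_a : c.i * h.a * c.i⁻¹ = h.a⁻¹ := c.i_inv _ h.a_mem

theorem i_mem_H : c.i ∈ h.H :=
  h.mem_H_of_conj fun x hx => by rw [c.i_inv x hx]; exact h.J.inv_mem hx

/-- Elements of `N(⟨a⟩)`. -/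
theorem conj_a_cases {g : G} (hg : g ∈ Subgroup.normalizer (Subgroup.zpowers h.a : Set G)) :
    g * h.a = h.a * g ∨ (c.i * g) * h.a = h.a * (c.i * g) := by
  rcases PSpAmalgam84.zpowers_three h.orderOf_a
    ((Subgroup.mem_normalizer_iff.1 hg h.a).1 (Subgroup.mem_zpowers _)) with e | e | e
  · exfalso
    have := h.orderOf_a
    rw [conj_eq_one_iff.1 e, orderOf_one] at this
    norm_num at this
  · exact Or.inl (mul_inv_eq_iff_eq_mul.1 e)
  · refine Or.inr (mul_inv_eq_iff_eq_mul.1 ?_)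
    rw [show c.i * g * h.a * (c.i * g)⁻¹ = c.i * (g * h.a * g⁻¹) * c.i⁻¹ by group, e, ← conj_inv,
      c.i_a, inv_inv]

theorem H_le_N : h.H ≤ Subgroup.normalizer (Subgroup.zpowers h.a : Set G) := fun g hg => by
  refine Subgroup.mem_normalizer_fintype fun x hx => ?_
  obtain ⟨k, rfl⟩ := Subgroup.mem_zpowers_iff.1 hx
  rw [← conj_zpow]
  rcases c.hO g hg with e | e <;> rw [e]
  · exact zpow_mem (Subgroup.mem_zpowers _) k
  · exact zpow_mem (inv_mem (Subgroup.mem_zpowers _)) k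

/-- The action of `H` on the coordinates of `J`. -/
theorem exists_act3 {g : G} (hg : g ∈ h.H) :
    ∃ s ε q : ZMod 3, s ≠ 0 ∧ ε ≠ 0 ∧ ∀ p, g * h.jj p * g⁻¹ = h.jj (act3 s ε q p) := by
  rcases c.conj_a_cases (c.H_le_N hg) with e | e
  · obtain ⟨v, z, ε, β, hε, rfl⟩ := h.exists_borel hg e
    exact ⟨1, ε, v 1, one_ne_zero, hε, fun p => by rw [act3_one, h.P_conj v z ε β hε]⟩
  · obtain ⟨v, z, ε, β, hε, hP⟩ := h.exists_borel (h.H.mul_mem c.i_mem_H hg) e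
    refine ⟨2, ε, v 1, by decide, hε, fun p => ?_⟩
    rw [act3_neg, ← h.jj_inv, ← c.i_inv _ (h.jj_mem _), ← h.P_conj v z ε β hε p, ← hP]
    have hi : c.i⁻¹ = c.i := inv_eq_of_mul_eq_one_right c.i_sq
    rw [mul_inv_rev, hi]
    calc g * h.jj p * g⁻¹ = (c.i * c.i) * g * h.jj p * g⁻¹ * (c.i * c.i) := by
          rw [c.i_sq, one_mul, mul_one]
      _ = c.i * (c.i * g * h.jj p * (g⁻¹ * c.i)) * c.i := by group

/-- An element of `H` fixing a point off `⟨a⟩` centralizes `J` or acts as a fixed involution. -/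
theorem dichotomy {v m y : G} (hv : v ∈ h.J) (hva : v ∉ Subgroup.zpowers h.a) (hm : m ∈ h.H)
    (hy : y ∈ h.H) (hmv : m * v = v * m) (hyv : y * v = v * y) (hm1 : m ∉ h.J) :
    (∀ x ∈ h.J, m * (m * x * m⁻¹) * m⁻¹ = x) ∧
      ((∀ x ∈ h.J, y * x * y⁻¹ = x) ∨ ∀ x ∈ h.J, y * x * y⁻¹ = m * x * m⁻¹) := by
  obtain ⟨p, rfl⟩ := h.exists_jj hv
  have hp : p.1 ≠ 0 ∨ p.2.2 ≠ 0 := by
    by_contra hne
    push Not at hne
    exact hva (h.jj_mem_za hne.1 hne.2)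
  obtain ⟨s, ε, q, hs, hε, hf⟩ := c.exists_act3 hm
  obtain ⟨f, hf0, fadd, -⟩ := h.exists_act hm
  have hff : ∀ r, f r = act3 s ε q r := fun r => h.jj_inj ((hf0 r).symm.trans (hf r))
  obtain ⟨s', ε', q', hs', hε', hg⟩ := c.exists_act3 hy
  obtain ⟨φ, hφ0, φadd, -⟩ := h.exists_act hy
  have hφφ : ∀ r, φ r = act3 s' ε' q' r := fun r => h.jj_inj ((hφ0 r).symm.trans (hg r))
  have ifix : act3 s ε q p = p := h.jj_inj (by rw [← hf, hmv, mul_inv_cancel_right])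
  have ifix' : act3 s' ε' q' p = p := h.jj_inj (by rw [← hg, hyv, mul_inv_cancel_right])
  have hne : ∀ {g : G} {φ : V3 → V3}, (∀ r, g * h.jj r * g⁻¹ = h.jj (φ r)) →
      (∀ r r', φ (r + r') = φ r + φ r') → φ (1, 0, 0) = (1, 0, 0) → φ (0, 1, 0) = (0, 1, 0) →
      φ (0, 0, 1) = (0, 0, 1) → ∀ x ∈ h.J, g * x * g⁻¹ = x := by
    intro g φ hφ hadd e1 e2 e3 x hx
    obtain ⟨r, rfl⟩ := h.exists_jj hx
    rw [hφ, ext_basis hadd (g := id) (fun _ _ => rfl) e1 e2 e3 r]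
    rfl
  have hm' : Moves p s ε q := by
    refine ⟨hs, hε, ifix, fun hcon => ?_⟩
    unfold FixBasis at hcon
    rw [← hff, ← hff, ← hff] at hcon
    exact hm1 (h.mem_J_of_comm fun x hx =>
      mul_inv_eq_iff_eq_mul.1 (hne hf0 fadd hcon.1 hcon.2.1 hcon.2.2 x hx))
  obtain ⟨i1, i2, i3⟩ := stab_sq p hp s ε q hm'
  refine ⟨fun x hx => ?_, ?_⟩
  · obtain ⟨r, rfl⟩ := h.exists_jj hx
    rw [hf0, hf0]
    simp only [← hff] at i1 i2 i3
    rw [ext_basis (f := fun r => f (f r)) (g := id) (fun a b => by simp only [fadd]) (fun _ _ => rfl)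
      i1 i2 i3 r]
    rfl
  by_cases hy1 : φ (1, 0, 0) = (1, 0, 0) ∧ φ (0, 1, 0) = (0, 1, 0) ∧ φ (0, 0, 1) = (0, 0, 1)
  · exact Or.inl (hne hφ0 φadd hy1.1 hy1.2.1 hy1.2.2)
  · right
    intro x hx
    obtain ⟨r, rfl⟩ := h.exists_jj hx
    obtain ⟨u1, u2, u3⟩ := stab_uniq p hp s ε q hm' s' ε' q' ⟨hs', hε', ifix', fun hcon => by
      unfold FixBasis at hcon
      rw [← hφφ, ← hφφ, ← hφφ] at hcon
      exact hy1 hcon⟩
    simp only [← hff, ← hφφ] at u1 u2 u3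
    rw [hφ0, hf0, ext_basis φadd fadd u1 u2 u3 r]

end TwoCtx

end CfsgLib.Hayden48
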