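import Cfsg.Agent.Hayden48.TwoLocal
import Cfsg.Agent.Inv53.TransferTwo
import Cfsg.Agent.PSpAmalgam84.Basic

/-!
# A Sylow 2-subgroup, and a subgroup of index two
-/

set_option autoImplicit false

namespace CfsgLib.Hayden48

open Matrix
open CfsgLib.HeisenbergSL (SL23 det2 upper negOne lower)

theorem v2_thrice : ∀ u : Fin 2 → ZMod 3, u + (u + u) = 0 := by decide +kernel

theorem v2_thrice' : ∀ u : Fin 2 → ZMod 3, u * 3 = 0 := by decide +kernel

theorem z_neg_self : ∀ z : ZMod 3, -z = z → z = 0 := by decide +kernel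

theorem card_ge_of_sylow_dvd {X : Type*} [Group X] [Finite X] {p k : ℕ} [Fact p.Prime]
    (P : Sylow p X) (h : p ^ k ∣ Nat.card X) : p ^ k ∣ Nat.card (P : Subgroup X) := by
  rw [P.card_eq_multiplicity]
  exact pow_dvd_pow p ((Fact.out : p.Prime).pow_dvd_iff_le_factorization Nat.card_pos.ne' |>.1 h)

namespace TwoCtx

variable {G : Type*} [Group G] [Finite G] {h : Hyp G} (c : TwoCtx h)
include c

theorem i_not_comm : ¬ c.i * h.a = h.a * c.i := fun e => by
  have h1 := c.i_a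
  rw [e, mul_inv_cancel_right] at h1
  exact PSpAmalgam84.inv_ne_self h.orderOf_a h1.symm

/-- Elements of `N` centralize or invert `a`. -/
theorem N_cases {g : G} (hg : g ∈ c.N) : g * h.a * g⁻¹ = h.a ∨ g * h.a * g⁻¹ = h.a⁻¹ := by
  rcases c.conj_a_cases hg with e | e
  · exact Or.inl (by rw [e, mul_inv_cancel_right])
  · refine Or.inr ?_
    have hi : c.i⁻¹ = c.i := inv_eq_of_mul_eq_one_right c.i_sq
    have h1 : c.i * g * h.a * (c.i * g)⁻¹ = h.a := by rw [e, mul_inv_cancel_right]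
    calc g * h.a * g⁻¹ = c.i⁻¹ * (c.i * g * h.a * (c.i * g)⁻¹) * c.i := by group
      _ = c.i * h.a * c.i⁻¹ := by rw [h1, hi]
      _ = h.a⁻¹ := c.i_a

theorem card_cent : Nat.card (Subgroup.centralizer ({h.a} : Set G)) = 648 := by
  rw [← Nat.card_congr (Equiv.ofBijective
    (fun p : (Fin 2 → ZMod 3) × ZMod 3 × SL23 =>
      (⟨h.P p.1 p.2.1 p.2.2, Subgroup.mem_centralizer_singleton_iff.2 (h.P_comm_a _ _ _)⟩ :
        Subgroup.centralizer ({h.a} : Set G)))
    ⟨fun p r e => by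
      obtain ⟨h1, h2, h3⟩ := h.inj _ _ _ _ _ _ (congrArg Subtype.val e)
      exact Prod.ext h1 (Prod.ext h2 h3),
     fun g => by
      obtain ⟨v, z, A, e⟩ := (h.mem_cent g).1 (Subgroup.mem_centralizer_singleton_iff.1 g.2)
      exact ⟨(v, z, A), Subtype.ext e⟩⟩)]
  rw [Nat.card_prod, Nat.card_prod, HeisenbergSL.card_SL23]
  simp

/-- The product of two elements of `N` inverting `a` centralizes it. -/
theorem mul_comm_a {g k : G} (hg : g * h.a * g⁻¹ = h.a⁻¹) (hk : k * h.a * k⁻¹ = h.a⁻¹) :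
    g * k * h.a = h.a * (g * k) := by
  refine mul_inv_eq_iff_eq_mul.1 ?_
  rw [show g * k * h.a * (g * k)⁻¹ = g * (k * h.a * k⁻¹) * g⁻¹ by group, hk, ← conj_inv, hg, inv_inv]

theorem card_N : Nat.card c.N = 1296 := by
  set C := Subgroup.centralizer ({h.a} : Set G) with hC
  have hle : C ≤ c.N := fun g hg => c.cent_a_le_N (Subgroup.mem_centralizer_singleton_iff.1 hg)
  have hidx : (C.subgroupOf c.N).index = 2 := by
    rw [Subgroup.index_eq_two_iff_exists_notMem_and]
    refine ⟨⟨c.i, c.i_mem_N⟩, fun hm => c.i_not_comm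
      (Subgroup.mem_centralizer_singleton_iff.1 (Subgroup.mem_subgroupOf.1 hm)), fun b => ?_⟩
    rcases c.N_cases b.2 with e | e
    · exact Or.inr (Subgroup.mem_subgroupOf.2
        (Subgroup.mem_centralizer_singleton_iff.2 (mul_inv_eq_iff_eq_mul.1 e)))
    · exact Or.inl (Subgroup.mem_subgroupOf.2
        (Subgroup.mem_centralizer_singleton_iff.2 (c.mul_comm_a e c.i_a)))
  have h1 := Subgroup.card_mul_index (C.subgroupOf c.N)
  rw [hidx, Nat.card_congr (Subgroup.subgroupOfEquivOfLe hle).toEquiv, c.card_cent] at h1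
  omega

theorem conj_comm_a {n g : G} (hn : n ∈ c.N) (hg : g * h.a = h.a * g) :
    n * g * n⁻¹ * h.a = h.a * (n * g * n⁻¹) := by
  have h1 : Commute (n * g * n⁻¹) (n * h.a * n⁻¹) := (Commute.conj_iff n).2 hg
  rcases c.N_cases hn with e | e <;> rw [e] at h1
  · exact h1
  · exact Commute.inv_right_iff.1 h1

/-- A Sylow 2-subgroup `T` of `G` with `T ∩ C = Q`, and an involution of `T` inverting `a`. -/
theorem exists_T : ∃ (T : Sylow 2 G) (u : G), h.Q ≤ (T : Subgroup G) ∧
    (∀ g ∈ (T : Subgroup G), g * h.a = h.a * g → g ∈ h.Q) ∧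
    Nat.card (T : Subgroup G) = 16 ∧ (∀ g ∈ (T : Subgroup G), g ∈ c.N) ∧
    u ∈ (T : Subgroup G) ∧ u * u = 1 ∧ u * h.a * u⁻¹ = h.a⁻¹ ∧ u * h.t = h.t * u := by
  haveI : Fact (Nat.Prime 2) := ⟨Nat.prime_two⟩
  set C := Subgroup.centralizer ({h.a} : Set G) with hC
  have hQC : h.Q ≤ C := fun g hg => Subgroup.mem_centralizer_singleton_iff.2 (h.Q_comm_a hg)
  have hQN : h.Q ≤ c.N := fun g hg => c.cent_a_le_N (h.Q_comm_a hg)
  have hQp : IsPGroup 2 h.Q := IsPGroup.of_card (n := 3) (by rw [h.card_Q]; norm_num)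
  obtain ⟨T₀, hT₀⟩ := (hQp.comap_subtype (K := c.N)).exists_le_sylow
  have hT₀c : Nat.card (T₀ : Subgroup c.N) = 16 :=
    (Small.card_sylow_eq (k := 4) (m := 81) (by rw [c.card_N]; norm_num) (by norm_num) T₀).trans
      (by norm_num)
  set T := (T₀ : Subgroup c.N).map c.N.subtype with hT
  have hTN : T ≤ c.N := Subgroup.map_subtype_le _
  have hQT : h.Q ≤ T := fun q hq => ⟨⟨q, hQN hq⟩, hT₀ hq, rfl⟩
  have hTc : Nat.card T = 16 := by
    rw [hT, Subgroup.card_map_of_injective c.N.subtype_injective, hT₀c]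
  have hTC : T ⊓ C = h.Q := by
    refine (Subgroup.eq_of_le_of_card_ge (le_inf hQT hQC) ?_).symm
    rw [h.card_Q]
    have h1 := Subgroup.card_dvd_of_le (inf_le_left : T ⊓ C ≤ T)
    have h2 := Subgroup.card_dvd_of_le (inf_le_right : T ⊓ C ≤ C)
    rw [hTc] at h1
    rw [c.card_cent] at h2
    have := Nat.le_of_dvd (by norm_num) (Nat.dvd_gcd h1 h2)
    exact this.trans (by decide)
  have hTQ : ∀ g ∈ T, g * h.a = h.a * g → g ∈ h.Q := fun g hg e =>
    hTC.le ⟨hg, Subgroup.mem_centralizer_singleton_iff.2 e⟩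
  -- `t` is central in `T`
  have htT : ∀ g ∈ T, g * h.t = h.t * g := by
    intro g hg
    have hm : g * h.t * g⁻¹ ∈ h.Q := hTQ _ (T.mul_mem (T.mul_mem hg (hQT h.t_mem_Q)) (T.inv_mem hg))
      (c.conj_comm_a (hTN hg) h.t_comm_a)
    rcases h.Q_invol hm (by rw [conj_mul, h.t_sq, mul_one, mul_inv_cancel]) with e | e
    · exfalso
      have := h.inj _ _ _ _ _ _ ((conj_eq_one_iff.1 e).trans h.P_one.symm)
      exact absurd this.2.2 (by decide +kernel)
    · exact mul_inv_eq_iff_eq_mul.1 e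
  -- elements of order four of `T` lie in `Q`
  have hfour : ∀ g ∈ T, g ^ 4 = 1 → g ^ 2 ≠ 1 → g ∈ h.Q := by
    intro g hg h4 h2
    rcases c.N_cases (hTN hg) with e | e
    · exact hTQ g hg (mul_inv_eq_iff_eq_mul.1 e)
    exfalso
    have hgg : g * g = h.t := by
      refine (h.Q_invol (hTQ _ (T.mul_mem hg hg) (c.mul_comm_a e e)) ?_).resolve_left fun e0 =>
        h2 (by rw [pow_two, e0])
      rw [← h4]
      simp only [pow_succ, pow_zero, one_mul, mul_assoc]
    obtain ⟨l, hd, hl⟩ := c.exists_L e (htT g hg)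
    have ll : l * l = -1 := by
      refine Matrix.ext_of_mulVec_single fun i => ?_
      set w := Pi.single (M := fun _ : Fin 2 => ZMod 3) i 1
      have e1 : g * g * h.P w 0 1 * (g * g)⁻¹ = h.P (l *ᵥ (l *ᵥ w)) 0 1 := by
        rw [show g * g * h.P w 0 1 * (g * g)⁻¹ = g * (g * h.P w 0 1 * g⁻¹) * g⁻¹ by group, hl, hl,
          neg_zero, neg_zero]
      rw [hgg, inv_eq_of_mul_eq_one_right h.t_sq, h.t_conj_R] at e1
      rw [← Matrix.mulVec_mulVec, Matrix.neg_mulVec, Matrix.one_mulVec]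
      exact (h.inj _ _ _ _ _ _ e1).1.symm
    rw [Matrix.eta_fin_two l] at ll
    exact no_four _ _ _ _ hd ll
  -- `T` is a Sylow subgroup of `G`
  have hnorm : Subgroup.normalizer (T : Set G) ≤ c.N := fun g hg => by
    refine c.norm_Q_le_N (Subgroup.mem_normalizer_fintype fun q hq => ?_)
    have hgen : ∀ q ∈ h.Q, q ^ 2 ≠ 1 → g * q * g⁻¹ ∈ h.Q := fun q hq h2 =>
      hfour _ ((Subgroup.mem_normalizer_iff.1 hg q).1 (hQT hq))
        (by rw [conj_pow, h.Q_pow_four hq, mul_one, mul_inv_cancel])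
        (by rw [conj_pow]; exact fun e => h2 (conj_eq_one_iff.1 e))
    by_cases h2 : q ^ 2 = 1
    · rcases h.Q_invol hq (by rw [← pow_two, h2]) with rfl | rfl
      · simp [h.Q.one_mem]
      · have hI : h.P 0 0 quatI ∈ h.Q := ⟨_, isQ_quatI, rfl⟩
        have hII : h.P 0 0 quatI ^ 2 = h.t := by
          rw [pow_two, h.mul, Hyp.t, show quatI * quatI = negOne by decide +kernel]
          simp [det2]
        have hne : h.P 0 0 quatI ^ 2 ≠ 1 := by
          rw [hII, Hyp.t, ← h.P_one]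
          exact fun e => absurd (h.inj _ _ _ _ _ _ e).2.2 (by decide +kernel)
        rw [← hII, ← conj_pow]
        exact h.Q.pow_mem (hgen _ hI hne) 2
    · exact hgen q hq h2
  obtain ⟨TG, hTG⟩ : ∃ TG : Sylow 2 G, (TG : Subgroup G) = T := by
    have hp : IsPGroup 2 T := IsPGroup.of_card (n := 4) (by rw [hTc]; norm_num)
    obtain ⟨TG, hle⟩ := hp.exists_le_sylow
    refine ⟨TG, (Subgroup.eq_of_le_of_card_ge hle ?_).symm⟩
    rw [hTc]
    obtain ⟨k, hk⟩ := IsPGroup.iff_card.1 TG.isPGroup'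
    by_contra hlt
    push Not at hlt
    have hk5 : 5 ≤ k := by
      by_contra hk4
      have := Nat.pow_le_pow_right (show 2 > 0 by norm_num) (show k ≤ 4 by omega)
      omega
    have hd : 2 ^ (4 + 1) ∣ Nat.card G :=
      (pow_dvd_pow 2 hk5).trans (hk ▸ Subgroup.card_subgroup_dvd_card _)
    have h1 := (Sylow.prime_pow_dvd_card_normalizer hd (H := T) (by rw [hTc]; norm_num)).trans
      (Subgroup.card_dvd_of_le hnorm)
    rw [c.card_N] at h1
    norm_num at h1
  -- an involution of `T` outside `C`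
  obtain ⟨U, hU⟩ := (IsPGroup.of_card (p := 2) (n := 1)
    (show Nat.card (Subgroup.zpowers (⟨c.i, c.i_mem_N⟩ : c.N)) = 2 ^ 1 by
      rw [Nat.card_zpowers, Subgroup.orderOf_mk, pow_one]
      refine orderOf_eq_prime (by rw [pow_two, c.i_sq]) fun e => c.i_not_comm ?_
      rw [e, one_mul, mul_one])).exists_le_sylow
  obtain ⟨n, hn⟩ := MulAction.exists_smul_eq c.N U T₀
  have hm : MulAut.conj n • (⟨c.i, c.i_mem_N⟩ : c.N) ∈ ((n • U : Sylow 2 c.N) : Subgroup c.N) :=
    Subgroup.smul_mem_pointwise_smul _ _ _ (hU (Subgroup.mem_zpowers _))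
  rw [hn] at hm
  set u := (n : G) * c.i * (n : G)⁻¹ with hu
  have huT : u ∈ T := ⟨_, hm, rfl⟩
  have hua : u * h.a * u⁻¹ = h.a⁻¹ := by
    refine (c.N_cases (hTN huT)).resolve_left fun e => c.i_not_comm ?_
    have := c.conj_comm_a (c.N.inv_mem n.2) (mul_inv_eq_iff_eq_mul.1 e)
    rwa [show (n : G)⁻¹ * u * (n : G)⁻¹⁻¹ = c.i by rw [hu]; group] at this
  refine ⟨TG, u, ?_, ?_, ?_, ?_, ?_, ?_, hua, htT u huT⟩
  · rw [hTG]; exact hQT
  · rw [hTG]; exact hTQ
  · rw [hTG]; exact hTc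
  · rw [hTG]; exact fun g hg => hTN hg
  · rw [hTG]; exact huT
  · rw [hu, conj_mul, c.i_sq, mul_one, mul_inv_cancel]

/-- An involution inverting `a` and commuting with `t` is not conjugate to `t`. -/
theorem not_conj_t {u : G} (hua : u * h.a * u⁻¹ = h.a⁻¹) (hu2 : u * u = 1)
    (hut : u * h.t = h.t * u) (g : G) : g * u * g⁻¹ ≠ h.t := by
  intro hg
  haveI : Fact (Nat.Prime 3) := ⟨Nat.prime_three⟩
  obtain ⟨l, hd, hl⟩ := c.exists_L hua hut
  have hll : l * l = 1 := by
    refine Matrix.ext_of_mulVec_single fun i => ?_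
    set w := Pi.single (M := fun _ : Fin 2 => ZMod 3) i 1
    have e1 : u * u * h.P w 0 1 * (u * u)⁻¹ = h.P (l *ᵥ (l *ᵥ w)) 0 1 := by
      rw [show u * u * h.P w 0 1 * (u * u)⁻¹ = u * (u * h.P w 0 1 * u⁻¹) * u⁻¹ by group, hl, hl,
        neg_zero, neg_zero]
    rw [hu2, one_mul, inv_one, mul_one] at e1
    rw [← Matrix.mulVec_mulVec, Matrix.one_mulVec]
    exact (h.inj _ _ _ _ _ _ e1).1.symm
  -- a fixed point
  obtain ⟨w, hw0, hw⟩ : ∃ w : Fin 2 → ZMod 3, w ≠ 0 ∧ l *ᵥ w = w := by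
    have e00 : l 0 0 * l 0 0 + l 0 1 * l 1 0 = 1 := by
      simpa [Matrix.mul_apply, Fin.sum_univ_two] using congrFun (congrFun hll 0) 0
    have e01 : l 0 0 * l 0 1 + l 0 1 * l 1 1 = 0 := by
      simpa [Matrix.mul_apply, Fin.sum_univ_two] using congrFun (congrFun hll 0) 1
    have e10 : l 1 0 * l 0 0 + l 1 1 * l 1 0 = 0 := by
      simpa [Matrix.mul_apply, Fin.sum_univ_two] using congrFun (congrFun hll 1) 0
    have e11 : l 1 0 * l 0 1 + l 1 1 * l 1 1 = 1 := by
      simpa [Matrix.mul_apply, Fin.sum_univ_two] using congrFun (congrFun hll 1) 1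
    obtain ⟨x, y, hne, h1, h2⟩ := fix_point (l 0 0) (l 0 1) (l 1 0) (l 1 1)
      ⟨hd, e00, by linear_combination e01, by linear_combination e10, by linear_combination e11⟩
    refine ⟨![x, y], fun e => ?_, ?_⟩
    · rcases hne with hne | hne
      · exact hne (congrFun e 0)
      · exact hne (congrFun e 1)
    · ext i
      fin_cases i <;> simp [Matrix.mulVec, dotProduct, h1, h2]
  set x := h.P w 0 1 with hx
  have hux : u * x = x * u := mul_inv_eq_iff_eq_mul.1 (by rw [hx, hl, hw, neg_zero])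
  have hx3 : x ^ 3 = 1 := by
    rw [hx, pow_succ', pow_two, h.mul, h.mul, ← h.P_one]
    simp [det2, v2_thrice w]
    ring
  have hx1 : x ≠ 1 := fun e => hw0 (h.inj _ _ _ _ _ _ (e.trans h.P_one.symm)).1
  -- a Sylow 3-subgroup of `C(u)` containing `x`
  set X := Subgroup.centralizer ({u} : Set G) with hX
  have hxX : x ∈ X := Subgroup.mem_centralizer_singleton_iff.2 hux.symm
  obtain ⟨T, hT⟩ := (IsPGroup.of_card (p := 3) (n := 1)
    (show Nat.card (Subgroup.zpowers (⟨x, hxX⟩ : X)) = 3 ^ 1 by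
      rw [Nat.card_zpowers, Subgroup.orderOf_mk, pow_one]
      exact orderOf_eq_prime hx3 hx1)).exists_le_sylow
  have hTN : ∀ y ∈ (T : Subgroup X), (y : G) ∈ c.N := fun y hy =>
    c.threeGroup_le_N (T.isPGroup'.map X.subtype) (x := x)
      ⟨⟨x, hxX⟩, hT (Subgroup.mem_zpowers _), rfl⟩ (c.cent_a_le_N (h.P_comm_a _ _ _)) hx3 hx1
      ⟨y, hy, rfl⟩
  -- its order is at least nine
  have h9 : 3 ^ 2 ∣ Nat.card X := by
    let ψ : ZMod 3 × ZMod 3 → X := fun p => ⟨g⁻¹ * h.jj (0, p.1, p.2) * g,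
      Subgroup.mem_centralizer_singleton_iff.2 (by
        have ht : h.t * h.jj (0, p.1, p.2) = h.jj (0, p.1, p.2) * h.t :=
          mul_inv_eq_iff_eq_mul.1 (by rw [h.t_conj]; congr 1; simp [wmap])
        calc g⁻¹ * h.jj (0, p.1, p.2) * g * u
            = g⁻¹ * (h.jj (0, p.1, p.2) * (g * u * g⁻¹)) * g := by group
          _ = g⁻¹ * (h.t * h.jj (0, p.1, p.2)) * g := by rw [hg, ht]
          _ = g⁻¹ * ((g * u * g⁻¹) * h.jj (0, p.1, p.2)) * g := by rw [hg]
          _ = u * (g⁻¹ * h.jj (0, p.1, p.2) * g) := by group)⟩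
    let K : Subgroup X :=
      { carrier := Set.range ψ
        one_mem' := ⟨0, Subtype.ext (by
          show g⁻¹ * h.jj (0, 0, 0) * g = 1
          rw [show ((0, 0, 0) : V3) = 0 from rfl, h.jj_zero, mul_one, inv_mul_cancel])⟩
        mul_mem' := by
          rintro _ _ ⟨p, rfl⟩ ⟨r, rfl⟩
          refine ⟨p + r, Subtype.ext ?_⟩
          show g⁻¹ * h.jj (0, p.1 + r.1, p.2 + r.2) * g =
            g⁻¹ * h.jj (0, p.1, p.2) * g * (g⁻¹ * h.jj (0, r.1, r.2) * g)
          rw [show g⁻¹ * h.jj (0, p.1, p.2) * g * (g⁻¹ * h.jj (0, r.1, r.2) * g) =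
            g⁻¹ * (h.jj (0, p.1, p.2) * h.jj (0, r.1, r.2)) * g by group, h.jj_mul]
          simp only [Prod.mk_add_mk, add_zero]
        inv_mem' := by
          rintro _ ⟨p, rfl⟩
          refine ⟨-p, Subtype.ext ?_⟩
          show g⁻¹ * h.jj (0, -p.1, -p.2) * g = (g⁻¹ * h.jj (0, p.1, p.2) * g)⁻¹
          rw [show (g⁻¹ * h.jj (0, p.1, p.2) * g)⁻¹ = g⁻¹ * (h.jj (0, p.1, p.2))⁻¹ * g by group,
            h.jj_inv]
          simp only [Prod.neg_mk, neg_zero] }
    have hinj : Function.Injective ψ := fun p r e => by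
      have := h.jj_inj (mul_left_cancel (mul_right_cancel (congrArg Subtype.val e)))
      exact Prod.ext (congrArg (fun q : V3 => q.2.1) this) (congrArg (fun q : V3 => q.2.2) this)
    have hK : Nat.card K = 3 ^ 2 := by
      show Nat.card (Set.range ψ) = 3 ^ 2
      rw [← Nat.card_congr (Equiv.ofInjective ψ hinj)]
      simp
    exact hK ▸ Subgroup.card_subgroup_dvd_card K
  have hT9 := Nat.le_of_dvd Nat.card_pos (card_ge_of_sylow_dvd T h9)
  -- every element of `T` is a fixed vector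
  have hshape : ∀ y : (T : Subgroup X), ∃ v : Fin 2 → ZMod 3, l *ᵥ v = v ∧
      ((y : X) : G) = h.P v 0 1 := by
    intro y
    have hyu : u * ((y : X) : G) = ((y : X) : G) * u :=
      (Subgroup.mem_centralizer_singleton_iff.1 (y : X).2).symm
    have hya : ((y : X) : G) * h.a = h.a * ((y : X) : G) := by
      refine mul_inv_eq_iff_eq_mul.1 ((c.N_cases (hTN _ y.2)).resolve_right fun e => ?_)
      obtain ⟨k, hk⟩ := T.isPGroup' y
      have hodd : ∀ n, Odd n → ((y : X) : G) ^ n * h.a * (((y : X) : G) ^ n)⁻¹ = h.a⁻¹ := by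
        rintro _ ⟨n, rfl⟩
        induction n with
        | zero => simpa using e
        | succ n ih =>
          rw [show 2 * (n + 1) + 1 = 1 + (1 + (2 * n + 1)) by ring, pow_add, pow_add, pow_one]
          calc ((y : X) : G) * ((y : X) * ((y : X) : G) ^ (2 * n + 1)) * h.a *
                (((y : X) : G) * ((y : X) * ((y : X) : G) ^ (2 * n + 1)))⁻¹
              = (y : X) * ((y : X) * (((y : X) : G) ^ (2 * n + 1) * h.a *
                  (((y : X) : G) ^ (2 * n + 1))⁻¹) * ((y : X) : G)⁻¹) * ((y : X) : G)⁻¹ := by group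
            _ = _ := by rw [ih, ← conj_inv, e, inv_inv, e]
      have := hodd (3 ^ k) (Odd.pow (by decide))
      rw [show ((y : X) : G) ^ 3 ^ k = 1 from
        congrArg (fun x : (T : Subgroup X) => ((x : X) : G)) hk, one_mul, inv_one, mul_one] at this
      exact PSpAmalgam84.inv_ne_self h.orderOf_a this.symm
    obtain ⟨v, z, A, e⟩ := (h.mem_cent _).1 hya
    have hA : A = 1 := by
      have hA3 : A * A * A = 1 := by
        obtain ⟨k, hk⟩ := T.isPGroup' y
        have hk' : h.P v z A ^ 3 ^ k = 1 := e ▸ congrArg (fun x : (T : Subgroup X) => ((x : X) : G)) hk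
        have hproj : ∀ n, ∃ v' z', h.P v z A ^ n = h.P v' z' (A ^ n) := fun n => by
          induction n with
          | zero => exact ⟨0, 0, by rw [pow_zero, pow_zero, h.P_one]⟩
          | succ n ih =>
            obtain ⟨v', z', e'⟩ := ih
            exact ⟨_, _, by rw [pow_succ, pow_succ, e', h.mul]⟩
        obtain ⟨v', z', e'⟩ := hproj (3 ^ k)
        rw [hk', ← h.P_one] at e'
        have hAk : A ^ 3 ^ k = 1 := ((h.inj _ _ _ _ _ _ e').2.2).symm
        have hA24 : A ^ 24 = 1 := by rw [← HeisenbergSL.card_SL23]; exact pow_card_eq_one'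
        obtain ⟨j, -, hj⟩ := (Nat.dvd_prime_pow Nat.prime_three).1 (orderOf_dvd_of_pow_eq_one hAk)
        have h24 := orderOf_dvd_of_pow_eq_one hA24
        rw [hj] at h24
        have hj1 : j ≤ 1 := by
          by_contra hlt
          exact absurd ((pow_dvd_pow 3 (show 2 ≤ j by omega)).trans h24) (by norm_num)
        have := orderOf_dvd_iff_pow_eq_one.1 (hj ▸ pow_dvd_pow 3 hj1 : orderOf A ∣ 3 ^ 1)
        rwa [pow_one, pow_succ, pow_two] at this
      have hcm := c.L_comm hl (e ▸ hyu)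
      rw [Matrix.eta_fin_two l, Matrix.eta_fin_two A.1] at hcm
      have hA3' := congrArg Subtype.val hA3
      simp only [Matrix.SpecialLinearGroup.coe_mul, Matrix.SpecialLinearGroup.coe_one] at hA3'
      rw [Matrix.eta_fin_two A.1] at hA3'
      refine Subtype.ext ((Matrix.eta_fin_two A.1).trans
        (no_unipotent _ _ _ _ _ _ _ _ (by rw [← Matrix.det_fin_two, A.2]) hA3' hcm hd))
    subst hA
    have e2 : h.P (l *ᵥ v) (-z) 1 = h.P v z 1 := by
      rw [← hl, e, hyu, mul_inv_cancel_right]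
    obtain ⟨ev, ez, -⟩ := h.inj _ _ _ _ _ _ e2
    refine ⟨v, ev, ?_⟩
    rw [← e, z_neg_self z ez]
  choose f hf1 hf2 using hshape
  have hle : Nat.card (T : Subgroup X) ≤ 3 := by
    refine le_trans (Nat.card_le_card_of_injective
      (fun y => (⟨f y, hf1 y⟩ : {w : Fin 2 → ZMod 3 // l *ᵥ w = w}))
      fun y y' e => Subtype.ext (Subtype.ext ?_)) ?_
    · rw [hf2, hf2, show f y = f y' from congrArg Subtype.val e]
    · rw [Nat.card_eq_fintype_card]
      conv_lhs => rw [Matrix.eta_fin_two l]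
      convert fix_card _ _ _ _ hd
  omega

/-- A subgroup of index two containing `C` but not `i`. -/
theorem exists_M : ∃ M : Subgroup G, M.Normal ∧ M.index = 2 ∧ c.i ∉ M ∧
    (∀ g, g * h.a = h.a * g → g ∈ M) := by
  haveI : Fact (Nat.Prime 2) := ⟨Nat.prime_two⟩
  obtain ⟨T, u, hQT, hTQ, hTc, hTN, huT, hu2, hua, hut⟩ := c.exists_T
  have huQ : ∀ g, g * u * g⁻¹ ∉ h.Q := fun g hm => by
    rcases h.Q_invol hm (by rw [conj_mul, hu2, mul_one, mul_inv_cancel]) with e | e
    · have := conj_eq_one_iff.1 e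
      rw [this, one_mul, inv_one, mul_one] at hua
      exact PSpAmalgam84.inv_ne_self h.orderOf_a hua.symm
    · exact c.not_conj_t hua hu2 hut g e
  have hrel : h.Q.relIndex (T : Subgroup G) = 2 := by
    have e := PSpAmalgam84.card_relIndex hQT
    rw [h.card_Q, hTc] at e
    omega
  obtain ⟨M, hMn, hMi, huM⟩ := Inv53.exists_index_two_notMem T h.Q hQT hrel (le_refl 1)
    (fun y hy hyQ => by
      rw [Nat.sub_self, pow_zero]
      refine lt_of_le_of_ne (Nat.one_le_iff_ne_zero.2 (orderOf_pos y).ne') fun e1 => hyQ ?_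
      rw [orderOf_eq_one_iff.1 e1.symm]
      exact h.Q.one_mem)
    (x := u) (by
      rw [pow_one]
      refine orderOf_eq_prime (by rw [pow_two, hu2]) fun e => huQ 1 ?_
      rw [e]
      simp [h.Q.one_mem]) huQ
  have hC : ∀ g, g * h.a = h.a * g → g ∈ M := fun g hg => h.C_le (K := M) (fun k _ h3 => by
    have h2 := M.sq_mem_of_index_two hMi k
    have h4 : k = (k ^ 2) ^ 2 := by
      rw [← pow_mul, show 2 * 2 = 3 + 1 by norm_num, pow_add, h3, one_mul, pow_one]
    rw [h4]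
    exact M.pow_mem h2 2) hg
  refine ⟨M, hMn, hMi, fun hi => huM ?_, hC⟩
  have hui : u * c.i * h.a = h.a * (u * c.i) := c.mul_comm_a hua c.i_a
  have := M.mul_mem (hC _ hui) (M.inv_mem hi)
  rwa [mul_inv_cancel_right] at this

end TwoCtx

end CfsgLib.Hayden48
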