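import Cfsg.Agent.Hayden48.OrbitCases
import Cfsg.Agent.Hayden48.Chi

/-!
# Weak closure: the conjugates of `a` in `S` lie in `J`
-/

set_option autoImplicit false

namespace CfsgLib.Hayden48

open Matrix
open CfsgLib.HeisenbergSL (SL23 det2 upper negOne)

theorem rep_one_z : ∀ z : ZMod 3, rep ((1, z, 0) : V3) = vu := by decide +kernel

theorem four_not_vu : ∀ z : ZMod 3, vu ∉ four z := by decide +kernel

theorem eight_not_vu : ∀ z : ZMod 3, vu ∉ eight z := by decide +kernel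

theorem four_shift : ∀ z : ZMod 3, ∀ p : V3,
    ((p.1, p.2.1 + (-z) * p.2.2, p.2.2) : V3) ∈ four z ↔ p ∈ four 0 := by decide +kernel

theorem eight_shift : ∀ z : ZMod 3, ∀ p : V3,
    ((p.1, p.2.1 + (-z) * p.2.2, p.2.2) : V3) ∈ eight z ↔ p ∈ eight 0 := by decide +kernel

theorem four_card : (four 0).card = 4 := by decide +kernel

theorem eight_card : (eight 0).card = 8 := by decide +kernel

namespace Hyp

variable {G : Type*} [Group G] (h : Hyp G)

/-- The centralizer of `a`. -/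
def C : Subgroup G := Subgroup.centralizer ({h.a} : Set G)

theorem mem_C {g : G} : g ∈ h.C ↔ g * h.a = h.a * g := Subgroup.mem_centralizer_singleton_iff

theorem P_mem_C (v : Fin 2 → ZMod 3) (z : ZMod 3) (A : SL23) : h.P v z A ∈ h.C :=
  h.mem_C.2 (h.P_comm_a v z A)

theorem exists_P {g : G} (hg : g ∈ h.C) : ∃ v z A, h.P v z A = g := (h.mem_cent g).1 (h.mem_C.1 hg)

theorem S_le_C : h.S ≤ h.C := fun _ hg => h.mem_C.2 (h.S_comm_a hg)

theorem J_le_C : h.J ≤ h.C := h.J_le_S.trans h.S_le_C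

theorem card_C [Finite G] : Nat.card h.C = 648 := by
  rw [← Nat.card_eq_of_bijective
    (fun p : (Fin 2 → ZMod 3) × ZMod 3 × SL23 => (⟨h.P p.1 p.2.1 p.2.2, h.P_mem_C _ _ _⟩ : h.C))
    ⟨fun p r e => by
      obtain ⟨h1, h2, h3⟩ := h.inj _ _ _ _ _ _ (congrArg Subtype.val e)
      exact Prod.ext h1 (Prod.ext h2 h3),
     fun g => by
      obtain ⟨v, z, A, e⟩ := h.exists_P g.2
      exact ⟨(v, z, A), Subtype.ext e⟩⟩]
  rw [Nat.card_prod, Nat.card_prod, HeisenbergSL.card_SL23]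
  simp

theorem shift_O (c : ZMod 3) (p : V3) :
    (h.shift c).O p ↔ h.O (p.1, p.2.1 + c * p.2.2, p.2.2) := by
  rw [O, h.shift_jj]
  exact Iff.rfl

theorem shift_four {z : ZMod 3} (hO : ∀ p, h.O p ↔ p ∈ four z) :
    ∀ p, (h.shift (-z)).O p ↔ p ∈ four 0 := fun p => by
  rw [h.shift_O, hO, four_shift]

theorem shift_eight {z : ZMod 3} (hO : ∀ p, h.O p ↔ p ∈ eight z) :
    ∀ p, (h.shift (-z)).O p ↔ p ∈ eight 0 := fun p => by
  rw [h.shift_O, hO, eight_shift]

theorem S_order_three [Finite G] {x : G} (hx : x ∈ h.S) (hu : ¬ h.O vu) (hc : IsConj h.a x) :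
    x ∈ h.J := by
  obtain ⟨g, hg⟩ := isConj_iff.1 hc
  have hx3 : x ^ 3 = 1 := by rw [← hg, conj_pow, h.J_exp h.a_mem]; simp
  obtain ⟨v, z, k, rfl⟩ := hx
  rcases h.S_cube hx3 with rfl | hJ
  · by_cases hv : v = 0
    · subst hv
      refine (h.mem_J _).2 ⟨0, z, 0, ?_⟩
      rw [show (![0, 0] : Fin 2 → ZMod 3) = 0 by ext i; fin_cases i <;> rfl]
    · exfalso
      rw [upper_zero] at hg
      have h1 : h.O (1, z, 0) := (isConj_iff.2 ⟨g, hg⟩).trans (h.R_conj v z hv)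
      rw [h.O_rep, rep_one_z] at h1
      exact hu h1
  · exact hJ

/-- A normal subgroup containing `N(J)` and `C(a)` is everything. -/
theorem eq_top_of_le [Finite G] (hu : ¬ h.O vu) (K : Subgroup G) [hK : K.Normal] (hH : h.H ≤ K)
    (hC : h.C ≤ K) : K = ⊤ := by
  haveI : Fact (Nat.Prime 3) := ⟨Nat.prime_three⟩
  refine eq_top_iff.2 fun g _ => ?_
  have hSK : h.S ≤ K := h.S_le_C.trans hC
  have haK : h.a ∈ K := hSK (h.J_le_S h.a_mem)
  set b := g * h.a * g⁻¹ with hb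
  have hbK : b ∈ K := hK.conj_mem _ haK g
  obtain ⟨T, hT⟩ := h.exists_sylow
  let TK : Sylow 3 K := T.subtype (hT ▸ hSK)
  have hbp : IsPGroup 3 (Subgroup.zpowers (⟨b, hbK⟩ : K)) := by
    refine IsPGroup.of_card (n := 1) ?_
    rw [Nat.card_zpowers, Subgroup.orderOf_mk, pow_one,
      show orderOf b = orderOf h.a from MulEquiv.orderOf_eq (MulAut.conj g) h.a, h.orderOf_a]
  obtain ⟨U, hU⟩ := hbp.exists_le_sylow
  obtain ⟨k, hk⟩ := MulAction.exists_smul_eq K U TK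
  have hm : (k : G) * b * (k : G)⁻¹ ∈ h.S := by
    have h1 : (MulAut.conj k) (⟨b, hbK⟩ : K) ∈ (k • U : Sylow 3 K).toSubgroup :=
      Subgroup.smul_mem_pointwise_smul _ _ _ (hU (Subgroup.mem_zpowers _))
    rw [hk] at h1
    have h2 : ((MulAut.conj k) (⟨b, hbK⟩ : K) : G) ∈ (T : Subgroup G) := h1
    rw [hT] at h2
    exact h2
  have he : ((k : G) * g) * h.a * ((k : G) * g)⁻¹ = (k : G) * b * (k : G)⁻¹ := by rw [hb]; group
  have hJ : (k : G) * b * (k : G)⁻¹ ∈ h.J :=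
    h.S_order_three hm hu (isConj_iff.2 ⟨(k : G) * g, he⟩)
  obtain ⟨n, hn, e⟩ := h.fusion h.a_mem (he.symm ▸ hJ)
  have hc : n⁻¹ * ((k : G) * g) ∈ h.C := h.mem_C.2 (by
    calc n⁻¹ * ((k : G) * g) * h.a = n⁻¹ * (((k : G) * g) * h.a * ((k : G) * g)⁻¹) * ((k : G) * g) := by group
      _ = n⁻¹ * (n * h.a * n⁻¹) * ((k : G) * g) := by rw [e]
      _ = _ := by group)
  have := mul_mem (inv_mem k.2) (mul_mem (hH hn) (hC hc))
  simpa using this

/-- No proper normal subgroup contains `N(J)` and `C(a)`; in particular none of index two. -/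
theorem index_ne_two_of_le [Finite G] (hu : ¬ h.O vu) (K : Subgroup G) (hH : h.H ≤ K) (hC : h.C ≤ K) :
    K.index ≠ 2 := fun h2 => by
  haveI := Subgroup.normal_of_index_eq_two h2
  rw [h.eq_top_of_le hu K hH hC, Subgroup.index_top] at h2
  norm_num at h2

end Hyp

end CfsgLib.Hayden48
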